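import Mathlib
import Cfsg.Prelude.Def_Blocks
import Cfsg.Agent.Lib.H20.Homo4
import Cfsg.Agent.Lib.H78.Cong

/-! Brauer's theorem on homocyclic Sylow 2-subgroups of rank 2 (S0949). -/

set_option autoImplicit false
set_option linter.unusedSectionVars false
set_option linter.unusedVariables false
set_option linter.style.haveILetI false
open Cfsg H20.Loc H20.GA H20.Blk H20.DefGrp H20.Defect H20.Orth H20.Height H20.NPC H20.PPart
  H20.NormQ H20.Col H20.Col2 H20.DefZero H20.Klein H20.Homo H20.Homo2 H20.Homo3 H20.Homo4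
open H20.LN (pull pull_apply)
open scoped ComplexConjugate Pointwise

universe u

namespace H20.Homo5

section fin
variable {G : Type u} [Group G] [Finite G] {M : Ideal AlgInt}
variable {P : Sylow 2 G} {u v : G} {σ : ↥(P : Subgroup G) ≃* ↥(P : Subgroup G)}
variable {α β : IrrCharacter G} {ea eb : ℤ} {c : IrrCharacter ↥(P : Subgroup G) → IrrCharacter G}

theorem pPrimeCore_eq_bot (hO : ∀ N : Subgroup G, N.Normal → Odd (Nat.card N) → N = ⊥) :
    pPrimeCore 2 G = ⊥ := by
  have h1 := H1.Cores.pPrimeCore_characteristic (G := G) 2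
  apply hO _ inferInstance
  have h2 := H1.Cores.coprime_card_pPrimeCore (G := G) 2
  exact Nat.coprime_two_right.1 h2

theorem ker_eq (hM : IsPModular 2 M) (h : V4.Hyp P u v) (hs : Setup P σ)
    (F : Flower M P σ α β ea eb c) (h16 : 16 ∣ Nat.card ↥(P : Subgroup G))
    (hO : ∀ N : Subgroup G, N.Normal → Odd (Nat.card N) → N = ⊥) : (P : Subgroup G).Normal := by
  classical
  haveI := pm_isPrime hM
  obtain ⟨e1, e2, e3, e4⟩ := degrees hM h hs F h16
  have hα1 : (α : G → ℂ) 1 = 1 := by rw [← charDegree_irr, e3]; norm_num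
  have hβ1 : (β : G → ℂ) 1 = 1 := by rw [← charDegree_irr, e4]; norm_num
  obtain ⟨fα, hfα⟩ := H18.CharQuot.exists_hom_of_degree_one (irr_char α) hα1
  obtain ⟨fβ, hfβ⟩ := H18.CharQuot.exists_hom_of_degree_one (irr_char β) hβ1
  set K : Subgroup G := fα.ker ⊓ fβ.ker with hK
  have hmem : ∀ g, g ∈ K ↔ (α : G → ℂ) g = 1 ∧ (β : G → ℂ) g = 1 := by
    intro g
    have e5 : (α : G → ℂ) g = (fα g : ℂ) := congrFun hfα g
    have e6 : (β : G → ℂ) g = (fβ g : ℂ) := congrFun hfβ g
    rw [hK, Subgroup.mem_inf, MonoidHom.mem_ker, MonoidHom.mem_ker, e5, e6, Units.val_eq_one,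
      Units.val_eq_one]
  have htwo : ∀ x : G, (∃ k : ℕ, orderOf x = 2 ^ k) → x ∈ K := by
    intro x hx
    by_cases hx1 : x = 1
    · rw [hx1]; exact K.one_mem
    obtain ⟨g, hg⟩ := exists_conj_mem_of_pelt P hx
    have hne : (⟨g * x * g⁻¹, hg⟩ : ↥(P : Subgroup G)) ≠ 1 := by
      intro e
      have e' : g * x * g⁻¹ = 1 := congrArg Subtype.val e
      apply hx1
      have : x = g⁻¹ * (g * x * g⁻¹) * g := by group
      rw [this, e']; group
    rw [hmem]
    have v1 := val_const h F.bα hne
    have v2 := val_const h F.bβ hne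
    rw [e1] at v1
    rw [e2] at v2
    constructor
    · rw [← irr_class α x g]; rw [v1]; norm_num
    · rw [← irr_class β x g]; rw [v2]; norm_num
  have hker : ∀ y ∈ K, ¬ 2 ∣ orderOf y → y = 1 := by
    intro y hy hyr
    obtain ⟨K0, hK0n, hK0s, hK0p, _⟩ := Cfsg.Agent.S0938.result 2 M hM (principalBlock M G)
      (isPBlock_blockOf (one G)) (one G) one_mem
    have hbot : K0 = ⊥ := hO K0 hK0n (by rwa [← Nat.not_even_iff_odd, even_iff_two_dvd])
    have hyK : y ∈ (K0 : Set G) := by
      rw [hK0s]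
      intro χ hχ
      by_cases c1 : χ = one G
      · rw [c1]; rfl
      by_cases c2 : χ = α
      · rw [c2, ((hmem y).1 hy).1, hα1]
      by_cases c3 : χ = β
      · rw [c3, ((hmem y).1 hy).2, hβ1]
      by_cases c4 : ∀ l, bb P l χ = 0
      · exfalso
        letI := Fintype.ofFinite (IrrCharacter ↥(P : Subgroup G))
        obtain ⟨x, hx1, hx, hne⟩ := exists_ne_zero hM hχ h.u1 (pelt h.hu)
        obtain ⟨g, hg⟩ := exists_conj_mem_of_pelt P hx
        have hne' : (⟨g * x * g⁻¹, hg⟩ : ↥(P : Subgroup G)) ≠ 1 := by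
          intro e
          have e' : g * x * g⁻¹ = 1 := congrArg Subtype.val e
          apply hx1
          have : x = g⁻¹ * (g * x * g⁻¹) * g := by group
          rw [this, e']; group
        apply hne
        rw [← irr_class χ x g]
        have := fourier h χ hne'
        rw [show (χ : G → ℂ) (g * x * g⁻¹) = (χ : G → ℂ) ((⟨g * x * g⁻¹, hg⟩ : ↥(P : Subgroup G)) : G)
          from rfl, this]
        simp [c4]
      · push Not at c4
        obtain ⟨m, hm⟩ := c4
        have hm1 : m ≠ one _ := by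
          rintro rfl
          exact hm (bb_self_one χ)
        have hc : χ = c m := by
          by_contra hne
          exact hm (F.zero m hm1 χ (mem_Bf.2 hχ) c1 c2 c3 hne)
        have r1 := reg_rel hM h F hm1 hyr
        have r2 := reg_rel hM h F hm1 (y := 1) (by rw [orderOf_one]; norm_num)
        rw [((hmem y).1 hy).1, ((hmem y).1 hy).2, ← hc] at r1
        rw [hα1, hβ1, ← hc] at r2
        have hb : (bb P m χ : ℂ) ≠ 0 := by exact_mod_cast hm
        apply mul_left_cancel₀ hb
        linear_combination r1 - r2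
    rw [hbot] at hyK
    exact hyK
  have hKp : IsPGroup 2 K := by
    rw [IsPGroup.iff_orderOf]
    rintro ⟨g, hg⟩
    obtain ⟨x, hx⟩ := H19.Second.exists_isPPart Nat.prime_two g
    obtain ⟨y, hxy, hc, hxo, hyo⟩ := hx
    have hxK := htwo x hxo
    have hyK : y ∈ K := by
      have : y = x⁻¹ * g := by rw [← hxy]; group
      rw [this]; exact K.mul_mem (K.inv_mem hxK) hg
    have hy1 := hker y hyK hyo
    rw [hy1, mul_one] at hxy
    obtain ⟨k, hk⟩ := hxo
    refine ⟨k, ?_⟩
    rw [Subgroup.orderOf_mk, ← hxy, hk]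
  have hPK : (P : Subgroup G) ≤ K := fun x hx => htwo x (pelt hx)
  have hPeq : K = (P : Subgroup G) := P.is_maximal' hKp hPK
  rw [← hPeq, hK]
  infer_instance

theorem centralizer_eq (P : Sylow 2 G) (hab : ∀ a ∈ P, ∀ b ∈ P, a * b = b * a)
    (hn : (P : Subgroup G).Normal)
    (hO : ∀ N : Subgroup G, N.Normal → Odd (Nat.card N) → N = ⊥) :
    Subgroup.centralizer (P : Set G) = (P : Subgroup G) := by
  have hPC : (P : Subgroup G) ≤ Subgroup.centralizer ((P : Subgroup G) : Set G) := by
    intro x hx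
    rw [Subgroup.mem_centralizer_iff]
    intro y hy
    exact hab y hy x hx
  haveI := hn
  set C := Subgroup.centralizer ((P : Subgroup G) : Set G) with hC
  haveI : C.Normal := by rw [hC]; infer_instance
  obtain ⟨k, hk⟩ := V4.index_pPrimeCore_of_complement (P.subtype hPC) (by
    intro x _
    rw [Subgroup.mem_centralizer_iff]
    intro y hy
    apply Subtype.ext
    exact Subgroup.mem_centralizer_iff.1 x.2 (y : G) hy)
  have h1 : pPrimeCore 2 C = ⊥ := by
    apply Subgroup.map_injective (Subgroup.subtype_injective C)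
    rw [H1.Cores.map_subtype_pPrimeCore, pPrimeCore_eq_bot hO, inf_bot_eq, Subgroup.map_bot]
  rw [h1, Subgroup.index_bot] at hk
  have h2 : IsPGroup 2 C := IsPGroup.of_card hk
  exact P.is_maximal' h2 hPC

theorem main (P : Sylow 2 G) (m : ℕ) (hm : 2 ≤ m)
    (e : (P : Subgroup G) ≃* Multiplicative (ZMod (2 ^ m) × ZMod (2 ^ m)))
    (hO : ∀ N : Subgroup G, N.Normal → Odd (Nat.card N) → N = ⊥) :
    (P : Subgroup G).Normal ∧ Subgroup.centralizer (P : Set G) = (P : Subgroup G) ∧
      ((P : Subgroup G).index = 1 ∨ (P : Subgroup G).index = 3) := by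
  obtain ⟨u, v, h⟩ := V4.hyp_of_homocyclic P m (by omega) e
  obtain ⟨M, hM⟩ := H78.Cong.exists_isPModular Nat.prime_two
  have h16 : 16 ∣ Nat.card ↥(P : Subgroup G) := by
    rw [Nat.card_congr e.toEquiv]
    have h1 : Nat.card (Multiplicative (ZMod (2 ^ m) × ZMod (2 ^ m))) = 2 ^ m * 2 ^ m := by
      rw [Nat.card_congr Multiplicative.toAdd, Nat.card_prod, Nat.card_zmod]
    rw [h1, ← pow_add]
    exact pow_dvd_pow 2 (by omega : 4 ≤ m + m)
  rcases V4.relIndex_eq h with h1 | h1
  · have h2 : Subgroup.normalizer (P : Set G) ≤ Subgroup.centralizer (P : Set G) :=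
      Subgroup.relIndex_eq_one.1 h1
    have hcomp := MonoidHom.ker_transferSylow_isComplement' P h2
    have hodd : Odd (Nat.card (MonoidHom.transferSylow P h2).ker) := by
      rw [← Nat.not_even_iff_odd, even_iff_two_dvd]
      exact MonoidHom.not_dvd_card_ker_transferSylow P h2
    have hbot := hO _ inferInstance hodd
    rw [hbot] at hcomp
    have htop : (P : Subgroup G) = ⊤ := Subgroup.isComplement'_bot_left.1 hcomp
    refine ⟨by rw [htop]; infer_instance, ?_, Or.inl (by rw [htop, Subgroup.index_top])⟩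
    have hn : (P : Subgroup G).Normal := by rw [htop]; infer_instance
    exact centralizer_eq P h.comm hn hO
  · obtain ⟨σ, hs⟩ := exists_setup h h1
    have h16' : 16 ≤ Nat.card ↥(P : Subgroup G) := Nat.le_of_dvd Nat.card_pos h16
    obtain ⟨α, β, ea, eb, c, F⟩ := exists_flower hM h hs h16'
    have hn := ker_eq hM h hs F h16 hO
    have hc := centralizer_eq P h.comm hn hO
    refine ⟨hn, hc, Or.inr ?_⟩
    have h2 : Subgroup.normalizer (P : Set G) = ⊤ := by
      haveI := hn
      exact LN_top hn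
    rw [hc, h2, Subgroup.relIndex_top_right] at h1
    exact h1
  where
  LN_top (hn : (P : Subgroup G).Normal) : Subgroup.normalizer (P : Set G) = ⊤ := by
    rw [eq_top_iff]
    intro g _
    refine Subgroup.mem_normalizer_iff.2 fun x => ?_
    constructor
    · intro hx; exact hn.conj_mem x hx g
    · intro hx
      have := hn.conj_mem _ hx g⁻¹
      simpa [mul_assoc] using this

end fin

end H20.Homo5
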