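import Mathlib
import Cfsg.Agent.Lib.H84.TrFun

/-!
# Brauer theory 1: additive functions on idempotents are integral combinations of ranks
-/

set_option autoImplicit false
set_option linter.unusedSectionVars false
set_option linter.unusedVariables false
set_option linter.style.haveILetI false

open Matrix Finset

namespace H20.BrT

section rank
variable {k : Type*} [Field k] {m : Type*} [Fintype m] [DecidableEq m]

theorem rank_add_orth {P Q : Matrix m m k} (hP : P * P = P) (hQ : Q * Q = Q) (h1 : P * Q = 0)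
    (h2 : Q * P = 0) : (P + Q).rank = P.rank + Q.rank := by
  classical
  unfold Matrix.rank
  have hr : LinearMap.range (P + Q).mulVecLin = LinearMap.range P.mulVecLin ⊔ LinearMap.range Q.mulVecLin := by
    apply le_antisymm
    · rintro _ ⟨x, rfl⟩
      rw [Matrix.mulVecLin_apply, Matrix.add_mulVec]
      exact Submodule.add_mem_sup ⟨x, rfl⟩ ⟨x, rfl⟩
    · apply sup_le
      · rintro _ ⟨x, rfl⟩
        refine ⟨P *ᵥ x, ?_⟩
        simp only [Matrix.mulVecLin_apply, Matrix.mulVec_mulVec, add_mul, hP, h2, add_zero]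
      · rintro _ ⟨x, rfl⟩
        refine ⟨Q *ᵥ x, ?_⟩
        simp only [Matrix.mulVecLin_apply, Matrix.mulVec_mulVec, add_mul, hQ, h1, zero_add]
  have hd : LinearMap.range P.mulVecLin ⊓ LinearMap.range Q.mulVecLin = ⊥ := by
    rw [Submodule.eq_bot_iff]
    rintro _ ⟨⟨x, rfl⟩, ⟨y, hy⟩⟩
    have h3 : P *ᵥ (Q *ᵥ y) = P *ᵥ (P *ᵥ x) := congrArg (P *ᵥ ·) hy
    rw [Matrix.mulVec_mulVec, Matrix.mulVec_mulVec, h1, hP, Matrix.zero_mulVec] at h3
    rw [Matrix.mulVecLin_apply, ← h3]
  have h4 := Submodule.finrank_sup_add_finrank_inf_eq (LinearMap.range P.mulVecLin)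
    (LinearMap.range Q.mulVecLin)
  rw [hd, finrank_bot, add_zero] at h4
  rw [hr, h4]

theorem rank_comm_idem {a b : Matrix m m k} (h1 : (a * b) * (a * b) = a * b)
    (h2 : (b * a) * (b * a) = b * a) : (a * b).rank = (b * a).rank := by
  apply le_antisymm
  · have h : a * b = a * (b * a) * b := by rw [← h1]; noncomm_ring
    calc (a * b).rank = (a * (b * a) * b).rank := by rw [← h]
      _ ≤ (a * (b * a)).rank := Matrix.rank_mul_le_left _ _
      _ ≤ (b * a).rank := Matrix.rank_mul_le_right _ _
  · have h : b * a = b * (a * b) * a := by rw [← h2]; noncomm_ring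
    calc (b * a).rank = (b * (a * b) * a).rank := by rw [← h]
      _ ≤ (b * (a * b)).rank := Matrix.rank_mul_le_left _ _
      _ ≤ (a * b).rank := Matrix.rank_mul_le_right _ _

end rank

variable {k Λ : Type*} [Field k] [Ring Λ] [Algebra k Λ] {A : Type*} [AddCommGroup A]

/-- additivity on orthogonal idempotents -/
def AddI (m : Λ → A) : Prop :=
  ∀ e f : Λ, IsIdempotentElem e → IsIdempotentElem f → e * f = 0 → f * e = 0 → m (e + f) = m e + m f

/-- invariance under equivalence -/
def EqI (m : Λ → A) : Prop :=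
  ∀ a b : Λ, IsIdempotentElem (a * b) → IsIdempotentElem (b * a) → m (a * b) = m (b * a)

theorem AddI.zero {m : Λ → A} (h : AddI m) : m 0 = 0 := by
  have := h 0 0 (by simp [IsIdempotentElem]) (by simp [IsIdempotentElem]) (by simp) (by simp)
  rw [add_zero] at this
  exact left_eq_add.1 this

section lift

variable {B : Type*} [Ring B] {π : Λ →+* B}

/-- equivalence of idempotents lifts modulo a nil ideal -/
theorem lift_equiv (hk : ∀ x, π x = 0 → IsNilpotent x) (hs : Function.Surjective π)
    {e f : Λ} (he : IsIdempotentElem e) (hf : IsIdempotentElem f) {α β : B}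
    (h1 : π e = α * β) (h2 : π f = β * α) : ∃ a b : Λ, a * b = e ∧ b * a = f ∧ e * a = a ∧ a * f = a ∧
      f * b = b ∧ b * e = b := by
  obtain ⟨a, ha⟩ := hs (π e * α * π f)
  obtain ⟨b, hb⟩ := hs (π f * β * π e)
  have hπe : π e * π e = π e := by rw [← map_mul, he.eq]
  have hπf : π f * π f = π f := by rw [← map_mul, hf.eq]
  set a' := e * a * f with ha'
  set b' := f * b * e with hb'
  have ha1 : π a' = π e * α * π f := by
    rw [ha', map_mul, map_mul, ha, ← mul_assoc, ← mul_assoc, hπe, mul_assoc _ (π f) (π f), hπf]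
  have hb1 : π b' = π f * β * π e := by
    rw [hb', map_mul, map_mul, hb, ← mul_assoc, ← mul_assoc, hπf, mul_assoc _ (π e) (π e), hπe]
  have hab : π (a' * b') = π e := by
    rw [map_mul, ha1, hb1]
    have : π e * α * π f * (π f * β * π e) = π e * (α * (π f * π f) * β) * π e := by noncomm_ring
    rw [this, hπf, h2]
    have h3 : α * (β * α) * β = (α * β) * (α * β) := by noncomm_ring
    rw [h3, ← h1, hπe, hπe, hπe]
  have hba : π (b' * a') = π f := by
    rw [map_mul, ha1, hb1]
    have : π f * β * π e * (π e * α * π f) = π f * (β * (π e * π e) * α) * π f := by noncomm_ring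
    rw [this, hπe, h1]
    have h3 : β * (α * β) * α = (β * α) * (β * α) := by noncomm_ring
    rw [h3, ← h2, hπf, hπf, hπf]
  have hea : e * a' = a' := by rw [ha', ← mul_assoc, ← mul_assoc, he.eq]
  have haf : a' * f = a' := by rw [ha', mul_assoc, hf.eq]
  have hfb : f * b' = b' := by rw [hb', ← mul_assoc, ← mul_assoc, hf.eq]
  have hbe : b' * e = b' := by rw [hb', mul_assoc, he.eq]
  obtain ⟨s, hs1, hs2, hs3, hs4⟩ := H84.TrFun.corner_inv hk he (w := a' * b') (by rw [← mul_assoc, hea])
    (by rw [mul_assoc, hbe]) hab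
  have e1 : a' * (b' * s) = e := by rw [← mul_assoc, hs3]
  set g := (b' * s) * a' with hg
  have hgi : IsIdempotentElem g := by
    unfold IsIdempotentElem
    rw [hg]
    have : b' * s * a' * (b' * s * a') = b' * (s * (a' * b') * s) * a' := by noncomm_ring
    rw [this, hs4, hs1]
  have hfg : f * g = g := by rw [hg, ← mul_assoc f, ← mul_assoc f, hfb]
  have hgf : g * f = g := by rw [hg, mul_assoc, haf]
  have hπg : π g = π f := by
    have hπs : π s = π e := by
      calc π s = π e * π s := by rw [← map_mul, hs1]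
        _ = π (a' * b') * π s := by rw [hab]
        _ = π e := by rw [← map_mul, hs3]
    rw [hg, map_mul, map_mul, hπs, ← map_mul, hbe, ← map_mul, hba]
  have hfg0 : f - g = 0 := by
    apply H84.TrFun.idem_nilp
    · unfold IsIdempotentElem
      rw [mul_sub, sub_mul, sub_mul, hf.eq, hgf, hfg, hgi.eq]; abel
    · exact hk _ (by rw [map_sub, hπg, sub_self])
  have hfg' : g = f := (sub_eq_zero.1 hfg0).symm
  refine ⟨a', b' * s, e1, hfg', hea, haf, by rw [← mul_assoc, hfb], ?_⟩
  rw [mul_assoc, hs2]

end lift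

/-- Wedderburn data modulo the radical with primitive idempotents. -/
structure Dat (k Λ : Type*) [Field k] [Ring Λ] [Algebra k Λ] where
  n : ℕ
  d : Fin n → ℕ
  hd : ∀ i, NeZero (d i)
  π : Λ →ₐ[k] ((i : Fin n) → Matrix (Fin (d i)) (Fin (d i)) k)
  surj : Function.Surjective π
  nil : ∀ x, π x = 0 → IsNilpotent x
  E : Fin n → Λ
  idem : ∀ i, IsIdempotentElem (E i)
  πE : ∀ i, π (E i) = Pi.single i (haveI := hd i; vecMulVec (Pi.single 0 1) (Pi.single 0 1))

namespace Dat

variable (D : Dat k Λ)

theorem exists_dat [IsAlgClosed k] [FiniteDimensional k Λ] : Nonempty (Dat k Λ) := by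
  classical
  obtain ⟨n, d, hd, π, hs, hk, -⟩ := H84.TrFun.exists_wedderburn k Λ
  let ρ : Λ →+* ((i : Fin n) → Matrix (Fin (d i)) (Fin (d i)) k) := π.toRingHom
  have hE : ∀ i : Fin n, ∃ e : Λ, IsIdempotentElem e ∧
      π e = Pi.single i (haveI := hd i; vecMulVec (Pi.single 0 1) (Pi.single 0 1)) := by
    intro i
    haveI := hd i
    obtain ⟨g, hg, hgf⟩ := exists_isIdempotentElem_eq_of_ker_isNilpotent ρ (fun x hx => hk x hx)
      (Pi.single i (vecMulVec (Pi.single 0 1) (Pi.single 0 1)))
      (by obtain ⟨y, hy⟩ := hs (Pi.single i (vecMulVec (Pi.single 0 1) (Pi.single 0 1))); exact ⟨y, hy⟩)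
      (H84.TrFun.single_idem i (by simp))
    exact ⟨g, hg, hgf⟩
  choose E hEi hEπ using hE
  exact ⟨⟨n, d, hd, π, hs, hk, E, hEi, hEπ⟩⟩

/-- the rank of an element in the `i`-th simple quotient -/
noncomputable def rk (e : Λ) (i : Fin D.n) : ℕ := (D.π e i).rank

theorem pi_mul (e f : Λ) (i : Fin D.n) : D.π (e * f) i = D.π e i * D.π f i := by
  rw [map_mul, Pi.mul_apply]

theorem rk_add {e f : Λ} (he : IsIdempotentElem e) (hf : IsIdempotentElem f) (h1 : e * f = 0)
    (h2 : f * e = 0) (i : Fin D.n) : D.rk (e + f) i = D.rk e i + D.rk f i := by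
  unfold rk
  rw [map_add, Pi.add_apply]
  apply rank_add_orth
  · rw [← pi_mul, he.eq]
  · rw [← pi_mul, hf.eq]
  · rw [← pi_mul, h1, map_zero, Pi.zero_apply]
  · rw [← pi_mul, h2, map_zero, Pi.zero_apply]

theorem rk_comm {a b : Λ} (h1 : IsIdempotentElem (a * b)) (h2 : IsIdempotentElem (b * a))
    (i : Fin D.n) : D.rk (a * b) i = D.rk (b * a) i := by
  unfold rk
  rw [pi_mul, pi_mul]
  apply rank_comm_idem
  · rw [← pi_mul, ← pi_mul, h1.eq]
  · rw [← pi_mul, ← pi_mul, h2.eq]

theorem rank_vecMulVec_one {m : ℕ} {u v : Fin m → k} (h : v ⬝ᵥ u = 1) : (vecMulVec u v).rank = 1 := by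
  classical
  apply le_antisymm
  · exact Matrix.rank_vecMulVec_le u v
  · rw [Nat.one_le_iff_ne_zero]
    intro h0
    rw [Matrix.rank, Submodule.finrank_eq_zero, LinearMap.range_eq_bot] at h0
    have h1 : (vecMulVec u v).mulVecLin u = 0 := by rw [h0]; rfl
    rw [Matrix.mulVecLin_apply, vecMulVec_mulVec, h] at h1
    have h2 : u = 0 := by simpa using h1
    rw [h2, dotProduct_zero] at h
    exact zero_ne_one h

theorem rk_zero (i : Fin D.n) : D.rk 0 i = 0 := by
  unfold rk
  rw [map_zero, Pi.zero_apply, Matrix.rank_zero]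

/-- additive functions are combinations of ranks -/
theorem eq_sum [FiniteDimensional k Λ] {m : Λ → A} (hadd : AddI m) (hm : EqI m) {e : Λ}
    (he : IsIdempotentElem e) : m e = ∑ i, D.rk e i • m (D.E i) := by
  classical
  have hk' : ∀ x, D.π.toRingHom x = 0 → IsNilpotent x := D.nil
  have hs' : Function.Surjective D.π.toRingHom := D.surj
  let e0 : (i : Fin D.n) → Fin (D.d i) → k := fun i => Pi.single (haveI := D.hd i; (0 : Fin (D.d i))) 1
  have he0 : ∀ i, e0 i ⬝ᵥ e0 i = 1 := by
    intro i
    simp [e0]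
  induction hN : Module.finrank k (LinearMap.range (LinearMap.mulLeft k e)) using
      Nat.strong_induction_on generalizing e with
  | _ N ih =>
    by_cases he0' : e = 0
    · subst he0'
      rw [hadd.zero]
      symm
      apply Finset.sum_eq_zero
      intro i _
      rw [rk_zero, zero_smul]
    · have hπe : D.π e ≠ 0 := fun h => he0' (H84.TrFun.idem_nilp he (D.nil e h))
      have hex : ∃ i, D.π e i ≠ 0 := by
        by_contra hcon
        push Not at hcon
        exact hπe (funext hcon)
      obtain ⟨i, hi⟩ := hex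
      have hF : D.π e i * D.π e i = D.π e i := by
        rw [← Pi.mul_apply, ← map_mul, he.eq]
      obtain ⟨u, v, huv, h1, h2⟩ := H84.TrFun.exists_rank_one hF hi
      obtain ⟨f, hf, hfπ, hef, hfe⟩ := H84.TrFun.exists_sub (π := D.π.toRingHom) hk' hs' he
        (f' := Pi.single i (vecMulVec u v)) (H84.TrFun.single_idem i huv)
        (by
          show D.π e * _ = _
          rw [H84.TrFun.mul_single', h1])
        (by
          show _ * D.π e = _
          rw [H84.TrFun.single_mul', h2])
      have hfπ' : D.π f = Pi.single i (vecMulVec u v) := hfπ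
      have hmf : m f = m (D.E i) := by
        obtain ⟨a, b, hab, hba, -⟩ := lift_equiv (π := D.π.toRingHom) hk' hs' hf (D.idem i)
          (α := Pi.single i (vecMulVec u (e0 i))) (β := Pi.single i (vecMulVec (e0 i) v)) (by
            show D.π f = _
            rw [hfπ', H84.TrFun.single_mul_single', vecMulVec_mul_vecMulVec, he0, one_smul]) (by
            show D.π (D.E i) = _
            rw [D.πE, H84.TrFun.single_mul_single', vecMulVec_mul_vecMulVec, huv, one_smul])
        have h5 := hm a b (by rw [hab]; exact hf) (by rw [hba]; exact D.idem i)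
        rwa [hab, hba] at h5
      have hf0 : f ≠ 0 := by
        rintro rfl
        rw [map_zero] at hfπ'
        have h3 := congrFun hfπ' i
        rw [Pi.single_eq_same] at h3
        have h4 := congrArg Matrix.trace h3
        rw [Matrix.trace_vecMulVec, dotProduct_comm, huv] at h4
        simp at h4
      have hei : IsIdempotentElem (e - f) := by
        unfold IsIdempotentElem
        rw [mul_sub, sub_mul, sub_mul, he.eq, hfe, hef, hf.eq]; abel
      have hrec := ih _ (hN ▸ H84.TrFun.finrank_lt hf.eq hef hfe hf0 he.eq) hei rfl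
      have hsum : e = (e - f) + f := by abel
      have o1 : (e - f) * f = 0 := by rw [sub_mul, hef, hf.eq, sub_self]
      have o2 : f * (e - f) = 0 := by rw [mul_sub, hfe, hf.eq, sub_self]
      have hme : m e = m (e - f) + m f := by
        conv_lhs => rw [hsum]
        exact hadd _ _ hei hf o1 o2
      have hrk : ∀ j, D.rk e j = D.rk (e - f) j + (if j = i then 1 else 0) := by
        intro j
        have h6 : D.rk e j = D.rk (e - f) j + D.rk f j := by
          conv_lhs => rw [hsum]
          exact D.rk_add hei hf o1 o2 j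
        rw [h6]
        congr 1
        split_ifs with hj
        · subst hj
          unfold rk
          rw [hfπ', Pi.single_eq_same]
          exact rank_vecMulVec_one huv
        · unfold rk
          rw [hfπ', Pi.single_eq_of_ne hj, Matrix.rank_zero]
      rw [hme, hrec, hmf]
      simp only [hrk, add_smul, Finset.sum_add_distrib, ite_smul, one_smul, zero_smul,
        Finset.sum_ite_eq', Finset.mem_univ, if_true]

end Dat

end H20.BrT
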