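import Mathlib
import Cfsg.Prelude.Def_Blocks
import Cfsg.Agent.Lib.H20.BrT1
import Cfsg.Agent.Lib.H84.Star5

/-!
# Brauer theory 2: values of characters at idempotents of `k[G]`; idempotents of linear characters
-/

set_option autoImplicit false
set_option linter.unusedSectionVars false
set_option linter.unusedVariables false
set_option linter.style.haveILetI false

open Cfsg H20.Loc H20.GA H20.Blk H80.GA H80.GB H80.BR1 H84.RG H84.Star H18.CharBasic H18.CharOrtho
open scoped ComplexConjugate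

universe u

namespace H20.BrT

variable {M : Ideal AlgInt} [M.IsMaximal] {G : Type u} [Group G] [Finite G] {p : ℕ}

variable (M G) in
/-- the group algebra over the residue field -/
abbrev KG := MonoidAlgebra (ResF M) G

omit [Finite G] in
theorem mem_Sp_one (a : KG M G) : a ∈ Sp (ResF M) (CZ (1 : G)) := by
  have h : CZ (1 : G) = ⊤ := by
    rw [eq_top_iff]
    intro g _
    rw [Subgroup.mem_centralizer_iff]
    intro h hh
    have h1 : h = 1 := by
      have : h ∈ Subgroup.zpowers (1 : G) := hh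
      rwa [Subgroup.zpowers_one_eq_bot, Subgroup.mem_bot] at this
    rw [h1, one_mul, mul_one]
  rw [h]
  exact Sp_top a

/-- value of a class function at (a lift of) an idempotent -/
noncomputable def val (θ : G → ℂ) (e : KG M G) : ℂ := TT θ 1 e

theorem isLift_one {ε : AR M G} (hε : IsIdempotentElem ε) : IsLift 1 (iK M G ε) ε :=
  ⟨hε, by rw [xx_one]; exact Commute.one_left _, br_of_mem_Sp (mem_Sp_one _)⟩

theorem one_pow_pp : (1 : G) ^ p ^ 0 = 1 := one_pow _

theorem val_lift (hM : IsPModular p M) {θ : G → ℂ} (hθ : IsClassFunction G θ) {ε : AR M G}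
    (hε : IsIdempotentElem ε) : val θ (iK M G ε) = evA θ (iC M G ε) := by
  unfold val
  rw [TT_eq hM hθ (one_pow_pp (p := p)) (isLift_one hε), xx_one, mul_one]

theorem exists_lift (hM : IsPModular p M) {e : KG M G} (he : IsIdempotentElem e) :
    ∃ ε : AR M G, IsIdempotentElem ε ∧ iK M G ε = e := by
  obtain ⟨ε, h⟩ := exists_isLift (x := 1) hM (i := e) he.eq (mem_Sp_one e)
  refine ⟨ε, h.idem, ?_⟩
  have h3 := h.br
  rwa [br_of_mem_Sp (mem_Sp_one _)] at h3

theorem addI_val (hM : IsPModular p M) {θ : G → ℂ} (hθ : IsClassFunction G θ) :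
    AddI (val (M := M) θ) := fun e f he hf h1 h2 =>
  TT_add hM hθ (one_pow_pp (p := p)) he.eq hf.eq h1 h2 (mem_Sp_one _) (mem_Sp_one _)

theorem eqI_val (hM : IsPModular p M) {θ : G → ℂ} (hθ : IsClassFunction G θ) :
    EqI (val (M := M) θ) := fun a b h1 h2 =>
  TT_comm hM hθ (one_pow_pp (p := p)) (mem_Sp_one _) (mem_Sp_one _) h1.eq h2.eq

/-- the value of a character at an idempotent is a natural number -/
theorem exists_nat (hM : IsPModular p M) {χ : G → ℂ} (hχ : IsCharacter G χ) {e : KG M G}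
    (he : IsIdempotentElem e) : ∃ n : ℕ, val χ e = n := by
  obtain ⟨ε, hε, rfl⟩ := exists_lift hM he
  rw [val_lift hM (isClassFunction_of_isCharacter hχ) hε]
  have h1 := isCharacter_val hχ (Q := (⊥ : Subgroup G)) (e := iC M G ε)
    (by rw [← map_mul, hε.eq]) (by
      intro x hx
      rw [Subgroup.mem_bot] at hx
      rw [hx]
      exact Commute.one_left _)
  obtain ⟨n, hn⟩ := exists_degree h1
  refine ⟨n, ?_⟩
  rw [← hn]
  show evA χ (iC M G ε) = evA χ (iC M G ε * MonoidAlgebra.single (1 : G) 1)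
  rw [← MonoidAlgebra.one_def, mul_one]

theorem val_add_fun (hM : IsPModular p M) {θ η : G → ℂ} (hθ : IsClassFunction G θ)
    (hη : IsClassFunction G η) {e : KG M G} (he : IsIdempotentElem e) :
    val (θ + η) e = val θ e + val η e := by
  obtain ⟨ε, hε, rfl⟩ := exists_lift hM he
  letI := Fintype.ofFinite G
  rw [val_lift hM hθ hε, val_lift hM hη hε, val_lift hM (fun g h => by
    simp only [Pi.add_apply, hθ g h, hη g h]) hε]
  rw [evA_eq_sum, evA_eq_sum, evA_eq_sum, ← Finset.sum_add_distrib]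
  exact Finset.sum_congr rfl fun g _ => by rw [Pi.add_apply, mul_add]

section sc

/-- coercion to the local ring -/
noncomputable def sc (M : Ideal AlgInt) [M.IsMaximal] (z : ℂ) : locRing M := by
  classical exact if h : MemLocalRing M z then ⟨z, h⟩ else 0

theorem sc_coe {z : ℂ} (h : MemLocalRing M z) : ((sc M z : locRing M) : ℂ) = z := by
  unfold sc
  rw [dif_pos h]

theorem sc_mul {z w : ℂ} (hz : MemLocalRing M z) (hw : MemLocalRing M w) :
    sc M (z * w) = sc M z * sc M w := by
  apply Subtype.ext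
  rw [Subring.coe_mul, sc_coe hz, sc_coe hw, sc_coe (locR_mul hz hw)]

theorem sc_one : sc M 1 = 1 := by
  apply Subtype.ext
  rw [sc_coe locR_one, Subring.coe_one]

/-- a central element with local integral coefficients -/
noncomputable def zR (z : ZG G) : AR M G :=
  MonoidAlgebra.ofCoeff (Finsupp.equivFunOnFinite.symm fun g => sc M (zc z g))

theorem coeff_zR (z : ZG G) (g : G) : (zR (M := M) z).coeff g = sc M (zc z g) := rfl

theorem iC_zR {z : ZG G} (hz : z ∈ zr M G) : iC M G (zR z) = toA z := by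
  apply MonoidAlgebra.coeff_injective
  ext g
  rw [coeff_iC, coeff_zR, sc_coe (hz g)]
  rfl

theorem iK_zR {z : ZG G} (hz : z ∈ zr M G) : iK M G (zR z) = redZ z := by
  apply MonoidAlgebra.coeff_injective
  ext g
  rw [coeff_iK, coeff_zR]
  show redFun M ((sc M (zc z g) : locRing M) : ℂ) = redFun M (zc z g)
  rw [sc_coe (hz g)]

theorem zR_comm {z : ZG G} (hz : z ∈ zr M G) (a : AR M G) : zR z * a = a * zR z := by
  apply iC_injective
  rw [map_mul, map_mul, iC_zR hz, toA_comm]

end sc

section lin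

/-- idempotent of a linear character of a subgroup -/
noncomputable def el (M : Ideal AlgInt) [M.IsMaximal] (H : Subgroup G) (f : H →* ℂˣ) : AR M G := by
  classical
  haveI := Fintype.ofFinite H
  exact ∑ h : H, MonoidAlgebra.single (h : G) (sc M ((Nat.card H : ℂ)⁻¹ * (f h⁻¹ : ℂ)))

theorem el_eq (H : Subgroup G) [hH : Fintype H] (f : H →* ℂˣ) :
    el M H f = ∑ h : H, MonoidAlgebra.single (h : G) (sc M ((Nat.card H : ℂ)⁻¹ * (f h⁻¹ : ℂ))) := by
  unfold el
  congr!

theorem hom_integral {H : Type*} [Group H] [Finite H] (f : H →* ℂˣ) (h : H) : IsIntegral ℤ (f h : ℂ) := by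
  have h1 : (f h : ℂ) ^ Nat.card H = 1 := by
    rw [← Units.val_pow_eq_pow_val, ← map_pow, pow_card_eq_one', map_one, Units.val_one]
  exact IsIntegral.of_pow Nat.card_pos (h1 ▸ isIntegral_one)

theorem el_mem (hM : IsPModular p M) {H : Subgroup G} (hH : ¬ p ∣ Nat.card H) (f : H →* ℂˣ) (h : H) :
    MemLocalRing M ((Nat.card H : ℂ)⁻¹ * (f h : ℂ)) :=
  haveI := pm_isPrime hM
  locR_mul (locR_natCast_inv hM hH) (isIntegral_mem (hom_integral f h))

theorem xx_mul_el (hM : IsPModular p M) {H : Subgroup G} (hH : ¬ p ∣ Nat.card H) (f : H →* ℂˣ) (x : H) :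
    xx (x : G) * el M H f = sc M (f x : ℂ) • el M H f := by
  classical
  haveI := Fintype.ofFinite H
  haveI := pm_isPrime hM
  rw [el_eq, Finset.mul_sum, Finset.smul_sum]
  unfold xx
  refine Fintype.sum_equiv (Equiv.mulLeft x) _ _ fun h => ?_
  rw [MonoidAlgebra.single_mul_single, one_mul, MonoidAlgebra.smul_single, smul_eq_mul,
    ← sc_mul (isIntegral_mem (hom_integral f x)) (el_mem hM hH f _)]
  simp only [Equiv.coe_mulLeft, Subgroup.coe_mul, mul_inv_rev, map_mul, Units.val_mul, map_inv,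
    Units.val_inv_eq_inv_val]
  congr 2
  have h0 : (f x : ℂ) ≠ 0 := Units.ne_zero _
  field_simp

theorem el_idem (hM : IsPModular p M) {H : Subgroup G} (hH : ¬ p ∣ Nat.card H) (f : H →* ℂˣ) :
    IsIdempotentElem (el M H f) := by
  classical
  haveI := Fintype.ofFinite H
  haveI := pm_isPrime hM
  have h1 : el M H f * el M H f = ∑ h : H, sc M ((Nat.card H : ℂ)⁻¹ * (f h⁻¹ : ℂ)) • (xx (h : G) * el M H f) := by
    conv_lhs => rw [el_eq (M := M) H f]
    rw [Finset.sum_mul, ← el_eq]
    refine Finset.sum_congr rfl fun h _ => ?_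
    unfold xx
    rw [← smul_mul_assoc, MonoidAlgebra.smul_single, smul_eq_mul, mul_one]
  unfold IsIdempotentElem
  rw [h1, Finset.sum_congr rfl (fun h _ => by rw [xx_mul_el hM hH, smul_smul])]
  rw [← Finset.sum_smul]
  have h2 : ∑ h : H, sc M ((Nat.card H : ℂ)⁻¹ * (f h⁻¹ : ℂ)) * sc M (f h : ℂ) = 1 := by
    apply Subtype.ext
    rw [Subring.coe_one, AddSubmonoidClass.coe_finset_sum]
    have h3 : ∀ h : H, ((sc M ((Nat.card H : ℂ)⁻¹ * (f h⁻¹ : ℂ)) * sc M (f h : ℂ) : locRing M) : ℂ) =
        (Nat.card H : ℂ)⁻¹ := by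
      intro h
      rw [Subring.coe_mul, sc_coe (el_mem hM hH f _), sc_coe (isIntegral_mem (hom_integral f h)), map_inv,
        Units.val_inv_eq_inv_val, mul_assoc, inv_mul_cancel₀ (Units.ne_zero _), mul_one]
    rw [Finset.sum_congr rfl fun h _ => h3 h, Finset.sum_const, Finset.card_univ, nsmul_eq_mul,
      ← Nat.card_eq_fintype_card, mul_inv_cancel₀]
    exact_mod_cast Nat.card_pos.ne'
  rw [h2, one_smul]

theorem evA_el (hM : IsPModular p M) {H : Subgroup G} [Fintype H] (hH : ¬ p ∣ Nat.card H) (f : H →* ℂˣ)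
    (θ : G → ℂ) : evA θ (iC M G (el M H f)) = classInner (fun h : H => θ h) (fun h => (f h : ℂ)) := by
  classical
  have h1 : iC M G (el M H f) = ∑ h : H, MonoidAlgebra.single (h : G) ((Nat.card H : ℂ)⁻¹ * (f h⁻¹ : ℂ)) := by
    rw [el_eq, map_sum]
    refine Finset.sum_congr rfl fun h _ => ?_
    unfold iC
    rw [MonoidAlgebra.mapRingHom_single]
    congr 1
    exact sc_coe (el_mem hM hH f _)
  rw [h1, map_sum, classInner, Finset.mul_sum]
  refine Finset.sum_congr rfl fun h _ => ?_
  rw [evA_single, hom_inv_eq_conj]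
  ring

end lin

end H20.BrT
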