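import Mathlib
import Cfsg.Prelude.Def_Blocks
import Cfsg.Prelude.Def_BlockRank
import Cfsg.Agent.Lib.H20.BrT2

/-!
# Brauer theory 3: Brauer characters
-/

set_option autoImplicit false
set_option linter.unusedSectionVars false
set_option linter.unusedVariables false
set_option linter.style.haveILetI false

open Cfsg H20.Loc H20.GA H20.Blk H80.GA H80.GB H80.BR1 H84.RG H84.Star H18.CharBasic H18.CharOrtho
open scoped ComplexConjugate

universe u

namespace H20.BrT

variable {M : Ideal AlgInt} [M.IsMaximal] {G : Type u} [Group G] [Finite G] {p : ℕ}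

section val

theorem val_smul_fun (hM : IsPModular p M) (c : ℂ) {θ : G → ℂ} (hθ : IsClassFunction G θ)
    {e : KG M G} (he : IsIdempotentElem e) : val (fun g => c * θ g) e = c * val θ e := by
  obtain ⟨ε, hε, rfl⟩ := exists_lift hM he
  letI := Fintype.ofFinite G
  rw [val_lift hM hθ hε, val_lift hM (fun g h => by simp only [hθ g h]) hε, evA_eq_sum, evA_eq_sum,
    Finset.mul_sum]
  exact Finset.sum_congr rfl fun g _ => by ring

theorem class_sum {ι : Type*} (s : Finset ι) {θ : ι → G → ℂ} (c : ι → ℂ)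
    (hθ : ∀ i, IsClassFunction G (θ i)) : IsClassFunction G (fun g => ∑ i ∈ s, c i * θ i g) := by
  intro g h
  exact Finset.sum_congr rfl fun i _ => by rw [hθ i g h]

theorem val_sum_fun (hM : IsPModular p M) {ι : Type*} (s : Finset ι) {θ : ι → G → ℂ} (c : ι → ℂ)
    (hθ : ∀ i, IsClassFunction G (θ i)) {e : KG M G} (he : IsIdempotentElem e) :
    val (fun g => ∑ i ∈ s, c i * θ i g) e = ∑ i ∈ s, c i * val (θ i) e := by
  obtain ⟨ε, hε, rfl⟩ := exists_lift hM he
  letI := Fintype.ofFinite G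
  rw [val_lift hM (class_sum s c hθ) hε, evA_eq_sum]
  simp_rw [Finset.mul_sum]
  rw [Finset.sum_comm]
  refine Finset.sum_congr rfl fun i _ => ?_
  rw [val_lift hM (hθ i) hε, evA_eq_sum, Finset.mul_sum]
  exact Finset.sum_congr rfl fun g _ => by ring

end val

section spec

/-- the homomorphism of an irreducible character of a commutative group -/
theorem exists_hm {C : Type*} [Group C] [Finite C] (hC : ∀ a b : C, a * b = b * a) (ψ : IrrCharacter C) :
    ∃ f : C →* ℂˣ, ∀ c, (f c : ℂ) = (ψ : C → ℂ) c := by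
  have h1 := H18.CharQuot.degree_one_of_comm hC ψ.2
  obtain ⟨f, hf⟩ := H18.CharQuot.exists_hom_of_degree_one (isCharacter_of_isIrr ψ.2) h1
  exact ⟨f, fun c => (congrFun hf c).symm⟩

variable (M) in
/-- idempotents of a cyclic group -/
noncomputable def ec (g : G) (ψ : IrrCharacter (Subgroup.zpowers g)) : AR M G :=
  el M (Subgroup.zpowers g) (exists_hm (fun a b => Subgroup.zpowers_isMulCommutative g |>.is_comm.comm a b) ψ).choose

theorem hm_spec (g : G) (ψ : IrrCharacter (Subgroup.zpowers g)) (c : Subgroup.zpowers g) :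
    ((exists_hm (fun a b => Subgroup.zpowers_isMulCommutative g |>.is_comm.comm a b) ψ).choose c : ℂ) =
      (ψ : Subgroup.zpowers g → ℂ) c :=
  (exists_hm (fun a b => Subgroup.zpowers_isMulCommutative g |>.is_comm.comm a b) ψ).choose_spec c

theorem card_zp {g : G} (hg : IsPRegular p g) : ¬ p ∣ Nat.card (Subgroup.zpowers g) := by
  rw [Nat.card_zpowers]; exact hg

theorem ec_idem (hM : IsPModular p M) {g : G} (hg : IsPRegular p g) (ψ : IrrCharacter (Subgroup.zpowers g)) :
    IsIdempotentElem (ec M g ψ) := el_idem hM (card_zp hg) _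

theorem irr_memR (ψ : IrrCharacter (Subgroup.zpowers (1 : G))) : True := trivial

theorem single_sum' {ι R : Type*} [Semiring R] (s : Finset ι) (x : G) (f : ι → R) :
    ∑ i ∈ s, MonoidAlgebra.single x (f i) = MonoidAlgebra.single x (∑ i ∈ s, f i) := by
  classical
  induction s using Finset.induction_on with
  | empty => simp
  | insert a s ha ih => rw [Finset.sum_insert ha, Finset.sum_insert ha, ih, MonoidAlgebra.single_add]

theorem xx_eq_sum (hM : IsPModular p M) {g : G} (hg : IsPRegular p g)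
    [Fintype (IrrCharacter (Subgroup.zpowers g))] :
    (xx g : AR M G) = ∑ ψ : IrrCharacter (Subgroup.zpowers g),
      sc M ((ψ : Subgroup.zpowers g → ℂ) ⟨g, Subgroup.mem_zpowers g⟩) • ec M g ψ := by
  classical
  haveI := pm_isPrime hM
  letI := Fintype.ofFinite (Subgroup.zpowers g)
  have hCc := card_zp (p := p) hg
  have hmem : ∀ (ψ : IrrCharacter (Subgroup.zpowers g)) (c : Subgroup.zpowers g), MemLocalRing M ((ψ : Subgroup.zpowers g → ℂ) c) := fun ψ c =>
    isIntegral_mem (char_isIntegral (isCharacter_of_isIrr ψ.2) c)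
  have h1 : ∀ ψ : IrrCharacter (Subgroup.zpowers g), sc M ((ψ : Subgroup.zpowers g → ℂ) ⟨g, Subgroup.mem_zpowers g⟩) • ec M g ψ =
      ∑ h : Subgroup.zpowers g, MonoidAlgebra.single (h : G) (sc M ((Nat.card (Subgroup.zpowers g) : ℂ)⁻¹ *
        ((ψ : Subgroup.zpowers g → ℂ) ⟨g, Subgroup.mem_zpowers g⟩ * conj ((ψ : Subgroup.zpowers g → ℂ) h)))) := by
    intro ψ
    unfold ec
    rw [el_eq, Finset.smul_sum]
    refine Finset.sum_congr rfl fun h _ => ?_
    rw [MonoidAlgebra.smul_single, smul_eq_mul, ← sc_mul (hmem ψ _) (el_mem hM hCc _ _), hm_spec,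
      char_inv (isCharacter_of_isIrr ψ.2)]
    congr 2
    ring
  rw [Finset.sum_congr rfl fun ψ _ => h1 ψ, Finset.sum_comm]
  have h2 : ∀ h : Subgroup.zpowers g, ∑ ψ : IrrCharacter (Subgroup.zpowers g), MonoidAlgebra.single (h : G) (sc M ((Nat.card (Subgroup.zpowers g) : ℂ)⁻¹ *
        ((ψ : Subgroup.zpowers g → ℂ) ⟨g, Subgroup.mem_zpowers g⟩ * conj ((ψ : Subgroup.zpowers g → ℂ) h)))) =
      if h = ⟨g, Subgroup.mem_zpowers g⟩ then xx g else 0 := by
    intro h
    rw [single_sum']
    have h3 : ∑ ψ : IrrCharacter (Subgroup.zpowers g), sc M ((Nat.card (Subgroup.zpowers g) : ℂ)⁻¹ *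
        ((ψ : Subgroup.zpowers g → ℂ) ⟨g, Subgroup.mem_zpowers g⟩ * conj ((ψ : Subgroup.zpowers g → ℂ) h))) =
        if h = ⟨g, Subgroup.mem_zpowers g⟩ then 1 else 0 := by
      apply Subtype.ext
      rw [AddSubmonoidClass.coe_finsetSum]
      have h4 : ∀ ψ : IrrCharacter (Subgroup.zpowers g), ((sc M ((Nat.card (Subgroup.zpowers g) : ℂ)⁻¹ *
          ((ψ : Subgroup.zpowers g → ℂ) ⟨g, Subgroup.mem_zpowers g⟩ * conj ((ψ : Subgroup.zpowers g → ℂ) h))) : locRing M) : ℂ) =
          (Nat.card (Subgroup.zpowers g) : ℂ)⁻¹ * ((ψ : Subgroup.zpowers g → ℂ) ⟨g, Subgroup.mem_zpowers g⟩ * conj ((ψ : Subgroup.zpowers g → ℂ) h)) := by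
        intro ψ
        apply sc_coe
        rw [← char_inv (isCharacter_of_isIrr ψ.2)]
        exact locR_mul (locR_natCast_inv hM hCc) (locR_mul (hmem ψ _) (hmem ψ _))
      rw [Finset.sum_congr rfl fun ψ _ => h4 ψ, ← Finset.mul_sum, H18.CharInd.column_orthogonality]
      have h5 : IsConj (⟨g, Subgroup.mem_zpowers g⟩ : Subgroup.zpowers g) h ↔ h = ⟨g, Subgroup.mem_zpowers g⟩ := by
        constructor
        · intro hc
          obtain ⟨c, hc⟩ := isConj_iff.1 hc
          rw [← hc, (Subgroup.zpowers_isMulCommutative g).is_comm.comm c, mul_inv_cancel_right]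
        · rintro rfl; exact IsConj.refl _
      by_cases h6 : h = ⟨g, Subgroup.mem_zpowers g⟩
      · rw [if_pos (h5.2 h6), if_pos h6, Subring.coe_one]
        have h7 : Subgroup.centralizer ({(⟨g, Subgroup.mem_zpowers g⟩ : Subgroup.zpowers g)} : Set (Subgroup.zpowers g)) = ⊤ := by
          rw [eq_top_iff]
          intro c _
          rw [Subgroup.mem_centralizer_singleton_iff]
          exact (Subgroup.zpowers_isMulCommutative g).is_comm.comm _ _
        rw [h7, Nat.card_congr (Subgroup.topEquiv (G := Subgroup.zpowers g)).toEquiv, inv_mul_cancel₀]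
        exact_mod_cast Nat.card_pos.ne'
      · rw [if_neg (fun h7 => h6 (h5.1 h7)), if_neg h6, mul_zero, Subring.coe_zero]
    rw [h3]
    split_ifs with h6
    · rw [h6]; rfl
    · exact MonoidAlgebra.single_zero _
  rw [Finset.sum_congr rfl fun h _ => h2 h, Finset.sum_ite_eq' Finset.univ, if_pos (Finset.mem_univ _)]

/-- values at regular elements from idempotents -/
theorem evA_mul_reg (hM : IsPModular p M) {θ : G → ℂ} (hθ : IsClassFunction G θ) {g : G}
    (hg : IsPRegular p g) [Fintype (IrrCharacter (Subgroup.zpowers g))] {z : AR M G}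
    (hz : IsIdempotentElem z) (hzc : ∀ a, z * a = a * z) :
    evA θ (iC M G (z * xx g)) = ∑ ψ : IrrCharacter (Subgroup.zpowers g),
      (ψ : Subgroup.zpowers g → ℂ) ⟨g, Subgroup.mem_zpowers g⟩ * val θ (iK M G (z * ec M g ψ)) := by
  haveI := pm_isPrime hM
  rw [xx_eq_sum hM hg, Finset.mul_sum, map_sum, map_sum]
  refine Finset.sum_congr rfl fun ψ _ => ?_
  have h1 : IsIdempotentElem (z * ec M g ψ) := by
    unfold IsIdempotentElem
    rw [mul_assoc, ← mul_assoc (ec M g ψ), ← hzc, mul_assoc z, ← mul_assoc, ← mul_assoc, hz.eq, mul_assoc,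
      (ec_idem hM hg ψ).eq]
  rw [val_lift hM hθ h1, mul_smul_comm]
  have h2 : ∀ (c : locRing M) (a : AR M G), iC M G (c • a) = (c : ℂ) • iC M G a := by
    intro c a
    apply MonoidAlgebra.coeff_injective
    ext x
    rw [coeff_iC]
    show ((c * a.coeff x : locRing M) : ℂ) = (c : ℂ) * (iC M G a).coeff x
    rw [Subring.coe_mul, coeff_iC]
  rw [h2, map_smul, smul_eq_mul, sc_coe (isIntegral_mem (char_isIntegral (isCharacter_of_isIrr ψ.2) _))]

end spec

end H20.BrT
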