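import Mathlib
import Cfsg.Prelude.Def_Blocks
import Cfsg.Prelude.Def_BlockRank
import Cfsg.Agent.Lib.H20.BrT3

/-!
# Brauer theory 4: the Brauer characters `th i`
-/

set_option autoImplicit false
set_option linter.unusedSectionVars false
set_option linter.unusedVariables false
set_option linter.style.haveILetI false

open Cfsg H20.Loc H20.GA H20.Blk H80.GA H80.GB H80.BR1 H84.RG H84.Star H18.CharBasic H18.CharOrtho
open scoped ComplexConjugate

universe u

namespace H20.BrT

theorem lin_expand {k G : Type*} [Field k] [Group G] [Fintype G] (f : MonoidAlgebra k G →ₗ[k] k)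
    (a : MonoidAlgebra k G) : f a = ∑ g : G, a.coeff g * f (MonoidAlgebra.single g 1) := by
  classical
  have h1 : a = ∑ g : G, a.coeff g • (MonoidAlgebra.single g 1 : MonoidAlgebra k G) := by
    conv_lhs => rw [← MonoidAlgebra.sum_coeff_single a]
    rw [Finsupp.sum_fintype _ _ (by simp)]
    refine Finset.sum_congr rfl fun g _ => ?_
    rw [MonoidAlgebra.smul_single, smul_eq_mul, mul_one]
  conv_lhs => rw [h1]
  rw [map_sum]
  exact Finset.sum_congr rfl fun g _ => by rw [map_smul, smul_eq_mul]

variable {M : Ideal AlgInt} [M.IsMaximal] {G : Type u} [Group G] [Finite G] {p : ℕ}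
variable (D : Dat (ResF M) (KG M G))

/-- trace in the `i`-th simple quotient -/
noncomputable def trL (i : Fin D.n) : KG M G →ₗ[ResF M] ResF M :=
  (Matrix.traceLinearMap (Fin (D.d i)) (ResF M) (ResF M)).comp
    ((LinearMap.proj i).comp D.π.toLinearMap)

theorem trL_apply (i : Fin D.n) (a : KG M G) : trL D i a = Matrix.trace (D.π a i) := rfl

/-- modular trace on group elements -/
noncomputable def tt (i : Fin D.n) (g : G) : ResF M := trL D i (MonoidAlgebra.single g 1)

theorem trL_comm (i : Fin D.n) (a b : KG M G) : trL D i (a * b) = trL D i (b * a) := by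
  rw [trL_apply, trL_apply, D.pi_mul, D.pi_mul, Matrix.trace_mul_comm]

theorem tt_class (i : Fin D.n) (g h : G) : tt D i (h * g * h⁻¹) = tt D i g := by
  unfold tt
  have h1 : (MonoidAlgebra.single (h * g * h⁻¹) 1 : KG M G) =
      MonoidAlgebra.single h 1 * (MonoidAlgebra.single g 1 * MonoidAlgebra.single h⁻¹ 1) := by
    rw [MonoidAlgebra.single_mul_single, MonoidAlgebra.single_mul_single, mul_one, mul_one, mul_assoc]
  rw [h1, trL_comm, mul_assoc, MonoidAlgebra.single_mul_single, inv_mul_cancel, mul_one,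
    ← MonoidAlgebra.one_def, mul_one]

theorem trL_eq_sum [Fintype G] (i : Fin D.n) (a : KG M G) :
    trL D i a = ∑ g : G, a.coeff g * tt D i g := by
  exact lin_expand (trL D i) a

theorem trL_E (i j : Fin D.n) : trL D i (D.E j) = if j = i then 1 else 0 := by
  classical
  haveI := D.hd j
  rw [trL_apply, D.πE]
  split_ifs with h
  · subst h
    rw [Pi.single_eq_same, Matrix.trace_vecMulVec]
    simp
  · rw [Pi.single_eq_of_ne (Ne.symm h), Matrix.trace_zero]

/-- a lift of the modular trace -/
theorem exists_tl (i : Fin D.n) : ∃ f : G → ℂ, IsClassFunction G f ∧ (∀ g, MemLocalRing M (f g)) ∧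
    ∀ g, redFun M (f g) = tt D i g := by
  have hr : ∀ y : ResF M, ∃ c : ℂ, MemLocalRing M c ∧ redFun M c = y := by
    intro y
    obtain ⟨b, hb⟩ := redFun_surjective y
    exact ⟨b, algInt_mem b, hb⟩
  choose r hr1 hr2 using hr
  exact ⟨fun g => r (tt D i g), fun g h => by simp only [tt_class], fun g => hr1 _, fun g => hr2 _⟩

theorem red_evA {f : G → ℂ} (hf : ∀ g, MemLocalRing M (f g)) {i : Fin D.n}
    (hfi : ∀ g, redFun M (f g) = tt D i g) (ε : AR M G) :
    MemLocalRing M (evA f (iC M G ε)) ∧ redFun M (evA f (iC M G ε)) = trL D i (iK M G ε) := by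
  letI := Fintype.ofFinite G
  haveI : M.IsPrime := inferInstance
  rw [evA_eq_sum]
  have h1 : ∀ g, MemLocalRing M ((iC M G ε).coeff g * f g) := fun g => by
    rw [coeff_iC]; exact locR_mul (ε.coeff g).2 (hf g)
  refine ⟨locR_sum fun g _ => h1 g, ?_⟩
  rw [redFun_sum fun g _ => h1 g, trL_eq_sum]
  refine Finset.sum_congr rfl fun g _ => ?_
  rw [coeff_iC, redFun_mul (ε.coeff g).2 (hf g), hfi, coeff_iK]
  rfl

theorem exists_theta (hM : IsPModular p M) : ∃ θ : Fin D.n → G → ℂ, (∀ i, IsClassFunction G (θ i)) ∧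
    (∀ i g, MemLocalRing M (θ i g)) ∧ (∀ i g, redFun M (θ i g) = tt D i g) ∧
    ∀ i j, val (θ i) (D.E j) = if i = j then 1 else 0 := by
  classical
  haveI : M.IsPrime := inferInstance
  choose tl htl1 htl2 htl3 using exists_tl (G := G) D
  have hE : ∀ j, ∃ ε : AR M G, IsIdempotentElem ε ∧ iK M G ε = D.E j := fun j => exists_lift hM (D.idem j)
  choose ε hε1 hε2 using hE
  have hval : ∀ i j, val (tl i) (D.E j) = evA (tl i) (iC M G (ε j)) := by
    intro i j
    rw [← hε2 j, val_lift hM (htl1 i) (hε1 j)]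
  have hV : ∀ i j, MemLocalRing M (val (tl i) (D.E j)) ∧
      redFun M (val (tl i) (D.E j)) = if i = j then 1 else 0 := by
    intro i j
    obtain ⟨h1, h2⟩ := red_evA D (htl2 i) (htl3 i) (ε j)
    rw [hval]
    refine ⟨h1, ?_⟩
    rw [h2, hε2, trL_E]
    simp only [eq_comm]
  let V : Matrix (Fin D.n) (Fin D.n) (locRing M) := fun i j => ⟨val (tl i) (D.E j), (hV i j).1⟩
  have hred : V.map (redHom M) = 1 := by
    ext i j
    rw [Matrix.map_apply, Matrix.one_apply]
    exact (hV i j).2
  have hdet : IsUnit V.det := by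
    rw [H84.RG.isUnit_iff, ← H84.RG.redHom_eq_zero_iff]
    have h1 : redHom M V.det = (V.map (redHom M)).det := (RingHom.map_det _ _)
    rw [h1, hred, Matrix.det_one]
    exact one_ne_zero
  have hWV : V⁻¹ * V = 1 := Matrix.nonsing_inv_mul V hdet
  have hWred : (V⁻¹).map (redHom M) = 1 := by
    have h1 : (V⁻¹ * V).map (redHom M) = 1 := by rw [hWV]; exact Matrix.map_one _ (map_zero _) (map_one _)
    rw [Matrix.map_mul, hred, mul_one] at h1
    exact h1
  refine ⟨fun i g => ∑ l, ((V⁻¹ i l : locRing M) : ℂ) * tl l g, fun i => class_sum _ _ htl1,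
    fun i g => locR_sum fun l _ => locR_mul (V⁻¹ i l).2 (htl2 l g), ?_, ?_⟩
  · intro i g
    rw [redFun_sum fun l _ => locR_mul (V⁻¹ i l).2 (htl2 l g)]
    have h1 : ∀ l, redFun M (((V⁻¹ i l : locRing M) : ℂ) * tl l g) = (if i = l then 1 else 0) * tt D l g := by
      intro l
      rw [redFun_mul (V⁻¹ i l).2 (htl2 l g), htl3]
      congr 1
      have h2 := congrFun (congrFun hWred i) l
      rw [Matrix.map_apply, Matrix.one_apply] at h2
      exact h2
    rw [Finset.sum_congr rfl fun l _ => h1 l]
    simp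
  · intro i j
    rw [val_sum_fun hM _ _ htl1 (D.idem j)]
    have h1 := congrFun (congrFun hWV i) j
    rw [Matrix.mul_apply, Matrix.one_apply] at h1
    have h2 := congrArg (Subtype.val) h1
    rw [AddSubmonoidClass.coe_finsetSum] at h2
    have h3 : ∀ l, ((V⁻¹ i l * V l j : locRing M) : ℂ) = ((V⁻¹ i l : locRing M) : ℂ) * val (tl l) (D.E j) :=
      fun l => rfl
    rw [Finset.sum_congr rfl fun l _ => (h3 l).symm, h2]
    split_ifs <;> rfl

/-- the Brauer characters, extended to class functions of `G` -/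
noncomputable def th (hM : IsPModular p M) : Fin D.n → G → ℂ := (exists_theta D hM).choose

section th
variable (hM : IsPModular p M)
include hM

theorem th_class (i : Fin D.n) : IsClassFunction G (th D hM i) := (exists_theta D hM).choose_spec.1 i

theorem th_mem (i : Fin D.n) (g : G) : MemLocalRing M (th D hM i g) :=
  (exists_theta D hM).choose_spec.2.1 i g

theorem th_red (i : Fin D.n) (g : G) : redFun M (th D hM i g) = tt D i g :=
  (exists_theta D hM).choose_spec.2.2.1 i g

theorem val_th (i j : Fin D.n) : val (th D hM i) (D.E j) = if i = j then 1 else 0 :=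
  (exists_theta D hM).choose_spec.2.2.2 i j

/-- additive functions -/
theorem val_eq_sum {θ : G → ℂ} (hθ : IsClassFunction G θ) {e : KG M G} (he : IsIdempotentElem e) :
    val θ e = ∑ i, (D.rk e i : ℂ) * val θ (D.E i) := by
  have h := D.eq_sum (addI_val hM hθ) (eqI_val hM hθ) he
  rw [h]
  exact Finset.sum_congr rfl fun i _ => by rw [nsmul_eq_mul]

/-- the rank is the value of `th` -/
theorem val_th_eq (i : Fin D.n) {e : KG M G} (he : IsIdempotentElem e) :
    val (th D hM i) e = D.rk e i := by
  classical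
  rw [val_eq_sum D hM (th_class D hM i) he, Finset.sum_congr rfl fun j _ => by rw [val_th]]
  simp

/-- expansion on a regular element -/
theorem evA_reg {θ : G → ℂ} (hθ : IsClassFunction G θ) {g : G} (hg : IsPRegular p g) {z : AR M G}
    (hz : IsIdempotentElem z) (hzc : ∀ a, z * a = a * z) :
    evA θ (iC M G (z * xx g)) = ∑ i, evA (th D hM i) (iC M G (z * xx g)) * val θ (D.E i) := by
  classical
  letI := Fintype.ofFinite (IrrCharacter (Subgroup.zpowers g))
  have hi : ∀ ψ, IsIdempotentElem (iK M G (z * ec M g ψ)) := by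
    intro ψ
    have h1 : IsIdempotentElem (z * ec M g ψ) := by
      unfold IsIdempotentElem
      rw [mul_assoc, ← mul_assoc (ec M g ψ), ← hzc, mul_assoc z, ← mul_assoc, ← mul_assoc, hz.eq, mul_assoc,
        (ec_idem hM hg ψ).eq]
    exact h1.map (iK M G)
  rw [evA_mul_reg hM hθ hg hz hzc]
  have h1 : ∀ i, evA (th D hM i) (iC M G (z * xx g)) = ∑ ψ : IrrCharacter (Subgroup.zpowers g),
      (ψ : Subgroup.zpowers g → ℂ) ⟨g, Subgroup.mem_zpowers g⟩ * (D.rk (iK M G (z * ec M g ψ)) i : ℂ) := by
    intro i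
    rw [evA_mul_reg hM (th_class D hM i) hg hz hzc]
    exact Finset.sum_congr rfl fun ψ _ => by rw [val_th_eq D hM i (hi ψ)]
  simp_rw [h1, Finset.sum_mul]
  rw [Finset.sum_comm]
  refine Finset.sum_congr rfl fun ψ _ => ?_
  rw [val_eq_sum D hM hθ (hi ψ), Finset.mul_sum]
  exact Finset.sum_congr rfl fun i _ => by ring

theorem reg_expand {θ : G → ℂ} (hθ : IsClassFunction G θ) {g : G} (hg : IsPRegular p g) :
    θ g = ∑ i, th D hM i g * val θ (D.E i) := by
  have h1 := evA_reg D hM hθ hg (z := 1) IsIdempotentElem.one (fun a => by rw [one_mul, mul_one])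
  simp only [one_mul, iC_xx, evA_single] at h1
  exact h1

/-- the modular trace only depends on the regular part -/
theorem tt_pPart (i : Fin D.n) {g x y : G} (hxy : x * y = g) (hc : Commute x y)
    (hx : ∃ k : ℕ, orderOf x = p ^ k) : tt D i g = tt D i y := by
  haveI : CharP (ResF M) p := charP_resF hM
  haveI : Fact p.Prime := ⟨hM.1⟩
  obtain ⟨k, hk⟩ := hx
  haveI : CharP (Matrix (Fin (D.d i)) (Fin (D.d i)) (ResF M)) p := by
    haveI := D.hd i
    infer_instance
  set X := D.π (MonoidAlgebra.single x 1) i with hX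
  set Y := D.π (MonoidAlgebra.single y 1) i with hY
  have hXY : D.π (MonoidAlgebra.single g 1) i = X * Y := by
    rw [hX, hY, ← D.pi_mul, MonoidAlgebra.single_mul_single, mul_one, hxy]
  have hcomm : Commute X Y := by
    unfold Commute SemiconjBy
    rw [hX, hY, ← D.pi_mul, ← D.pi_mul, MonoidAlgebra.single_mul_single, MonoidAlgebra.single_mul_single,
      hc.eq]
  have hXp : X ^ p ^ k = 1 := by
    have h1 : (MonoidAlgebra.single x 1 : KG M G) ^ p ^ k = 1 := by
      rw [MonoidAlgebra.single_pow, ← hk, pow_orderOf_eq_one, one_pow, MonoidAlgebra.one_def]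
    have h2 := congrArg (fun a => D.π a i) h1
    simp only [map_pow, map_one, Pi.pow_apply, Pi.one_apply] at h2
    exact h2
  have hnil : IsNilpotent (X - 1) := by
    refine ⟨p ^ k, ?_⟩
    rw [sub_pow_char_pow_of_commute p k (Commute.one_right X), hXp, one_pow, sub_self]
  have hnil2 : IsNilpotent ((X - 1) * Y) := by
    apply Commute.isNilpotent_mul_right _ hnil
    exact hcomm.sub_left (Commute.one_left Y)
  have htr : Matrix.trace ((X - 1) * Y) = 0 :=
    (Matrix.isNilpotent_trace_of_isNilpotent hnil2).eq_zero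
  unfold tt
  rw [trL_apply, trL_apply, hXY, ← hY]
  rw [sub_mul, one_mul, Matrix.trace_sub, sub_eq_zero] at htr
  exact htr

/-- linear independence over the residue field on regular elements -/
theorem tt_indep {a : Fin D.n → ResF M} (h : ∀ g : G, IsPRegular p g → ∑ i, a i * tt D i g = 0) : a = 0 := by
  classical
  letI := Fintype.ofFinite G
  have h1 : ∀ g : G, ∑ i, a i * tt D i g = 0 := by
    intro g
    obtain ⟨x, y, hxy, hc, hx, hy⟩ := H19.Second.exists_isPPart hM.1 g
    rw [Finset.sum_congr rfl fun i _ => by rw [tt_pPart D hM i hxy hc hx]]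
    exact h y hy
  funext j
  have h2 : ∑ i, a i * trL D i (D.E j) = 0 := by
    simp only [trL_eq_sum, Finset.mul_sum]
    rw [Finset.sum_comm]
    apply Finset.sum_eq_zero
    intro g _
    have h3 : ∑ i, a i * ((D.E j).coeff g * tt D i g) = (D.E j).coeff g * ∑ i, a i * tt D i g := by
      rw [Finset.mul_sum]
      exact Finset.sum_congr rfl fun i _ => by ring
    rw [h3, h1, mul_zero]
  simp only [trL_E, mul_ite, mul_one, mul_zero] at h2
  simpa using h2

end th

end H20.BrT
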