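import Mathlib
import Cfsg.Prelude.Def_Blocks
import Cfsg.Prelude.Def_BlockRank
import Cfsg.Agent.Lib.H20.BrT4

/-!
# Brauer theory 5: blocks, decomposition numbers
-/

set_option autoImplicit false
set_option linter.unusedSectionVars false
set_option linter.unusedVariables false
set_option linter.style.haveILetI false

open Cfsg H20.Loc H20.GA H20.Blk H80.GA H80.GB H80.BR1 H84.RG H84.Star H18.CharBasic H18.CharOrtho
open scoped ComplexConjugate

universe u

namespace H20.BrT

variable {M : Ideal AlgInt} [M.IsMaximal] {G : Type u} [Group G] [Finite G] {p : ℕ}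
variable (D : Dat (ResF M) (KG M G))

theorem lin_left_inv {k X : Type*} [Field k] [Fintype X] [DecidableEq X] {n : ℕ} (t : Fin n → X → k)
    (h : ∀ a : Fin n → k, (∀ x, ∑ i, a i * t i x = 0) → a = 0) :
    ∃ c : X → Fin n → k, ∀ i j, ∑ x, t i x * c x j = if i = j then 1 else 0 := by
  classical
  let A : (Fin n → k) →ₗ[k] (X → k) :=
    { toFun := fun a x => ∑ i, a i * t i x
      map_add' := fun a b => by
        funext x
        simp only [Pi.add_apply, add_mul, Finset.sum_add_distrib]
      map_smul' := fun r a => by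
        funext x
        simp only [Pi.smul_apply, smul_eq_mul, RingHom.id_apply, Finset.mul_sum, mul_assoc] }
  have hA : LinearMap.ker A = ⊥ := by
    rw [LinearMap.ker_eq_bot']
    intro a ha
    exact h a fun x => congrFun ha x
  obtain ⟨L, hL⟩ := A.exists_leftInverse_of_injective hA
  refine ⟨fun x j => L (Pi.single x 1) j, fun i j => ?_⟩
  have h1 : A (Pi.single i 1) = ∑ x, t i x • (Pi.single x 1 : X → k) := by
    funext y
    show ∑ l, (Pi.single i (1 : k) : Fin n → k) l * t l y = _
    rw [Finset.sum_apply]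
    simp [Pi.single_apply]
  have h2 : L (A (Pi.single i 1)) j = (Pi.single i (1 : k) : Fin n → k) j := by
    have := LinearMap.congr_fun hL (Pi.single i 1)
    exact congrFun this j
  rw [h1, map_sum, Finset.sum_apply] at h2
  simp only [map_smul, Pi.smul_apply, smul_eq_mul] at h2
  rw [h2, Pi.single_apply]
  simp only [eq_comm]

section th
variable (hM : IsPModular p M)
include hM

/-- Linear independence of the Brauer characters. -/
theorem th_indep {a : Fin D.n → ℂ} (h : ∀ g : G, IsPRegular p g → ∑ i, a i * th D hM i g = 0) : a = 0 := by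
  classical
  haveI : M.IsPrime := inferInstance
  letI := Fintype.ofFinite G
  obtain ⟨c, hc⟩ := lin_left_inv (X := {g : G // IsPRegular p g}) (fun i g => tt D i (g : G))
    (fun a ha => tt_indep D hM fun g hg => ha ⟨g, hg⟩)
  have hr : ∀ y : ResF M, ∃ c : ℂ, MemLocalRing M c ∧ redFun M c = y := by
    intro y
    obtain ⟨b, hb⟩ := redFun_surjective y
    exact ⟨b, algInt_mem b, hb⟩
  choose r hr1 hr2 using hr
  let Y : Matrix (Fin D.n) (Fin D.n) (locRing M) := fun i j =>
    ∑ g : {g : G // IsPRegular p g}, ⟨th D hM i g, th_mem D hM i g⟩ * ⟨r (c g j), hr1 _⟩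
  have hYr : Y.map (redHom M) = 1 := by
    ext i j
    rw [Matrix.map_apply, Matrix.one_apply, ← hc i j, map_sum]
    refine Finset.sum_congr rfl fun g _ => ?_
    rw [map_mul]
    show redFun M (th D hM i g) * redFun M (r (c g j)) = _
    rw [th_red, hr2]
  have hdet : IsUnit Y.det := by
    rw [H84.RG.isUnit_iff, ← H84.RG.redHom_eq_zero_iff]
    have h1 : redHom M Y.det = (Y.map (redHom M)).det := (RingHom.map_det _ _)
    rw [h1, hYr, Matrix.det_one]
    exact one_ne_zero
  have hYY : Y * Y⁻¹ = 1 := Matrix.mul_nonsing_inv Y hdet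
  have hYC : ∀ j, ∑ i, a i * (Y i j : ℂ) = 0 := by
    intro j
    have h1 : ∀ i, (Y i j : ℂ) = ∑ g : {g : G // IsPRegular p g}, th D hM i g * r (c g j) := by
      intro i
      show ((∑ g : {g : G // IsPRegular p g}, (⟨th D hM i g, th_mem D hM i g⟩ : locRing M) *
        ⟨r (c g j), hr1 _⟩ : locRing M) : ℂ) = _
      rw [AddSubmonoidClass.coe_finsetSum]
      rfl
    simp_rw [h1, Finset.mul_sum]
    rw [Finset.sum_comm]
    apply Finset.sum_eq_zero
    intro g _
    have h2 := h g g.2
    calc ∑ i, a i * (th D hM i g * r (c g j)) = (∑ i, a i * th D hM i g) * r (c g j) := by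
          rw [Finset.sum_mul]
          exact Finset.sum_congr rfl fun i _ => by ring
      _ = 0 := by rw [h2, zero_mul]
  funext j
  have h3 : ∑ i, a i * ((Y * Y⁻¹) i j : locRing M) = 0 := by
    have h4 : ∀ i, (((Y * Y⁻¹) i j : locRing M) : ℂ) = ∑ l, (Y i l : ℂ) * ((Y⁻¹ l j : locRing M) : ℂ) := by
      intro i
      rw [Matrix.mul_apply, AddSubmonoidClass.coe_finsetSum]
      rfl
    simp_rw [h4, Finset.mul_sum]
    rw [Finset.sum_comm]
    apply Finset.sum_eq_zero
    intro l _
    calc ∑ i, a i * ((Y i l : ℂ) * ((Y⁻¹ l j : locRing M) : ℂ)) =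
        (∑ i, a i * (Y i l : ℂ)) * ((Y⁻¹ l j : locRing M) : ℂ) := by
          rw [Finset.sum_mul]
          exact Finset.sum_congr rfl fun i _ => by ring
      _ = 0 := by rw [hYC, zero_mul]
  rw [hYY] at h3
  have h5 : ∀ i, (((1 : Matrix (Fin D.n) (Fin D.n) (locRing M)) i j : locRing M) : ℂ) =
      if i = j then 1 else 0 := by
    intro i
    rw [Matrix.one_apply]
    split_ifs <;> rfl
  simp_rw [h5] at h3
  simpa using h3

end th

section block

variable {B : Set (IrrCharacter G)}

theorem zR_eB_idem (hB : IsPBlock M B) : IsIdempotentElem (zR (M := M) (eB B)) := by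
  haveI : M.IsPrime := inferInstance
  apply iC_injective
  rw [map_mul, iC_zR (eB_mem hB), ← map_mul, eB_mul_eB_self]

theorem iK_zR_eB (hB : IsPBlock M B) : iK M G (zR (eB B)) = ebar M B := iK_zR (eB_mem hB)

theorem ebar_comm (hB : IsPBlock M B) (a : KG M G) : ebar M B * a = a * ebar M B := by
  have h1 : ebar M B ∈ Z (ResF M) (⊤ : Subgroup G) := redZ_mem _
  exact comm_of_mem h1.1 (Sp_top a)

theorem ebar_isIdem (hB : IsPBlock M B) : IsIdempotentElem (ebar M B) := by
  rw [← iK_zR_eB hB]
  exact (zR_eB_idem hB).map (iK M G)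

/-- the block idempotent is `0` or `1` in each simple quotient -/
theorem pi_ebar (hB : IsPBlock M B) (i : Fin D.n) : D.π (ebar M B) i = 0 ∨ D.π (ebar M B) i = 1 := by
  classical
  haveI := D.hd i
  have hcomm : ∀ X : Matrix (Fin (D.d i)) (Fin (D.d i)) (ResF M),
      D.π (ebar M B) i * X = X * D.π (ebar M B) i := by
    intro X
    obtain ⟨a, ha⟩ := D.surj (Pi.single i X)
    have h1 := congrArg (fun b => D.π b i) (ebar_comm hB a)
    simp only [D.pi_mul, ha, Pi.single_eq_same] at h1
    exact h1
  obtain ⟨c, hc⟩ := Matrix.mem_range_scalar_of_commute_single (M := D.π (ebar M B) i) (fun a b _ => by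
    exact (hcomm _).symm)
  have hid : D.π (ebar M B) i * D.π (ebar M B) i = D.π (ebar M B) i := by
    rw [← D.pi_mul, (ebar_isIdem hB).eq]
  rw [← hc] at hid ⊢
  rw [← map_mul] at hid
  have hcc : c * c = c := by
    have h2 := congrFun (congrFun hid 0) 0
    simpa using h2
  have hcc' : c * (c - 1) = 0 := by rw [mul_sub, hcc, mul_one, sub_self]
  rcases mul_eq_zero.1 hcc' with h | h
  · left; rw [h, map_zero]
  · right; rw [sub_eq_zero.1 h, map_one]

/-- the `i`-th simple module lies in the block `B` -/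
def InB (D : Dat (ResF M) (KG M G)) (B : Set (IrrCharacter G)) (i : Fin D.n) : Prop :=
  D.π (ebar M B) i ≠ 0

theorem InB.eq_one {D : Dat (ResF M) (KG M G)} (hB : IsPBlock M B) {i : Fin D.n} (h : InB D B i) :
    D.π (ebar M B) i = 1 := (pi_ebar D hB i).resolve_left h

/-- a nilpotent idempotent criterion -/
theorem eq_zero_of_pi {e : KG M G} (he : IsIdempotentElem e) (h : D.π e = 0) : e = 0 :=
  H84.TrFun.idem_nilp he (D.nil e h)

theorem ebar_mul_isIdem (hB : IsPBlock M B) {e : KG M G} (he : IsIdempotentElem e) :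
    IsIdempotentElem (ebar M B * e) := by
  unfold IsIdempotentElem
  rw [mul_assoc, ← mul_assoc e, ← ebar_comm hB, mul_assoc (ebar M B) e e, he.eq, ← mul_assoc,
    (ebar_isIdem hB).eq]

theorem ebar_mul_E_of_not (hB : IsPBlock M B) {i : Fin D.n} (h : ¬ InB D B i) : ebar M B * D.E i = 0 := by
  classical
  haveI := D.hd i
  have h0 : D.π (ebar M B) i = 0 := not_not.1 h
  apply eq_zero_of_pi D (ebar_mul_isIdem hB (D.idem i))
  rw [map_mul, D.πE, H84.TrFun.mul_single', h0, zero_mul, Pi.single_zero]

theorem ebar_mul_E (hB : IsPBlock M B) {i : Fin D.n} (h : InB D B i) : ebar M B * D.E i = D.E i := by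
  classical
  haveI := D.hd i
  have h1 := InB.eq_one hB h
  have h2 : D.E i - ebar M B * D.E i = 0 := by
    apply eq_zero_of_pi D
    · unfold IsIdempotentElem
      have e1 : D.E i * (ebar M B * D.E i) = ebar M B * D.E i := by
        rw [← mul_assoc, ← ebar_comm hB, mul_assoc, (D.idem i).eq]
      have e2 : ebar M B * D.E i * D.E i = ebar M B * D.E i := by rw [mul_assoc, (D.idem i).eq]
      rw [mul_sub, sub_mul, sub_mul, (D.idem i).eq, e1, e2, (ebar_mul_isIdem hB (D.idem i)).eq]
      abel
    · rw [map_sub, map_mul, D.πE, H84.TrFun.mul_single', h1, one_mul, sub_self]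
  exact (sub_eq_zero.1 h2).symm

theorem val_ebar_mul (hM : IsPModular p M) (hB : IsPBlock M B) [DecidablePred (· ∈ B)] (χ : IrrCharacter G) {e : KG M G}
    (he : IsIdempotentElem e) : val (χ : G → ℂ) (ebar M B * e) =
      if χ ∈ B then val (χ : G → ℂ) e else 0 := by
  haveI : M.IsPrime := inferInstance
  obtain ⟨ε, hε, rfl⟩ := exists_lift hM he
  have hcl := isClassFunction_of_isIrr χ.2
  have h1 : IsIdempotentElem (zR (M := M) (eB B) * ε) := by
    unfold IsIdempotentElem
    rw [mul_assoc, ← mul_assoc ε, ← zR_comm (eB_mem hB), mul_assoc (zR (eB B)) ε ε, hε.eq, ← mul_assoc,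
      (zR_eB_idem hB).eq]
  rw [← iK_zR_eB hB, ← map_mul, val_lift hM hcl h1, val_lift hM hcl hε, map_mul, iC_zR (eB_mem hB),
    evA_central_mul']
  split_ifs with h
  · rw [omega_eB_mem h, one_mul]
  · rw [omega_eB_notMem h, zero_mul]

theorem val_E_of_not (hM : IsPModular p M) (hB : IsPBlock M B) {χ : IrrCharacter G} (hχ : χ ∈ B)
    {i : Fin D.n} (h : ¬ InB D B i) : val (χ : G → ℂ) (D.E i) = 0 := by
  classical
  have h1 := val_ebar_mul hM hB χ (D.idem i)
  rw [if_pos hχ, ebar_mul_E_of_not D hB h] at h1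
  rw [← h1]
  exact (addI_val hM (isClassFunction_of_isIrr χ.2)).zero

theorem val_E_of_notMem (hM : IsPModular p M) (hB : IsPBlock M B) {χ : IrrCharacter G} (hχ : χ ∉ B)
    {i : Fin D.n} (h : InB D B i) : val (χ : G → ℂ) (D.E i) = 0 := by
  classical
  have h1 := val_ebar_mul hM hB χ (D.idem i)
  rwa [if_neg hχ, ebar_mul_E D hB h] at h1

end block

section dec
variable (hM : IsPModular p M)
include hM

theorem exists_dec (χ : IrrCharacter G) (i : Fin D.n) : ∃ n : ℕ, val (χ : G → ℂ) (D.E i) = n :=
  exists_nat hM (isCharacter_of_isIrr χ.2) (D.idem i)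

/-- decomposition numbers -/
noncomputable def dec (χ : IrrCharacter G) (i : Fin D.n) : ℕ := (exists_dec D hM χ i).choose

theorem dec_spec (χ : IrrCharacter G) (i : Fin D.n) : val (χ : G → ℂ) (D.E i) = dec D hM χ i :=
  (exists_dec D hM χ i).choose_spec

theorem irr_reg (χ : IrrCharacter G) {g : G} (hg : IsPRegular p g) :
    (χ : G → ℂ) g = ∑ i, (dec D hM χ i : ℂ) * th D hM i g := by
  rw [reg_expand D hM (isClassFunction_of_isIrr χ.2) hg]
  exact Finset.sum_congr rfl fun i _ => by rw [dec_spec D hM, mul_comm]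

theorem dec_of_not {B : Set (IrrCharacter G)} (hB : IsPBlock M B) {χ : IrrCharacter G} (hχ : χ ∈ B)
    {i : Fin D.n} (h : ¬ InB D B i) : dec D hM χ i = 0 := by
  have h1 := val_E_of_not D hM hB hχ h
  rw [dec_spec D hM] at h1
  exact_mod_cast h1

theorem dec_of_notMem {B : Set (IrrCharacter G)} (hB : IsPBlock M B) {χ : IrrCharacter G} (hχ : χ ∉ B)
    {i : Fin D.n} (h : InB D B i) : dec D hM χ i = 0 := by
  have h1 := val_E_of_notMem D hM hB hχ h
  rw [dec_spec D hM] at h1
  exact_mod_cast h1

/-- coefficients of a generalized expression of a Brauer character -/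
theorem coef_delta [Fintype (IrrCharacter G)] {i : Fin D.n} {a : IrrCharacter G → ℂ}
    (ha : ∀ g, IsPRegular p g → th D hM i g = ∑ χ, a χ * (χ : G → ℂ) g) (j : Fin D.n) :
    ∑ χ, a χ * (dec D hM χ j : ℂ) = if i = j then 1 else 0 := by
  classical
  have h1 := th_indep D hM (a := fun j => ∑ χ, a χ * (dec D hM χ j : ℂ) - if i = j then 1 else 0) (by
    intro g hg
    simp only [sub_mul, Finset.sum_sub_distrib, ite_mul, one_mul, zero_mul, Finset.sum_ite_eq,
      Finset.mem_univ, if_true]
    rw [sub_eq_zero, ha g hg]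
    simp_rw [Finset.sum_mul]
    rw [Finset.sum_comm]
    refine Finset.sum_congr rfl fun χ _ => ?_
    rw [irr_reg D hM χ hg, Finset.mul_sum]
    exact Finset.sum_congr rfl fun i _ => by ring)
  have h2 := congrFun h1 j
  simp only [Pi.zero_apply] at h2
  exact sub_eq_zero.1 h2

/-- restriction of such an expression to the block -/
theorem coef_block [Fintype (IrrCharacter G)] {B : Set (IrrCharacter G)} [DecidablePred (· ∈ B)]
    (hB : IsPBlock M B) {i : Fin D.n} (hi : InB D B i) {a : IrrCharacter G → ℂ}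
    (ha : ∀ g, IsPRegular p g → th D hM i g = ∑ χ, a χ * (χ : G → ℂ) g) {g : G} (hg : IsPRegular p g) :
    th D hM i g = ∑ χ ∈ Finset.univ.filter (· ∈ B), a χ * (χ : G → ℂ) g := by
  classical
  have h1 : ∀ j, ∑ χ ∈ Finset.univ.filter (· ∈ B), a χ * (dec D hM χ j : ℂ) = if i = j then 1 else 0 := by
    intro j
    rw [← coef_delta D hM ha j]
    by_cases hj : InB D B j
    · rw [← Finset.sum_filter_add_sum_filter_not Finset.univ (· ∈ B)]
      rw [left_eq_add]
      apply Finset.sum_eq_zero
      intro χ hχ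
      rw [dec_of_notMem D hM hB (Finset.mem_filter.1 hχ).2 hj, Nat.cast_zero, mul_zero]
    · have hij : i ≠ j := by rintro rfl; exact hj hi
      rw [coef_delta D hM ha j, if_neg hij]
      apply Finset.sum_eq_zero
      intro χ hχ
      rw [dec_of_not D hM hB (Finset.mem_filter.1 hχ).2 hj, Nat.cast_zero, mul_zero]
  have h2 : ∀ χ : IrrCharacter G, a χ * (χ : G → ℂ) g = ∑ j, a χ * (dec D hM χ j : ℂ) * th D hM j g := by
    intro χ
    rw [irr_reg D hM χ hg, Finset.mul_sum]
    exact Finset.sum_congr rfl fun i _ => by ring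
  rw [Finset.sum_congr rfl fun χ _ => h2 χ, Finset.sum_comm]
  simp_rw [← Finset.sum_mul, h1]
  simp

theorem exists_coef [Fintype (IrrCharacter G)] (i : Fin D.n) :
    ∃ a : IrrCharacter G → ℂ, ∀ g, th D hM i g = ∑ χ, a χ * (χ : G → ℂ) g := by
  letI := Fintype.ofFinite G
  refine ⟨fun χ => classInner (th D hM i) (χ : G → ℂ), fun g => ?_⟩
  conv_lhs => rw [mem_classFun_expand (th_class D hM i)]
  rw [Finset.sum_apply]
  rfl

omit hM in
omit [M.IsMaximal] [Group G] [Finite G] in
theorem sum_sub {n : ℕ} (P : Fin n → Prop) [DecidablePred P] (f : Fin n → ℂ) (h : ∀ j, ¬ P j → f j = 0) :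
    ∑ j, f j = ∑ j : {i // P i}, f j.1 := by
  rw [← Finset.sum_subtype (Finset.univ.filter P) (by simp) f, Finset.sum_filter]
  refine Finset.sum_congr rfl fun j _ => ?_
  split_ifs with hj
  · rfl
  · exact h j hj

open Classical in
/-- The number of simple modules in a block is the rank of the block. -/
theorem blockRank_eq {B : Set (IrrCharacter G)} (hB : IsPBlock M B) :
    blockRank p B = Fintype.card {i : Fin D.n // InB D B i} := by
  letI := Fintype.ofFinite (IrrCharacter G)
  let b : {i : Fin D.n // InB D B i} → G → ℂ := fun i => pRegularPart p (th D hM i.1)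
  have hpr : ∀ (θ : G → ℂ) (g : G), pRegularPart p θ g = if IsPRegular p g then θ g else 0 := fun θ g => by
    unfold pRegularPart; congr
  have hb : LinearIndependent ℂ b := by
    rw [Fintype.linearIndependent_iff]
    intro a ha i
    have h1 := th_indep D hM (a := fun j => if h : InB D B j then a ⟨j, h⟩ else 0) (by
      intro g hg
      have h2 := congrFun ha g
      rw [Finset.sum_apply, Pi.zero_apply] at h2
      have h3 : ∀ j : {i : Fin D.n // InB D B i}, (a j • b j) g = a j * th D hM j.1 g := by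
        intro j
        show a j * pRegularPart p (th D hM j.1) g = _
        rw [hpr, if_pos hg]
      rw [Finset.sum_congr rfl fun j _ => h3 j] at h2
      rw [sum_sub (InB D B) (fun j => (if h : InB D B j then a ⟨j, h⟩ else 0) * th D hM j g)
        (fun j hj => by rw [dif_neg hj, zero_mul]), ← h2]
      exact Finset.sum_congr rfl fun j _ => by rw [dif_pos j.2])
    have h2 := congrFun h1 i.1
    rw [dif_pos i.2] at h2
    exact h2
  have hspan : Submodule.span ℂ ((fun χ : IrrCharacter G => pRegularPart p (χ : G → ℂ)) '' B) =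
      Submodule.span ℂ (Set.range b) := by
    apply le_antisymm
    · rw [Submodule.span_le]
      rintro _ ⟨χ, hχ, rfl⟩
      have h1 : pRegularPart p (χ : G → ℂ) = ∑ i : {i : Fin D.n // InB D B i}, (dec D hM χ i.1 : ℂ) • b i := by
        funext g
        rw [hpr, Finset.sum_apply]
        have h3 : ∀ j : {i : Fin D.n // InB D B i}, ((dec D hM χ j.1 : ℂ) • b j) g =
            if IsPRegular p g then (dec D hM χ j.1 : ℂ) * th D hM j.1 g else 0 := by
          intro j
          show (dec D hM χ j.1 : ℂ) * pRegularPart p (th D hM j.1) g = _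
          rw [hpr]
          split_ifs
          · rfl
          · exact mul_zero _
        rw [Finset.sum_congr rfl fun j _ => h3 j]
        split_ifs with hg
        · rw [irr_reg D hM χ hg]
          exact sum_sub (InB D B) (fun j => (dec D hM χ j : ℂ) * th D hM j g)
            (fun j hj => by rw [dec_of_not D hM hB hχ hj, Nat.cast_zero, zero_mul])
        · rw [Finset.sum_const_zero]
      simp only
      rw [h1]
      exact Submodule.sum_mem _ fun i _ => Submodule.smul_mem _ _ (Submodule.subset_span ⟨i, rfl⟩)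
    · rw [Submodule.span_le]
      rintro _ ⟨i, rfl⟩
      obtain ⟨a, ha⟩ := exists_coef D hM i.1
      have h1 : b i = ∑ χ ∈ Finset.univ.filter (· ∈ B), a χ • pRegularPart p (χ : G → ℂ) := by
        funext g
        show pRegularPart p (th D hM i.1) g = _
        rw [hpr, Finset.sum_apply]
        split_ifs with hg
        · rw [coef_block D hM hB i.2 (fun g _ => ha g) hg]
          refine Finset.sum_congr rfl fun χ _ => ?_
          rw [Pi.smul_apply, hpr, if_pos hg, smul_eq_mul]
        · symm
          apply Finset.sum_eq_zero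
          intro χ _
          rw [Pi.smul_apply, hpr, if_neg hg, smul_zero]
      rw [SetLike.mem_coe, h1]
      exact Submodule.sum_mem _ fun χ hχ => Submodule.smul_mem _ _
        (Submodule.subset_span ⟨χ, (Finset.mem_filter.1 hχ).2, rfl⟩)
  unfold blockRank
  rw [hspan, finrank_span_eq_card hb]

end dec

end H20.BrT
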