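import Mathlib
import Cfsg.Agent.Lib.H20.BrT5
import Cfsg.Agent.Lib.H84.Star5

/-!
# Brauer theory 6: Brauer characters are integral combinations of ordinary characters
-/

set_option autoImplicit false
set_option linter.unusedSectionVars false
set_option linter.unusedVariables false
set_option linter.style.haveILetI false

open Cfsg H20.Loc H20.GA H20.Blk H80.GA H80.GB H80.BR1 H84.RG H84.Star H18.CharBasic H18.CharOrtho
open scoped ComplexConjugate

universe u

namespace H20.BrT

section pr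

variable {G : Type u} [Group G] [Finite G] {p : ℕ}

/-- the `p`-regular part of an element -/
noncomputable def pr (p : ℕ) (g : G) : G := (pPt p g)⁻¹ * g

theorem pr_eq (hp : p.Prime) {g x y : G} (h : x * y = g) (hc : Commute x y)
    (hx : ∃ k : ℕ, orderOf x = p ^ k) (hy : ¬ p ∣ orderOf y) : pr p g = y := by
  have h1 : pPt p g = x := pPt_eq hp ⟨y, h, hc, hx, hy⟩
  rw [pr, h1, ← h, inv_mul_cancel_left]

theorem pr_spec (hp : p.Prime) (g : G) : pPt p g * pr p g = g ∧ Commute (pPt p g) (pr p g) ∧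
    (∃ k : ℕ, orderOf (pPt p g) = p ^ k) ∧ IsPRegular p (pr p g) := by
  obtain ⟨y, h1, h2, h3, h4⟩ := pPt_spec hp g
  have h5 : pr p g = y := pr_eq hp h1 h2 h3 h4
  rw [h5]
  exact ⟨h1, h2, h3, h4⟩

theorem pr_reg (hp : p.Prime) (g : G) : IsPRegular p (pr p g) := (pr_spec hp g).2.2.2

theorem pr_of_reg (hp : p.Prime) {g : G} (hg : IsPRegular p g) : pr p g = g :=
  pr_eq hp (one_mul g) (Commute.one_left g) ⟨0, by simp⟩ hg

theorem pr_one (hp : p.Prime) : pr p (1 : G) = 1 :=
  pr_of_reg hp (by unfold IsPRegular; rw [orderOf_one]; exact hp.not_dvd_one)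

theorem pr_conj (hp : p.Prime) (g h : G) : pr p (h * g * h⁻¹) = h * pr p g * h⁻¹ := by
  obtain ⟨h1, h2, h3, h4⟩ := pr_spec hp g
  apply pr_eq hp (x := h * pPt p g * h⁻¹)
  · conv_rhs => rw [← h1]
    group
  · unfold Commute SemiconjBy at h2 ⊢
    calc h * pPt p g * h⁻¹ * (h * pr p g * h⁻¹) = h * (pPt p g * pr p g) * h⁻¹ := by group
      _ = h * (pr p g * pPt p g) * h⁻¹ := by rw [h2]
      _ = _ := by group
  · obtain ⟨k, hk⟩ := h3
    exact ⟨k, by rw [← hk]; exact (MulAut.conj h).orderOf_eq _⟩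
  · rw [show orderOf (h * pr p g * h⁻¹) = orderOf (pr p g) from (MulAut.conj h).orderOf_eq _]
    exact h4

end pr

variable {M : Ideal AlgInt} [M.IsMaximal] {G : Type u} [Group G] [Finite G] {p : ℕ}
variable (D : Dat (ResF M) (KG M G)) (hM : IsPModular p M)
include hM

/-- **Brauer**: Brauer characters, composed with the `p`-regular part, are generalized characters. -/
theorem isGen_th (i : Fin D.n) : IsGeneralizedCharacter G (fun g => th D hM i (pr p g)) := by
  classical
  have hp : Fact p.Prime := ⟨hM.1⟩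
  have := Fintype.ofFinite G
  have hcl : IsClassFunction G (fun g => th D hM i (pr p g)) := by
    intro g h
    show th D hM i (pr p (h * g * h⁻¹)) = _
    rw [pr_conj hM.1, th_class D hM i]
  apply isGen_of_linear hcl
  intro E _ q hq hE lam
  obtain ⟨Q, T, hQE, hTE, hQ, hT, hc, hbij⟩ := exists_QT (p := p) hq hE
  have := Fintype.ofFinite Q
  have := Fintype.ofFinite T
  set lamQ : Q →* ℂˣ := lam.comp (Subgroup.inclusion hQE) with hlQ
  set lamT : T →* ℂˣ := lam.comp (Subgroup.inclusion hTE) with hlT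
  obtain ⟨n, hn⟩ := inner_gen_intCast (G := Q) (isGen_of_isIrr (isIrrCharacter_of_hom (1 : Q →* ℂˣ)))
    (isGen_of_isIrr (isIrrCharacter_of_hom lamQ))
  have hT2 : classInner (fun y : T => th D hM i y) (fun y => (lamT y : ℂ)) =
      (D.rk (iK M G (el M T lamT)) i : ℂ) := by
    rw [← evA_el hM hT lamT, ← val_th_eq D hM i ((el_idem hM hT lamT).map (iK M G)),
      val_lift hM (th_class D hM i) (el_idem hM hT lamT)]
  refine ⟨n * (D.rk (iK M G (el M T lamT)) i : ℤ), ?_⟩
  push_cast
  rw [← hn, ← hT2]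
  have hcard : Nat.card E = Nat.card Q * Nat.card T := by
    rw [← Nat.card_prod]
    exact (Nat.card_congr (Equiv.ofBijective _ hbij)).symm
  unfold classInner
  rw [← (Equiv.ofBijective _ hbij).sum_comp, Fintype.sum_prod_type, hcard, Nat.cast_mul, mul_inv]
  have key : ∀ (x : Q) (y : T), th D hM i (pr p ((Equiv.ofBijective _ hbij (x, y) : E) : G)) *
      conj ((lam (Equiv.ofBijective _ hbij (x, y)) : ℂˣ) : ℂ) =
      (((1 : Q →* ℂˣ) x : ℂ) * conj ((lamQ x : ℂˣ) : ℂ)) * (th D hM i y * conj ((lamT y : ℂˣ) : ℂ)) := by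
    intro x y
    have h1 : lam (Equiv.ofBijective _ hbij (x, y)) = lamQ x * lamT y := by
      rw [hlQ, hlT, MonoidHom.comp_apply, MonoidHom.comp_apply, ← map_mul]
      rfl
    have h2 : pr p ((Equiv.ofBijective _ hbij (x, y) : E) : G) = y := by
      obtain ⟨y', e1, e2, e3, e4⟩ := isPPart_mul hQ hM.1 hT hc x.2 y.2
      have e5 : y' = y := mul_left_cancel e1
      subst e5
      exact pr_eq hM.1 e1 e2 e3 e4
    rw [h1, h2, Units.val_mul, map_mul, MonoidHom.one_apply, Units.val_one]
    ring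
  simp_rw [key]
  rw [← Finset.sum_mul_sum]
  ring

/-- integral expression of Brauer characters -/
theorem exists_int [Fintype (IrrCharacter G)] (i : Fin D.n) :
    ∃ a : IrrCharacter G → ℤ, ∀ g, IsPRegular p g → th D hM i g = ∑ χ, (a χ : ℂ) * (χ : G → ℂ) g := by
  classical
  letI := Fintype.ofFinite G
  have h1 := isGen_iff.1 (isGen_th D hM i)
  choose a ha using fun χ : IrrCharacter G => h1.2 (χ : G → ℂ) χ.2
  refine ⟨a, fun g hg => ?_⟩
  have h2 := congrFun (mem_classFun_expand h1.1) g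
  simp only [pr_of_reg hM.1 hg] at h2
  rw [h2, Finset.sum_apply]
  refine Finset.sum_congr rfl fun χ _ => ?_
  rw [← ha]
  rfl

/-- integral expression of Brauer characters of a block by the characters of the block -/
theorem exists_int_block {B : Set (IrrCharacter G)} (hB : IsPBlock M B) {i : Fin D.n} (hi : InB D B i) :
    ∃ a : IrrCharacter G → ℤ, (∀ χ, χ ∉ B → a χ = 0) ∧
      ∀ (_ : Fintype (IrrCharacter G)), (∀ g, IsPRegular p g → th D hM i g = ∑ χ, (a χ : ℂ) * (χ : G → ℂ) g) ∧
        ∀ j, ∑ χ, a χ * (dec D hM χ j : ℤ) = if i = j then 1 else 0 := by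
  classical
  letI := Fintype.ofFinite (IrrCharacter G)
  obtain ⟨a, ha⟩ := exists_int D hM i
  refine ⟨fun χ => if χ ∈ B then a χ else 0, fun χ hχ => if_neg hχ, fun hF => ?_⟩
  have hFe : hF = Fintype.ofFinite (IrrCharacter G) := Subsingleton.elim _ _
  subst hFe
  have h1 : ∀ g, IsPRegular p g →
      th D hM i g = ∑ χ, ((if χ ∈ B then a χ else 0 : ℤ) : ℂ) * (χ : G → ℂ) g := by
    intro g hg
    rw [coef_block D hM hB hi ha hg, Finset.sum_filter]
    refine Finset.sum_congr rfl fun χ _ => ?_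
    split_ifs <;> simp
  refine ⟨h1, fun j => ?_⟩
  have h2 := coef_delta D hM (a := fun χ => ((if χ ∈ B then a χ else 0 : ℤ) : ℂ)) h1 j
  have h3 : ((∑ χ, (if χ ∈ B then a χ else 0) * (dec D hM χ j : ℤ) : ℤ) : ℂ) =
      ((if i = j then 1 else 0 : ℤ) : ℂ) := by
    push_cast
    rw [← h2]
    push_cast
    rfl
  exact_mod_cast h3

end H20.BrT
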