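import Mathlib
import Cfsg.Agent.Lib.H20.BrT6
import Cfsg.Agent.Lib.H20.Height
import Cfsg.Agent.Lib.H20.PPart

/-!
# Brauer theory 7: degrees of Brauer characters and projective characters
-/

set_option autoImplicit false
set_option linter.unusedSectionVars false
set_option linter.unusedVariables false
set_option linter.style.haveILetI false

open Cfsg H20.Loc H20.GA H20.Blk H20.Orth H20.Defect H80.GA H80.GB H80.BR1 H84.RG H84.Star H18.CharBasic H18.CharOrtho
open scoped ComplexConjugate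

universe u

namespace H20.BrT

variable {M : Ideal AlgInt} [M.IsMaximal] {G : Type u} [Group G] [Finite G] {p : ℕ}
variable (D : Dat (ResF M) (KG M G)) (hM : IsPModular p M)
include hM

theorem reg_one' (hp : p.Prime) : IsPRegular p (1 : G) := by
  unfold IsPRegular
  rw [orderOf_one]
  exact hp.not_dvd_one

/-- the degree of a Brauer character is the dimension of the simple module -/
theorem th_one (i : Fin D.n) : th D hM i 1 = (D.d i : ℂ) := by
  have h1 := val_th_eq D hM i (e := 1) IsIdempotentElem.one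
  have h2 : val (th D hM i) (1 : KG M G) = th D hM i 1 := by
    have h3 := val_lift hM (th_class D hM i) (ε := 1) IsIdempotentElem.one
    rw [map_one, map_one, evA_one] at h3
    exact h3
  rw [h2] at h1
  rw [h1, Dat.rk, map_one, Pi.one_apply, Matrix.rank_one, Fintype.card_fin]

/-- degrees in terms of decomposition numbers -/
theorem deg_eq (χ : IrrCharacter G) : charDegree (χ : G → ℂ) = ∑ i, dec D hM χ i * D.d i := by
  have h1 := irr_reg D hM χ (reg_one' (G := G) hM hM.1)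
  have h2 : ((charDegree (χ : G → ℂ) : ℕ) : ℂ) = ((∑ i, dec D hM χ i * D.d i : ℕ) : ℂ) := by
    rw [charDegree_irr, h1]
    push_cast
    exact Finset.sum_congr rfl fun i _ => by rw [th_one]
  exact_mod_cast h2

/-- the degree of the projective indecomposable character -/
noncomputable def Ph (i : Fin D.n) : ℕ := ∑ᶠ χ : IrrCharacter G, charDegree (χ : G → ℂ) * dec D hM χ i

theorem Ph_eq [Fintype (IrrCharacter G)] (i : Fin D.n) :
    Ph D hM i = ∑ χ : IrrCharacter G, charDegree (χ : G → ℂ) * dec D hM χ i := by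
  unfold Ph
  rw [finsum_eq_sum_of_fintype]

theorem sum_deg_evA [Fintype (IrrCharacter G)] (a : MonoidAlgebra ℂ G) :
    ∑ χ : IrrCharacter G, (χ : G → ℂ) 1 * evA (χ : G → ℂ) a = Nat.card G * a.coeff 1 := by
  classical
  letI := Fintype.ofFinite G
  have h1 : ∀ χ : IrrCharacter G, (χ : G → ℂ) 1 * evA (χ : G → ℂ) a =
      ∑ g : G, a.coeff g * ((χ : G → ℂ) 1 * (χ : G → ℂ) g) := by
    intro χ
    rw [evA_eq_sum, Finset.mul_sum]
    exact Finset.sum_congr rfl fun g _ => by ring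
  simp_rw [h1]
  rw [Finset.sum_comm]
  simp_rw [← Finset.mul_sum]
  rw [Finset.sum_eq_single 1]
  · have h2 := H18.CharInd.sum_degree_sq (G := G)
    simp_rw [sq] at h2
    rw [h2, mul_comm]
  · intro g _ hg
    rw [H18.CharInd.sum_degree_mul hg, mul_zero]
  · intro h
    exact absurd (Finset.mem_univ _) h

theorem pow_dvd_Ph (i : Fin D.n) : p ^ (Nat.card G).factorization p ∣ Ph D hM i := by
  classical
  haveI : M.IsPrime := pm_isPrime hM
  letI := Fintype.ofFinite (IrrCharacter G)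
  obtain ⟨ε, hε, hεE⟩ := exists_lift hM (D.idem i)
  have h1 : ((Ph D hM i : ℕ) : ℂ) = Nat.card G * (iC M G ε).coeff 1 := by
    rw [Ph_eq D hM i, ← sum_deg_evA hM]
    push_cast
    refine Finset.sum_congr rfl fun χ _ => ?_
    rw [charDegree_irr, ← dec_spec D hM, ← hεE, val_lift hM (isClassFunction_of_isIrr χ.2) hε]
  set a := (Nat.card G).factorization p with ha
  obtain ⟨m, hm⟩ := Nat.ordProj_dvd (Nat.card G) p
  have hp0 : (p : ℂ) ≠ 0 := by exact_mod_cast hM.1.ne_zero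
  have h2 : (((Ph D hM i : ℕ) : ℤ) : ℂ) / (p : ℂ) ^ a = m * (ε.coeff 1 : locRing M) := by
    rw [Int.cast_natCast, h1, hm]
    push_cast
    have h3 : (iC M G ε).coeff 1 = ((ε.coeff 1 : locRing M) : ℂ) := rfl
    rw [h3, mul_assoc, mul_div_cancel_left₀ _ (pow_ne_zero _ hp0)]
  have h4 : MemLocalRing M ((((Ph D hM i : ℕ) : ℤ) : ℂ) / (p : ℂ) ^ a) := by
    rw [h2]
    exact locR_mul (locR_natCast m) (ε.coeff 1).2
  have h5 := dvd_of_div_mem hM h4
  exact_mod_cast h5

section arith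

variable {B : Set (IrrCharacter G)} (hB : IsPBlock M B)
include hB

open Classical in
theorem sum_block_dec [Fintype (IrrCharacter G)] (i : Fin D.n) :
    ∑ χ ∈ Finset.univ.filter (· ∈ B), charDegree (χ : G → ℂ) * dec D hM χ i =
      if InB D B i then Ph D hM i else 0 := by
  split_ifs with hi
  · rw [Ph_eq, ← Finset.sum_filter_add_sum_filter_not Finset.univ (· ∈ B), left_eq_add]
    apply Finset.sum_eq_zero
    intro χ hχ
    rw [dec_of_notMem D hM hB (Finset.mem_filter.1 hχ).2 hi, mul_zero]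
  · apply Finset.sum_eq_zero
    intro χ hχ
    rw [dec_of_not D hM hB (Finset.mem_filter.1 hχ).2 hi, mul_zero]

open Classical in
/-- the regular character of a block on `p`-regular elements -/
theorem block_reg [Fintype (IrrCharacter G)] {g : G} (hg : IsPRegular p g) :
    ∑ χ ∈ Finset.univ.filter (· ∈ B), (charDegree (χ : G → ℂ) : ℂ) * (χ : G → ℂ) g =
      ∑ i ∈ Finset.univ.filter (InB D B), (Ph D hM i : ℂ) * th D hM i g := by
  have h2 : ∀ χ : IrrCharacter G, (charDegree (χ : G → ℂ) : ℂ) * (χ : G → ℂ) g =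
      ∑ i, ((charDegree (χ : G → ℂ) * dec D hM χ i : ℕ) : ℂ) * th D hM i g := by
    intro χ
    rw [irr_reg D hM χ hg, Finset.mul_sum]
    refine Finset.sum_congr rfl fun i _ => ?_
    push_cast
    ring
  rw [Finset.sum_congr rfl fun χ _ => h2 χ, Finset.sum_comm, Finset.sum_filter]
  refine Finset.sum_congr rfl fun i _ => ?_
  rw [← Finset.sum_mul, ← Nat.cast_sum, sum_block_dec D hM hB i]
  split_ifs <;> simp

open Classical in
theorem sum_sq [Fintype (IrrCharacter G)] :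
    ∑ χ ∈ Finset.univ.filter (· ∈ B), charDegree (χ : G → ℂ) ^ 2 =
      ∑ i ∈ Finset.univ.filter (InB D B), Ph D hM i * D.d i := by
  have h1 := block_reg D hM hB (reg_one' (G := G) hM hM.1)
  have h2 : ((∑ χ ∈ Finset.univ.filter (· ∈ B), charDegree (χ : G → ℂ) ^ 2 : ℕ) : ℂ) =
      ((∑ i ∈ Finset.univ.filter (InB D B), Ph D hM i * D.d i : ℕ) : ℂ) := by
    push_cast
    simp_rw [th_one D hM] at h1
    rw [← h1]
    refine Finset.sum_congr rfl fun χ _ => ?_
    rw [charDegree_irr, sq]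
  exact_mod_cast h2

omit D in
open Classical in
theorem block_sing [Fintype (IrrCharacter G)] {g : G} (hg : p ∣ orderOf g) :
    ∑ χ ∈ Finset.univ.filter (· ∈ B), (charDegree (χ : G → ℂ) : ℂ) * (χ : G → ℂ) g = 0 := by
  haveI : M.IsPrime := pm_isPrime hM
  have h1 := weak_orth hM (isUnion_of_isPBlock hB) (x := 1) (by rw [orderOf_one]; exact hM.1.not_dvd_one) hg
  have h2 := congrArg (starRingEnd ℂ) h1
  rw [map_sum, map_zero] at h2
  rw [← h2, Finset.sum_filter]
  refine Finset.sum_congr rfl fun χ _ => ?_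
  split_ifs
  · rw [map_mul, Complex.conj_conj, H18.CharInd.conj_char_one (isCharacter_of_isIrr χ.2), charDegree_irr]
  · rw [map_zero]

theorem dvd_d {g : ℕ} (hg : ∀ χ ∈ B, g ∣ charDegree (χ : G → ℂ)) {i : Fin D.n} (hi : InB D B i) : g ∣ D.d i := by
  classical
  letI := Fintype.ofFinite (IrrCharacter G)
  obtain ⟨a, ha, h⟩ := exists_int_block D hM hB hi
  have h1 := (h inferInstance).1 1 (reg_one' (G := G) hM hM.1)
  rw [th_one] at h1
  have h2 : ((D.d i : ℤ) : ℂ) = ((∑ χ : IrrCharacter G, a χ * (charDegree (χ : G → ℂ) : ℤ) : ℤ) : ℂ) := by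
    push_cast
    rw [h1]
    exact Finset.sum_congr rfl fun χ _ => by rw [charDegree_irr]
  have h3 : (D.d i : ℤ) = ∑ χ : IrrCharacter G, a χ * (charDegree (χ : G → ℂ) : ℤ) := by exact_mod_cast h2
  have h4 : (g : ℤ) ∣ (D.d i : ℤ) := by
    rw [h3]
    apply Finset.dvd_sum
    intro χ _
    by_cases hχ : χ ∈ B
    · exact Dvd.dvd.mul_left (Int.natCast_dvd_natCast.2 (hg χ hχ)) _
    · rw [ha χ hχ, zero_mul]
      exact dvd_zero _
  exact Int.natCast_dvd_natCast.1 h4

theorem dvd_Ph {g : ℕ} (hg : ∀ χ ∈ B, g ∣ charDegree (χ : G → ℂ)) {i : Fin D.n} (hi : InB D B i) : g ∣ Ph D hM i := by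
  classical
  letI := Fintype.ofFinite (IrrCharacter G)
  have h1 := sum_block_dec D hM hB i
  rw [if_pos hi] at h1
  rw [← h1]
  apply Finset.dvd_sum
  intro χ hχ
  exact Dvd.dvd.mul_right (hg χ (Finset.mem_filter.1 hχ).2) _

theorem exists_dec_pos {i : Fin D.n} (hi : InB D B i) : ∃ χ ∈ B, 0 < dec D hM χ i := by
  classical
  letI := Fintype.ofFinite (IrrCharacter G)
  obtain ⟨a, ha, h⟩ := exists_int_block D hM hB hi
  have h1 := (h inferInstance).2 i
  rw [if_pos rfl] at h1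
  by_contra! hno
  rw [Finset.sum_eq_zero] at h1
  · exact absurd h1 (by norm_num)
  intro χ _
  by_cases hχ : χ ∈ B
  · have := hno χ hχ
    rw [Nat.le_zero.1 this]
    simp
  · rw [ha χ hχ, zero_mul]

theorem Ph_pos {i : Fin D.n} (hi : InB D B i) : 0 < Ph D hM i := by
  classical
  letI := Fintype.ofFinite (IrrCharacter G)
  obtain ⟨χ, hχ, h⟩ := exists_dec_pos D hM hB hi
  rw [Ph_eq]
  apply Finset.sum_pos'
  · intros; exact Nat.zero_le _
  · exact ⟨χ, Finset.mem_univ _, Nat.mul_pos (Nat.pos_of_ne_zero (charDegree_ne_zero χ)) h⟩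

omit hM hB in
theorem d_pos (i : Fin D.n) : 0 < D.d i := Nat.pos_of_ne_zero (D.hd i).out

/-- the cofactor is prime to `p` -/
theorem not_dvd_v {u e : ℕ} (hu : ¬ p ∣ u) (he : e + blockDefect p B = (Nat.card G).factorization p)
    {b c : Fin D.n → ℕ} (hb : ∀ i, InB D B i → Ph D hM i = p ^ (Nat.card G).factorization p * u * b i)
    (hc : ∀ i, InB D B i → D.d i = p ^ e * u * c i)
    {s : Finset (Fin D.n)} (hs : ∀ i, i ∈ s ↔ InB D B i) : ¬ p ∣ ∑ i ∈ s, b i * c i := by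
  classical
  intro hdvd
  haveI : M.IsPrime := pm_isPrime hM
  letI := Fintype.ofFinite (IrrCharacter G)
  letI := Fintype.ofFinite G
  obtain ⟨ψ, hψ, h0⟩ := exists_height_zero hM hB
  have hψ1 := (height_zero_iff hM hB hψ).1 h0
  have hψe : (charDegree (ψ : G → ℂ)).factorization p = e := by omega
  set A := (Nat.card G).factorization p with hA
  have hu0 : (u : ℂ) ≠ 0 := by
    intro h
    exact hu (by rw [Nat.cast_eq_zero.1 h]; exact dvd_zero p)
  have hp0 : (p : ℂ) ≠ 0 := by exact_mod_cast hM.1.ne_zero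
  have hG0 : (Nat.card G : ℂ) ≠ 0 := by exact_mod_cast (Nat.card_pos (α := G)).ne'
  have hψ0 : (ψ : G → ℂ) 1 ≠ 0 := irr_one_ne_zero ψ.2
  have hmem := fun i (hi : i ∈ s) => exists_int_block D hM hB ((hs i).1 hi)
  have hmem' : ∃ n : Fin D.n → IrrCharacter G → ℤ, ∀ i ∈ s, (∀ g, IsPRegular p g →
      th D hM i g = ∑ χ, (n i χ : ℂ) * (χ : G → ℂ) g) ∧ ∀ χ, χ ∉ B → n i χ = 0 := by
    choose f hf1 hf2 using hmem
    refine ⟨fun i => if h : i ∈ s then f i h else 0, fun i hi => ?_⟩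
    simp only [dif_pos hi]
    exact ⟨(hf2 i hi inferInstance).1, hf1 i hi⟩
  obtain ⟨n, hn⟩ := hmem'
  let S : IrrCharacter G → ℤ := fun χ => ∑ i ∈ s, (b i : ℤ) * n i χ
  have hS0 : ∀ χ, χ ∉ B → S χ = 0 := fun χ hχ =>
    Finset.sum_eq_zero fun i hi => by rw [(hn i hi).2 χ hχ, mul_zero]
  have hα : ∀ g, IsPRegular p g → ∑ χ, (S χ : ℂ) * (χ : G → ℂ) g = ∑ i ∈ s, (b i : ℂ) * th D hM i g := by
    intro g hg
    have e1 : ∀ χ : IrrCharacter G, (S χ : ℂ) * (χ : G → ℂ) g =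
        ∑ i ∈ s, (b i : ℂ) * ((n i χ : ℂ) * (χ : G → ℂ) g) := by
      intro χ
      simp only [S]
      push_cast
      rw [Finset.sum_mul]
      exact Finset.sum_congr rfl fun i _ => by ring
    rw [Finset.sum_congr rfl fun χ _ => e1 χ, Finset.sum_comm]
    refine Finset.sum_congr rfl fun i hi => ?_
    rw [(hn i hi).1 g hg, Finset.mul_sum]
  have hsf : s = Finset.univ.filter (InB D B) := by
    ext i; simp [hs]
  have hβ : ∀ g, IsPRegular p g → (p : ℂ) ^ A * u * ∑ χ, (S χ : ℂ) * (χ : G → ℂ) g =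
      ∑ χ ∈ Finset.univ.filter (· ∈ B), (charDegree (χ : G → ℂ) : ℂ) * (χ : G → ℂ) g := by
    intro g hg
    rw [hα g hg, block_reg D hM hB hg, Finset.mul_sum, hsf]
    refine Finset.sum_congr rfl fun i hi => ?_
    rw [hb i (Finset.mem_filter.1 hi).2]
    push_cast
    ring
  -- the inner product with `ψ`
  have hγ : (p : ℂ) ^ A * u * ∑ χ, (S χ : ℂ) * classInner (reg p (ψ : G → ℂ)) (χ : G → ℂ) = (ψ : G → ℂ) 1 := by
    have e1 : ∀ χ : IrrCharacter G, (S χ : ℂ) * classInner (reg p (ψ : G → ℂ)) (χ : G → ℂ) =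
        (Nat.card G : ℂ)⁻¹ * ∑ g, reg p (ψ : G → ℂ) g * conj ((S χ : ℂ) * (χ : G → ℂ) g) := by
      intro χ
      rw [classInner, ← mul_assoc, mul_comm (S χ : ℂ), mul_assoc, Finset.mul_sum]
      congr 1
      refine Finset.sum_congr rfl fun g _ => ?_
      rw [map_mul, map_intCast]
      ring
    rw [Finset.sum_congr rfl fun χ _ => e1 χ, ← Finset.mul_sum, Finset.sum_comm]
    have e2 : ∀ g : G, ∑ χ : IrrCharacter G, reg p (ψ : G → ℂ) g * conj ((S χ : ℂ) * (χ : G → ℂ) g) =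
        reg p (ψ : G → ℂ) g * conj (∑ χ : IrrCharacter G, (S χ : ℂ) * (χ : G → ℂ) g) := by
      intro g
      rw [← Finset.mul_sum, map_sum]
    rw [Finset.sum_congr rfl fun g _ => e2 g]
    have e3 : ∀ g : G, (p : ℂ) ^ A * u * (reg p (ψ : G → ℂ) g *
        conj (∑ χ : IrrCharacter G, (S χ : ℂ) * (χ : G → ℂ) g)) =
        (ψ : G → ℂ) g * conj (∑ χ ∈ Finset.univ.filter (· ∈ B), (charDegree (χ : G → ℂ) : ℂ) * (χ : G → ℂ) g) := by
      intro g
      by_cases hg : p ∣ orderOf g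
      · rw [reg_not hg, block_sing hM hB hg]
        simp
      · rw [← hβ g hg, reg_of hg, map_mul, map_mul, map_pow, Complex.conj_natCast, Complex.conj_natCast]
        ring
    have e4 : (p : ℂ) ^ A * u * ((Nat.card G : ℂ)⁻¹ * ∑ g, reg p (ψ : G → ℂ) g *
        conj (∑ χ : IrrCharacter G, (S χ : ℂ) * (χ : G → ℂ) g)) =
        classInner (ψ : G → ℂ) (∑ χ ∈ Finset.univ.filter (· ∈ B), (charDegree (χ : G → ℂ) : ℂ) • (χ : G → ℂ)) := by
      rw [classInner, ← mul_assoc, mul_comm ((p : ℂ) ^ A * u), mul_assoc, Finset.mul_sum]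
      congr 1
      refine Finset.sum_congr rfl fun g _ => ?_
      rw [e3, Finset.sum_apply]
      rfl
    rw [e4, inner_sum_right]
    rw [Finset.sum_eq_single ψ]
    · rw [H18.CharOrtho.inner_smul_right, inner_irr_self ψ.2, Complex.conj_natCast, mul_one, charDegree_irr]
    · intro χ _ hχ
      rw [H18.CharOrtho.inner_smul_right, inner_irr_ne ψ.2 χ.2 (fun h => hχ (Subtype.ext h.symm)), mul_zero]
    · intro h
      exact absurd (Finset.mem_filter.2 ⟨Finset.mem_univ _, hψ⟩) h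
  -- the values of `Q`
  set Q := fun χ : IrrCharacter G => Height.Q p χ (ψ : G → ℂ) (Height.irr_class ψ) with hQdef
  have hQ : ∀ χ : IrrCharacter G, (Nat.card G : ℂ) * classInner (reg p (ψ : G → ℂ)) (χ : G → ℂ) =
      (χ : G → ℂ) 1 * Q χ := by
    intro χ
    have e1 := Height.Q_symm (p := p) χ ψ
    have e2 := Height.Q_eq (p := p) ψ (Height.irr_class χ)
    show _ = (χ : G → ℂ) 1 * Height.Q p χ (ψ : G → ℂ) (Height.irr_class ψ)
    rw [e1, e2, ← mul_assoc, mul_div_cancel₀ _ hψ0]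
  obtain ⟨m0, hm0⟩ := Nat.ordProj_dvd (Nat.card G) p
  have hm0p : ¬ p ∣ m0 := by
    intro h
    have e1 := Nat.not_dvd_ordCompl hM.1 (Nat.card_pos (α := G)).ne'
    apply e1
    have e2 : Nat.card G / p ^ A = m0 := by
      conv_lhs => rw [hm0]
      exact Nat.mul_div_cancel_left _ (pow_pos hM.1.pos _)
    rw [e2]
    exact h
  have hδ : (m0 : ℂ) = u * ∑ χ : IrrCharacter G, (S χ : ℂ) * ((χ : G → ℂ) 1 / (ψ : G → ℂ) 1) * Q χ := by
    have e1 : (Nat.card G : ℂ) = (p : ℂ) ^ A * m0 := by exact_mod_cast hm0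
    have e2 : (p : ℂ) ^ A * u * ∑ χ, (S χ : ℂ) * ((χ : G → ℂ) 1 * Q χ) = (Nat.card G : ℂ) * (ψ : G → ℂ) 1 := by
      have e5 : ∑ χ : IrrCharacter G, (S χ : ℂ) * ((χ : G → ℂ) 1 * Q χ) =
          (Nat.card G : ℂ) * ∑ χ, (S χ : ℂ) * classInner (reg p (ψ : G → ℂ)) (χ : G → ℂ) := by
        rw [Finset.mul_sum]
        refine Finset.sum_congr rfl fun χ _ => ?_
        rw [← hQ]
        ring
      rw [e5, ← hγ]
      ring
    rw [e1] at e2
    have e3 : (u : ℂ) * ∑ χ : IrrCharacter G, (S χ : ℂ) * ((χ : G → ℂ) 1 * Q χ) = m0 * (ψ : G → ℂ) 1 := by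
      have := pow_ne_zero A hp0
      apply mul_left_cancel₀ this
      linear_combination e2
    have e4 : (u : ℂ) * ∑ χ : IrrCharacter G, (S χ : ℂ) * ((χ : G → ℂ) 1 / (ψ : G → ℂ) 1) * Q χ =
        (u * ∑ χ : IrrCharacter G, (S χ : ℂ) * ((χ : G → ℂ) 1 * Q χ)) / (ψ : G → ℂ) 1 := by
      rw [mul_div_assoc, Finset.sum_div]
      congr 1
      refine Finset.sum_congr rfl fun χ _ => ?_
      field_simp
    rw [e4, e3, mul_div_assoc, div_self hψ0, mul_one]
  have hdeg : ∀ χ ∈ B, MemLocalRing M ((χ : G → ℂ) 1 / (ψ : G → ℂ) 1) := by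
    intro χ hχ
    rw [← charDegree_irr, ← charDegree_irr]
    apply PPart.locR_div_of_le hM (charDegree_ne_zero χ) (charDegree_ne_zero ψ)
    have := defect_le_degree hM hB hχ
    omega
  have ht : ∑ χ : IrrCharacter G, (S χ : ℂ) * ((χ : G → ℂ) 1 / (ψ : G → ℂ) 1) =
      ((∑ i ∈ s, b i * c i : ℕ) : ℂ) * (((p ^ e * u : ℕ) : ℂ) / (charDegree (ψ : G → ℂ) : ℂ)) := by
    have e1 := hα 1 (reg_one' (G := G) hM hM.1)
    have e2 : ∑ χ : IrrCharacter G, (S χ : ℂ) * ((χ : G → ℂ) 1 / (ψ : G → ℂ) 1) =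
        (∑ χ : IrrCharacter G, (S χ : ℂ) * (χ : G → ℂ) 1) / (ψ : G → ℂ) 1 := by
      rw [Finset.sum_div]
      exact Finset.sum_congr rfl fun χ _ => by rw [mul_div_assoc]
    rw [e2, e1, charDegree_irr, ← mul_div_assoc]
    congr 1
    push_cast
    rw [Finset.sum_mul]
    refine Finset.sum_congr rfl fun i hi => ?_
    rw [th_one, hc i ((hs i).1 hi)]
    push_cast
    ring
  have htI : MemLocalIdeal M (∑ χ : IrrCharacter G, (S χ : ℂ) * ((χ : G → ℂ) 1 / (ψ : G → ℂ) 1)) := by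
    rw [ht]
    refine locI_mul_right ((locI_natCast_iff hM).2 hdvd) ?_
    have hu0' : u ≠ 0 := fun h => hu (h ▸ dvd_zero p)
    apply PPart.locR_div_of_le hM (Nat.mul_ne_zero (pow_pos hM.1.pos _).ne' hu0') (charDegree_ne_zero ψ)
    rw [hψe, Nat.factorization_mul (pow_pos hM.1.pos _).ne' hu0', Finsupp.add_apply,
      hM.1.factorization_pow, Finsupp.single_eq_same]
    exact Nat.le_add_right _ _
  have hdiff : MemLocalIdeal M (∑ χ : IrrCharacter G, (S χ : ℂ) * ((χ : G → ℂ) 1 / (ψ : G → ℂ) 1) * (Q χ - Q ψ)) := by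
    apply locI_sum
    intro χ _
    by_cases hχ : χ ∈ B
    · exact locI_mul_left (locR_mul (locR_intCast _) (hdeg χ hχ))
        (Height.Q_congr (isPBlock_sameBlock hB hχ hψ) _ (Height.irr_int ψ))
    · rw [hS0 χ hχ]
      simpa using locI_zero
  have hfin : MemLocalIdeal M (m0 : ℂ) := by
    rw [hδ]
    apply locI_mul_left (locR_natCast u)
    have e1 : ∑ χ : IrrCharacter G, (S χ : ℂ) * ((χ : G → ℂ) 1 / (ψ : G → ℂ) 1) * Q χ =
        ∑ χ : IrrCharacter G, (S χ : ℂ) * ((χ : G → ℂ) 1 / (ψ : G → ℂ) 1) * (Q χ - Q ψ) +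
        Q ψ * ∑ χ : IrrCharacter G, (S χ : ℂ) * ((χ : G → ℂ) 1 / (ψ : G → ℂ) 1) := by
      rw [Finset.mul_sum, ← Finset.sum_add_distrib]
      exact Finset.sum_congr rfl fun χ _ => by ring
    rw [e1]
    exact locI_add hdiff (locI_mul_left (Height.Q_memR ψ _ (Height.irr_int ψ)) htI)
  exact hm0p ((locI_natCast_iff hM).1 hfin)

end arith

end H20.BrT
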