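import Mathlib
import Cfsg.Agent.Lib.H20.BrT7

/-!
# Brauer theory 8: the sum of the squares of the degrees of a block
-/

set_option autoImplicit false
set_option linter.unusedSectionVars false
set_option linter.unusedVariables false
set_option linter.style.haveILetI false

open Cfsg H20.Loc H20.GA H20.Blk H20.Orth H20.Defect H80.GA H80.GB H80.BR1 H84.RG H84.Star H18.CharBasic H18.CharOrtho
open scoped ComplexConjugate

universe u

namespace H20.BrT

variable {M : Ideal AlgInt} [M.IsMaximal] {G : Type u} [Group G] [Finite G] {p : ℕ}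

/-- the residue field is algebraically closed -/
theorem exists_dat' (hM : IsPModular p M) : Nonempty (Dat (ResF M) (KG M G)) := by
  haveI : IsAlgClosed (ResF M) := isAlgClosed_resF
  haveI : FiniteDimensional (ResF M) (KG M G) := inferInstance
  exact Dat.exists_dat

theorem gcd_factorization (hM : IsPModular p M) {B : Set (IrrCharacter G)} (hB : IsPBlock M B) {a d g : ℕ}
    (ha : (Nat.card G).factorization p = a) (hd : blockDefect p B = d)
    (hg1 : ∀ χ ∈ B, g ∣ charDegree (χ : G → ℂ))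
    (hg2 : ∀ g' : ℕ, (∀ χ ∈ B, g' ∣ charDegree (χ : G → ℂ)) → g' ∣ g) : g ≠ 0 ∧ g.factorization p = a - d := by
  obtain ⟨ψ, hψ, h0⟩ := exists_height_zero hM hB
  have hψ1 := (height_zero_iff hM hB hψ).1 h0
  have hgψ := hg1 ψ hψ
  have hg0 : g ≠ 0 := by
    rintro rfl
    exact charDegree_ne_zero ψ (Nat.eq_zero_of_zero_dvd hgψ)
  refine ⟨hg0, le_antisymm ?_ ?_⟩
  · have h1 := (Nat.factorization_le_iff_dvd hg0 (charDegree_ne_zero ψ)).2 hgψ p
    omega
  · have h1 : p ^ (a - d) ∣ g := by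
      apply hg2
      intro χ hχ
      rw [hM.1.pow_dvd_iff_le_factorization (charDegree_ne_zero χ)]
      have := defect_le_degree hM hB hχ
      omega
    exact (hM.1.pow_dvd_iff_le_factorization hg0).1 h1

/-- Sum of the squares of the degrees in a block. -/
theorem sumsq (hM : IsPModular p M) {B : Set (IrrCharacter G)} (hB : IsPBlock M B) {a d g : ℕ}
    (ha : (Nat.card G).factorization p = a) (hd : blockDefect p B = d) (hda : d ≤ a)
    (hg1 : ∀ χ ∈ B, g ∣ charDegree (χ : G → ℂ))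
    (hg2 : ∀ g' : ℕ, (∀ χ ∈ B, g' ∣ charDegree (χ : G → ℂ)) → g' ∣ g) :
    g.factorization p = a - d ∧ ∃ v : ℕ, 0 < v ∧ ¬ p ∣ v ∧ blockRank p B ≤ v ∧
      ∑ᶠ χ ∈ B, charDegree (χ : G → ℂ) ^ 2 = p ^ (2 * a - d) * (g / p ^ (a - d)) ^ 2 * v := by
  classical
  letI := Fintype.ofFinite (IrrCharacter G)
  obtain ⟨hg0, hgf⟩ := gcd_factorization hM hB ha hd hg1 hg2
  refine ⟨hgf, ?_⟩
  obtain ⟨D⟩ := exists_dat' (G := G) hM
  set e := a - d with he
  set u := g / p ^ e with hu
  have hgu : p ^ e * u = g := by rw [hu, ← hgf]; exact Nat.ordProj_mul_ordCompl_eq_self g p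
  have hup : ¬ p ∣ u := by rw [hu, ← hgf]; exact Nat.not_dvd_ordCompl hM.1 hg0
  have hu0 : 0 < u := Nat.pos_of_ne_zero fun h => hup (h ▸ dvd_zero p)
  have hcop : Nat.Coprime (p ^ a) u := Nat.Coprime.pow_left _ ((Nat.Prime.coprime_iff_not_dvd hM.1).2 hup)
  have hb : ∀ i, InB D B i → p ^ a * u ∣ Ph D hM i := by
    intro i hi
    refine hcop.mul_dvd_of_dvd_of_dvd ?_ ?_
    · rw [← ha]; exact pow_dvd_Ph D hM i
    · exact dvd_trans (Dvd.intro_left _ hgu) (dvd_Ph D hM hB hg1 hi)
  have hc : ∀ i, InB D B i → p ^ e * u ∣ D.d i := by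
    intro i hi
    rw [hgu]
    exact dvd_d D hM hB hg1 hi
  have hb' : ∃ b : Fin D.n → ℕ, ∀ i, InB D B i → Ph D hM i = p ^ a * u * b i := by
    refine ⟨fun i => Ph D hM i / (p ^ a * u), fun i hi => ?_⟩
    rw [Nat.mul_div_cancel' (hb i hi)]
  have hc' : ∃ c : Fin D.n → ℕ, ∀ i, InB D B i → D.d i = p ^ e * u * c i := by
    refine ⟨fun i => D.d i / (p ^ e * u), fun i hi => ?_⟩
    rw [Nat.mul_div_cancel' (hc i hi)]
  obtain ⟨b, hb⟩ := hb'
  obtain ⟨c, hc⟩ := hc'
  have hb1 : ∀ i, InB D B i → 0 < b i := by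
    intro i hi
    apply Nat.pos_of_ne_zero
    intro h
    have := hb i hi
    rw [h, mul_zero] at this
    exact absurd (Ph_pos D hM hB hi) (by omega)
  have hc1 : ∀ i, InB D B i → 0 < c i := by
    intro i hi
    apply Nat.pos_of_ne_zero
    intro h
    have := hc i hi
    rw [h, mul_zero] at this
    exact absurd (d_pos D i) (by omega)
  have hv1 : blockRank p B ≤ ∑ i ∈ Finset.univ.filter (InB D B), b i * c i := by
    rw [blockRank_eq D hM hB, Fintype.card_subtype, Finset.card_eq_sum_ones]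
    apply Finset.sum_le_sum
    intro i hi
    have hi' := (Finset.mem_filter.1 hi).2
    exact Nat.mul_pos (hb1 i hi') (hc1 i hi')
  refine ⟨∑ i ∈ Finset.univ.filter (InB D B), b i * c i, ?_, ?_, hv1, ?_⟩
  · obtain ⟨χ, hχ⟩ := isPBlock_nonempty hB
    have h1 := deg_eq D hM χ
    have h2 : ∃ i, InB D B i := by
      by_contra! hno
      apply charDegree_ne_zero χ
      rw [h1]
      apply Finset.sum_eq_zero
      intro i _
      rw [dec_of_not D hM hB hχ (hno i), zero_mul]
    obtain ⟨i, hi⟩ := h2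
    apply Finset.sum_pos
    · intro j hj
      exact Nat.mul_pos (hb1 j (Finset.mem_filter.1 hj).2) (hc1 j (Finset.mem_filter.1 hj).2)
    · exact ⟨i, Finset.mem_filter.2 ⟨Finset.mem_univ _, hi⟩⟩
  · exact not_dvd_v D hM hB hup (e := e) (by omega) (by rw [ha]; exact hb) hc (by simp)
  · have h1 := sum_sq D hM hB
    have h2 : ∑ᶠ χ ∈ B, charDegree (χ : G → ℂ) ^ 2 =
        ∑ χ ∈ Finset.univ.filter (· ∈ B), charDegree (χ : G → ℂ) ^ 2 := by
      rw [finsum_mem_eq_finite_toFinset_sum _ (Set.toFinite B)]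
      apply Finset.sum_congr _ fun _ _ => rfl
      ext χ
      simp
    rw [h2, h1, Finset.mul_sum]
    refine Finset.sum_congr rfl fun i hi => ?_
    have hi' := (Finset.mem_filter.1 hi).2
    rw [hb i hi', hc i hi']
    have h3 : 2 * a - d = a + e := by omega
    rw [h3, pow_add]
    ring

end H20.BrT
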