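import Mathlib
import Cfsg.Agent.Lib.H20.BrT8

/-!
# Brauer theory 9: dimensions of corners and of centers over the residue field
-/

set_option autoImplicit false
set_option linter.unusedSectionVars false
set_option linter.unusedVariables false
set_option linter.style.haveILetI false

open Cfsg H20.Loc H20.GA H20.Blk H20.Orth H20.Defect H80.GA H80.GB H80.BR1 H84.RG H84.Star H18.CharBasic H18.CharOrtho
open Module
open scoped ComplexConjugate

universe u

namespace H20.BrT

section lift
variable {M : Ideal AlgInt} [M.IsMaximal] {G : Type u} [Group G] [Finite G] {p : ℕ}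

/-- linear independence lifts from the residue field to `ℂ` -/
theorem indep_lift {X : Type*} [Fintype X] [DecidableEq X] {n : ℕ} {v : Fin n → X → ℂ}
    (hv : ∀ i x, MemLocalRing M (v i x))
    (h : ∀ a : Fin n → ResF M, (∀ x, ∑ i, a i * redFun M (v i x) = 0) → a = 0)
    {a : Fin n → ℂ} (ha : ∀ x, ∑ i, a i * v i x = 0) : a = 0 := by
  classical
  haveI : M.IsPrime := inferInstance
  obtain ⟨c, hc⟩ := lin_left_inv (X := X) (fun i x => redFun M (v i x)) h
  have hr : ∀ y : ResF M, ∃ c : ℂ, MemLocalRing M c ∧ redFun M c = y := by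
    intro y
    obtain ⟨b, hb⟩ := redFun_surjective y
    exact ⟨b, algInt_mem b, hb⟩
  choose r hr1 hr2 using hr
  let Y : Matrix (Fin n) (Fin n) (locRing M) := fun i j =>
    ∑ x : X, ⟨v i x, hv i x⟩ * ⟨r (c x j), hr1 _⟩
  have hYr : Y.map (redHom M) = 1 := by
    ext i j
    rw [Matrix.map_apply, Matrix.one_apply, ← hc i j, map_sum]
    refine Finset.sum_congr rfl fun x _ => ?_
    rw [map_mul]
    show redFun M (v i x) * redFun M (r (c x j)) = _
    rw [hr2]
  have hdet : IsUnit Y.det := by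
    rw [H84.RG.isUnit_iff, ← H84.RG.redHom_eq_zero_iff]
    have h1 : redHom M Y.det = (Y.map (redHom M)).det := (RingHom.map_det _ _)
    rw [h1, hYr, Matrix.det_one]
    exact one_ne_zero
  have hYY : Y * Y⁻¹ = 1 := Matrix.mul_nonsing_inv Y hdet
  have hYC : ∀ j, ∑ i, a i * (Y i j : ℂ) = 0 := by
    intro j
    have h1 : ∀ i, (Y i j : ℂ) = ∑ x : X, v i x * r (c x j) := by
      intro i
      show ((∑ x : X, (⟨v i x, hv i x⟩ : locRing M) * ⟨r (c x j), hr1 _⟩ : locRing M) : ℂ) = _
      rw [AddSubmonoidClass.coe_finsetSum]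
      rfl
    simp_rw [h1, Finset.mul_sum]
    rw [Finset.sum_comm]
    apply Finset.sum_eq_zero
    intro x _
    calc ∑ i, a i * (v i x * r (c x j)) = (∑ i, a i * v i x) * r (c x j) := by
          rw [Finset.sum_mul]
          exact Finset.sum_congr rfl fun i _ => by ring
      _ = 0 := by rw [ha x, zero_mul]
  funext j
  have h3 : ∑ i, a i * ((Y * Y⁻¹) i j : locRing M) = 0 := by
    have h4 : ∀ i, (((Y * Y⁻¹) i j : locRing M) : ℂ) = ∑ l, (Y i l : ℂ) * ((Y⁻¹ l j : locRing M) : ℂ) := by
      intro i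
      rw [Matrix.mul_apply, AddSubmonoidClass.coe_finsetSum]
      rfl
    simp_rw [h4, Finset.mul_sum]
    rw [Finset.sum_comm]
    apply Finset.sum_eq_zero
    intro l _
    calc ∑ i, a i * ((Y i l : ℂ) * ((Y⁻¹ l j : locRing M) : ℂ)) =
        (∑ i, a i * (Y i l : ℂ)) * ((Y⁻¹ l j : locRing M) : ℂ) := by
          rw [Finset.sum_mul]
          exact Finset.sum_congr rfl fun i _ => by ring
      _ = 0 := by rw [hYC, zero_mul]
  rw [hYY] at h3
  have h5 : ∀ i, (((1 : Matrix (Fin n) (Fin n) (locRing M)) i j : locRing M) : ℂ) =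
      if i = j then 1 else 0 := by
    intro i
    rw [Matrix.one_apply]
    split_ifs <;> rfl
  simp_rw [h5] at h3
  simpa using h3

/-- semicontinuity of dimensions -/
theorem finrank_le_of_lift (WF : Submodule (ResF M) (KG M G)) (WC : Submodule ℂ (MonoidAlgebra ℂ G))
    (h : ∀ w ∈ WF, ∃ v : AR M G, iK M G v = w ∧ iC M G v ∈ WC) :
    finrank (ResF M) WF ≤ finrank ℂ WC := by
  classical
  letI := Fintype.ofFinite G
  haveI : FiniteDimensional ℂ (MonoidAlgebra ℂ G) := inferInstance
  haveI : FiniteDimensional (ResF M) (KG M G) := inferInstance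
  set n := finrank (ResF M) WF with hn
  let b : Basis (Fin n) (ResF M) WF := finBasis (ResF M) WF
  choose f hf1 hf2 using h
  let v : Fin n → AR M G := fun i => f (b i : KG M G) (b i).2
  have hv : ∀ i, iK M G (v i) = (b i : KG M G) := fun i => hf1 _ _
  have hind : ∀ a : Fin n → ResF M, (∀ x : G, ∑ i, a i * redFun M ((v i).coeff x : ℂ) = 0) → a = 0 := by
    intro a ha
    have h1 : ∑ i, a i • b i = 0 := by
      apply Subtype.ext
      rw [AddSubmonoidClass.coe_finsetSum]
      apply H80.GA.ext'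
      intro x
      rw [H80.GA.coeff_sum']
      show ∑ i, a i * (b i : KG M G).coeff x = 0
      rw [← ha x]
      refine Finset.sum_congr rfl fun i _ => ?_
      rw [← hv i, coeff_iK]
      rfl
    exact funext fun i => Fintype.linearIndependent_iff.1 b.linearIndependent a h1 i
  have hC : LinearIndependent ℂ (fun i => (⟨iC M G (v i), hf2 _ _⟩ : WC)) := by
    rw [Fintype.linearIndependent_iff]
    intro a ha i
    have h1 : a = 0 := by
      refine indep_lift (M := M) (X := G) (v := fun i x => ((v i).coeff x : ℂ)) (fun i x => ((v i).coeff x).2)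
        hind (a := a) fun x => ?_
      have h2 := congrArg (fun z : WC => (z : MonoidAlgebra ℂ G).coeff x) ha
      simp only [AddSubmonoidClass.coe_finsetSum] at h2
      rw [H80.GA.coeff_sum'] at h2
      exact h2
    rw [h1]
    rfl
  have := hC.fintype_card_le_finrank
  rwa [Fintype.card_fin] at this

end lift

section corner

variable {k Λ : Type*} [Field k] [Ring Λ] [Algebra k Λ]

/-- the map `x ↦ e x e` -/
noncomputable def cmap (k : Type*) {Λ : Type*} [Field k] [Ring Λ] [Algebra k Λ] (e : Λ) : Λ →ₗ[k] Λ :=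
  (LinearMap.mulLeft k e).comp (LinearMap.mulRight k e)

theorem cmap_apply (e x : Λ) : cmap k e x = e * x * e := by
  unfold cmap
  rw [LinearMap.comp_apply, LinearMap.mulLeft_apply, LinearMap.mulRight_apply, mul_assoc]

theorem cmap_idem {e : Λ} (he : IsIdempotentElem e) : IsIdempotentElem (cmap k e) := by
  apply LinearMap.ext
  intro x
  show cmap k e (cmap k e x) = cmap k e x
  rw [cmap_apply, cmap_apply, ← mul_assoc, ← mul_assoc, he.eq, mul_assoc _ e e, he.eq]

theorem mem_range_cmap {e : Λ} (he : IsIdempotentElem e) {x : Λ} :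
    x ∈ LinearMap.range (cmap k e) ↔ e * x * e = x := by
  constructor
  · rintro ⟨y, rfl⟩
    have := LinearMap.congr_fun (cmap_idem (k := k) he).eq y
    rw [← cmap_apply (k := k)]
    exact this
  · intro h
    exact ⟨x, by rw [cmap_apply, h]⟩

end corner

section trace

variable {G : Type u} [Group G] [Finite G]

/-- the standard basis of the group algebra -/
noncomputable def gbasis (k : Type*) (G : Type u) [Field k] [Group G] [Finite G] : Basis G k (MonoidAlgebra k G) :=
  letI := Fintype.ofFinite G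
  Basis.ofEquivFun
    { toFun := fun a g => a.coeff g
      invFun := fun f => MonoidAlgebra.ofCoeff (Finsupp.equivFunOnFinite.symm f)
      left_inv := fun a => H80.GA.ext' fun x => rfl
      right_inv := fun f => rfl
      map_add' := fun _ _ => rfl
      map_smul' := fun _ _ => rfl }

theorem gbasis_repr {k : Type*} [Field k] (a : MonoidAlgebra k G) (g : G) :
    (gbasis k G).repr a g = a.coeff g := rfl

theorem gbasis_apply {k : Type*} [Field k] (g : G) : gbasis k G g = MonoidAlgebra.single g 1 := by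
  classical
  apply (gbasis k G).repr.injective
  rw [Basis.repr_self]
  ext x
  rw [gbasis_repr, MonoidAlgebra.coeff_single]

theorem trace_cmap (a : MonoidAlgebra ℂ G) [Fintype (IrrCharacter G)] :
    LinearMap.trace ℂ (MonoidAlgebra ℂ G) (cmap ℂ a) = ∑ χ : IrrCharacter G, evA (χ : G → ℂ) a ^ 2 := by
  classical
  letI := Fintype.ofFinite G
  rw [LinearMap.trace_eq_matrix_trace ℂ (gbasis ℂ G), Matrix.trace]
  -- the class function
  let φ : G → ℂ := fun x => ∑ g : G, a.coeff (g⁻¹ * x⁻¹ * g)
  have hφ : IsClassFunction G φ := by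
    intro x h
    show ∑ g : G, a.coeff (g⁻¹ * (h * x * h⁻¹)⁻¹ * g) = ∑ g : G, a.coeff (g⁻¹ * x⁻¹ * g)
    refine Fintype.sum_equiv (Equiv.mulLeft h⁻¹) _ _ fun g => ?_
    rw [Equiv.coe_mulLeft]
    congr 1
    group
  have h1 : ∀ g : G, (LinearMap.toMatrix (gbasis ℂ G) (gbasis ℂ G) (cmap ℂ a)).diag g =
      ∑ x : G, a.coeff x * a.coeff (g⁻¹ * x⁻¹ * g) := by
    intro g
    rw [Matrix.diag_apply, LinearMap.toMatrix_apply, gbasis_apply, gbasis_repr, cmap_apply, mul_assoc,
      H20.GA.coeff_mul_eq]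
    refine Finset.sum_congr rfl fun x _ => ?_
    rw [MonoidAlgebra.coeff_single_mul_apply, one_mul, mul_assoc]
  rw [Finset.sum_congr rfl fun g _ => h1 g, Finset.sum_comm]
  have h2 : ∀ x : G, ∑ g : G, a.coeff x * a.coeff (g⁻¹ * x⁻¹ * g) = a.coeff x * φ x := by
    intro x
    rw [← Finset.mul_sum]
  rw [Finset.sum_congr rfl fun x _ => h2 x]
  have h3 : ∀ χ : IrrCharacter G, classInner φ (χ : G → ℂ) = evA (χ : G → ℂ) a := by
    intro χ
    have hG : (Nat.card G : ℂ) ≠ 0 := by exact_mod_cast (Nat.card_pos (α := G)).ne'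
    rw [classInner]
    simp only [φ, Finset.sum_mul]
    rw [Finset.sum_comm]
    have h4 : ∀ g : G, ∑ x : G, a.coeff (g⁻¹ * x⁻¹ * g) * conj ((χ : G → ℂ) x) = evA (χ : G → ℂ) a := by
      intro g
      rw [evA_eq_sum]
      refine Fintype.sum_equiv ((Equiv.inv G).trans ((MulAut.conj g⁻¹).toEquiv)) _ _ fun x => ?_
      have e1 : ((Equiv.inv G).trans ((MulAut.conj g⁻¹).toEquiv)) x = g⁻¹ * x⁻¹ * g := by
        show g⁻¹ * x⁻¹ * (g⁻¹)⁻¹ = _
        rw [inv_inv]
      rw [e1]
      congr 1
      have e2 : (χ : G → ℂ) (g⁻¹ * x⁻¹ * g) = (χ : G → ℂ) x⁻¹ := by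
        have := isClassFunction_of_isIrr χ.2 x⁻¹ g⁻¹
        rwa [inv_inv] at this
      rw [e2]
      exact (char_inv (isCharacter_of_isIrr χ.2) x).symm
    rw [Finset.sum_congr rfl fun g _ => h4 g, Finset.sum_const, Finset.card_univ, nsmul_eq_mul,
      ← Nat.card_eq_fintype_card, ← mul_assoc, inv_mul_cancel₀ hG, one_mul]
  have h5 := mem_classFun_expand hφ
  have h6 : ∀ x : G, φ x = ∑ χ : IrrCharacter G, evA (χ : G → ℂ) a * (χ : G → ℂ) x := by
    intro x
    conv_lhs => rw [h5]
    rw [Finset.sum_apply]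
    refine Finset.sum_congr rfl fun χ _ => ?_
    rw [h3]
    rfl
  have h7 : ∀ x : G, a.coeff x * φ x = ∑ χ : IrrCharacter G, evA (χ : G → ℂ) a * (a.coeff x * (χ : G → ℂ) x) := by
    intro x
    rw [h6, Finset.mul_sum]
    exact Finset.sum_congr rfl fun χ _ => by ring
  rw [Finset.sum_congr rfl fun x _ => h7 x, Finset.sum_comm]
  refine Finset.sum_congr rfl fun χ _ => ?_
  rw [← Finset.mul_sum, ← evA_eq_sum, sq]

theorem finrank_corner {a : MonoidAlgebra ℂ G} (ha : IsIdempotentElem a) [Fintype (IrrCharacter G)] :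
    (finrank ℂ (LinearMap.range (cmap ℂ a)) : ℂ) = ∑ χ : IrrCharacter G, evA (χ : G → ℂ) a ^ 2 := by
  haveI : FiniteDimensional ℂ (MonoidAlgebra ℂ G) := inferInstance
  rw [← trace_cmap, (LinearMap.IsIdempotentElem.isProj_range _ (cmap_idem ha)).trace]

end trace

end H20.BrT
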