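import Mathlib
import Cfsg.Agent.Lib.H20.BrT9

/-!
# Brauer theory 10: dimensions of corners and of block centers over the residue field
-/

set_option autoImplicit false
set_option linter.unusedSectionVars false
set_option linter.unusedVariables false
set_option linter.style.haveILetI false

open Cfsg H20.Loc H20.GA H20.Blk H20.Orth H20.Defect H80.GA H80.GB H80.BR1 H84.RG H84.Star H18.CharBasic H18.CharOrtho
open Module
open scoped ComplexConjugate

universe u

namespace H20.BrT

section a
variable {M : Ideal AlgInt} [M.IsMaximal] {G : Type u} [Group G] [Finite G] {p : ℕ}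

theorem iK_surj (w : KG M G) : ∃ v : AR M G, iK M G v = w := by
  have hr : ∀ y : ResF M, ∃ c : locRing M, redHom M c = y := by
    intro y
    obtain ⟨b, hb⟩ := redFun_surjective y
    exact ⟨⟨b, algInt_mem b⟩, hb⟩
  choose r hr using hr
  refine ⟨MonoidAlgebra.ofCoeff (Finsupp.equivFunOnFinite.symm fun g => r (w.coeff g)), ?_⟩
  apply H80.GA.ext'
  intro x
  rw [coeff_iK]
  exact hr _

theorem finrank_red {ε : AR M G} (hε : IsIdempotentElem ε) :
    finrank (ResF M) (LinearMap.range (cmap (ResF M) (iK M G ε))) =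
      finrank ℂ (LinearMap.range (cmap ℂ (iC M G ε))) := by
  haveI : FiniteDimensional ℂ (MonoidAlgebra ℂ G) := inferInstance
  haveI : FiniteDimensional (ResF M) (KG M G) := inferInstance
  have hF := hε.map (iK M G)
  have hC := hε.map (iC M G)
  have h1 : finrank (ResF M) (LinearMap.range (cmap (ResF M) (iK M G ε))) ≤
      finrank ℂ (LinearMap.range (cmap ℂ (iC M G ε))) := by
    apply finrank_le_of_lift
    intro w hw
    rw [mem_range_cmap hF] at hw
    obtain ⟨v, rfl⟩ := iK_surj w
    refine ⟨ε * v * ε, by rw [map_mul, map_mul, hw], ?_⟩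
    rw [mem_range_cmap hC, ← map_mul, ← map_mul, ← mul_assoc, ← mul_assoc, hε.eq, mul_assoc _ ε ε, hε.eq]
  have h2 : finrank (ResF M) (LinearMap.ker (cmap (ResF M) (iK M G ε))) ≤
      finrank ℂ (LinearMap.ker (cmap ℂ (iC M G ε))) := by
    apply finrank_le_of_lift
    intro w hw
    rw [LinearMap.mem_ker, cmap_apply] at hw
    obtain ⟨v, rfl⟩ := iK_surj w
    refine ⟨v - ε * v * ε, by rw [map_sub, map_mul, map_mul, hw, sub_zero], ?_⟩
    rw [LinearMap.mem_ker, cmap_apply, ← map_mul, ← map_mul, mul_sub, sub_mul, ← mul_assoc, ← mul_assoc, hε.eq,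
      mul_assoc _ ε ε, hε.eq, sub_self, map_zero]
  have h3 := LinearMap.finrank_range_add_finrank_ker (cmap (ResF M) (iK M G ε))
  have h4 := LinearMap.finrank_range_add_finrank_ker (cmap ℂ (iC M G ε))
  letI := Fintype.ofFinite G
  have h5 := finrank_eq_card_basis (gbasis (ResF M) G)
  have h6 := finrank_eq_card_basis (gbasis ℂ G)
  have h7 : finrank (ResF M) (KG M G) = Fintype.card G := h5
  omega

theorem finrank_cornerF (D : Dat (ResF M) (KG M G)) (hM : IsPModular p M) (i : Fin D.n)
    [Fintype (IrrCharacter G)] : finrank (ResF M) (LinearMap.range (cmap (ResF M) (D.E i))) =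
      ∑ χ : IrrCharacter G, dec D hM χ i ^ 2 := by
  obtain ⟨ε, hε, h⟩ := exists_lift hM (D.idem i)
  rw [← h, finrank_red hε]
  have h1 := finrank_corner (hε.map (iC M G))
  have h2 : ((∑ χ : IrrCharacter G, dec D hM χ i ^ 2 : ℕ) : ℂ) = ∑ χ : IrrCharacter G, evA (χ : G → ℂ) (iC M G ε) ^ 2 := by
    push_cast
    refine Finset.sum_congr rfl fun χ _ => ?_
    rw [← dec_spec D hM, ← h, val_lift hM (isClassFunction_of_isIrr χ.2) hε]
  rw [← h2] at h1
  exact_mod_cast h1

end a

section center

variable {k : Type*} [Field k] {G : Type u} [Group G] [Finite G]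

/-- the part of the center where `e` acts as the identity -/
noncomputable def ZS (e : MonoidAlgebra k G) : Submodule k (MonoidAlgebra k G) :=
  Subalgebra.toSubmodule (Z k (⊤ : Subgroup G)) ⊓ LinearMap.ker (LinearMap.mulLeft k e - LinearMap.id)

/-- the part of the center where `e` acts as zero -/
noncomputable def ZS0 (e : MonoidAlgebra k G) : Submodule k (MonoidAlgebra k G) :=
  Subalgebra.toSubmodule (Z k (⊤ : Subgroup G)) ⊓ LinearMap.ker (LinearMap.mulLeft k e)

theorem mem_ZS {e a : MonoidAlgebra k G} : a ∈ ZS e ↔ a ∈ Z k (⊤ : Subgroup G) ∧ e * a = a := by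
  unfold ZS
  rw [Submodule.mem_inf, Subalgebra.mem_toSubmodule, LinearMap.mem_ker]
  simp [sub_eq_zero]

theorem mem_ZS0 {e a : MonoidAlgebra k G} : a ∈ ZS0 e ↔ a ∈ Z k (⊤ : Subgroup G) ∧ e * a = 0 := by
  unfold ZS0
  rw [Submodule.mem_inf, Subalgebra.mem_toSubmodule, LinearMap.mem_ker, LinearMap.mulLeft_apply]

theorem finrank_ZS_add {e : MonoidAlgebra k G} (heZ : e ∈ Z k (⊤ : Subgroup G)) (he : IsIdempotentElem e) :
    finrank k (ZS e) + finrank k (ZS0 e) = finrank k (Subalgebra.toSubmodule (Z k (⊤ : Subgroup G))) := by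
  haveI : FiniteDimensional k (MonoidAlgebra k G) := inferInstance
  rw [← Submodule.finrank_sup_add_finrank_inf_eq]
  have h1 : ZS e ⊓ ZS0 e = ⊥ := by
    rw [eq_bot_iff]
    intro a ha
    have h2 := (mem_ZS.1 ha.1).2
    rw [(mem_ZS0.1 ha.2).2] at h2
    exact (Submodule.mem_bot _).2 h2.symm
  have h2 : ZS e ⊔ ZS0 e = Subalgebra.toSubmodule (Z k (⊤ : Subgroup G)) := by
    apply le_antisymm
    · exact sup_le inf_le_left inf_le_left
    · intro a ha
      rw [Subalgebra.mem_toSubmodule] at ha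
      have e1 : a = e * a + (a - e * a) := by abel
      rw [e1]
      apply Submodule.add_mem_sup
      · rw [mem_ZS]
        exact ⟨mul_mem heZ ha, by rw [← mul_assoc, he.eq]⟩
      · rw [mem_ZS0]
        exact ⟨sub_mem ha (mul_mem heZ ha), by rw [mul_sub, ← mul_assoc, he.eq, sub_self]⟩
  rw [h1, h2, finrank_bot, add_zero]

theorem finrank_Z (k : Type*) [Field k] (G : Type u) [Group G] [Finite G] :
    finrank k (Subalgebra.toSubmodule (Z k (⊤ : Subgroup G))) = Nat.card (ConjClasses G) := by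
  classical
  letI := Fintype.ofFinite (ConjClasses G)
  let L : (ConjClasses G → k) →ₗ[k] MonoidAlgebra k G :=
    { toFun := fun f => MonoidAlgebra.ofCoeff (Finsupp.equivFunOnFinite.symm fun g => f (ConjClasses.mk g))
      map_add' := fun _ _ => H80.GA.ext' fun _ => rfl
      map_smul' := fun _ _ => H80.GA.ext' fun _ => rfl }
  have hL : ∀ f g, (L f).coeff g = f (ConjClasses.mk g) := fun _ _ => rfl
  have hinj : Function.Injective L := by
    intro f f' h
    funext c
    obtain ⟨g, rfl⟩ := ConjClasses.exists_rep c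
    rw [← hL f g, h, hL f' g]
  have hrange : LinearMap.range L = Subalgebra.toSubmodule (Z k (⊤ : Subgroup G)) := by
    ext a
    rw [Subalgebra.mem_toSubmodule]
    constructor
    · rintro ⟨f, rfl⟩
      refine ⟨mem_Fx'.2 ?_, Sp_top _⟩
      intro h _ x
      rw [hL, hL]
      congr 1
      rw [ConjClasses.mk_eq_mk_iff_isConj]
      exact (isConj_iff.2 ⟨h, rfl⟩).symm
    · intro ha
      have h1 := fun h x => mem_Fx'.1 ha.1 h (Subgroup.mem_top h) x
      refine ⟨fun c => Quotient.liftOn c (fun g => a.coeff g) ?_, ?_⟩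
      · intro g g' hgg
        obtain ⟨h, rfl⟩ := isConj_iff.1 hgg
        exact (h1 h g).symm
      · apply H80.GA.ext'
        intro x
        rw [hL]
        rfl
  rw [← hrange, LinearMap.finrank_range_of_inj hinj, finrank_fintype_fun_eq_card, Nat.card_eq_fintype_card]

end center

section cc

variable {G : Type u} [Group G] [Finite G]

theorem mem_Z_iff {a : MonoidAlgebra ℂ G} : a ∈ Z ℂ (⊤ : Subgroup G) ↔ a ∈ Subalgebra.center ℂ (MonoidAlgebra ℂ G) := by
  rw [H20.GA.mem_center_iff]
  constructor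
  · intro ha g h
    exact mem_Fx'.1 ha.1 h (Subgroup.mem_top h) g
  · intro h
    exact ⟨mem_Fx'.2 fun g _ x => h x g, Sp_top _⟩

/-- a central element is determined by the values of the characters in `T`, if the others vanish -/
theorem finrank_le_card {W : Submodule ℂ (MonoidAlgebra ℂ G)} (T : Set (IrrCharacter G))
    (hW : ∀ a ∈ W, a ∈ Z ℂ (⊤ : Subgroup G) ∧ ∀ χ : IrrCharacter G, χ ∉ T → evA (χ : G → ℂ) a = 0) :
    finrank ℂ W ≤ Nat.card T := by
  classical
  haveI : FiniteDimensional ℂ (MonoidAlgebra ℂ G) := inferInstance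
  letI := Fintype.ofFinite T
  let L : W →ₗ[ℂ] (T → ℂ) := LinearMap.pi fun χ => (evA ((χ : IrrCharacter G) : G → ℂ)).comp W.subtype
  have hinj : Function.Injective L := by
    rw [← LinearMap.ker_eq_bot, LinearMap.ker_eq_bot']
    intro a ha
    apply Subtype.ext
    have h1 := hW a a.2
    have h2 : mkZ (a : MonoidAlgebra ℂ G) (mem_Z_iff.1 h1.1) = 0 := by
      apply eq_zero_of_omega
      intro χ
      rw [omega_apply, toA_mkZ]
      by_cases hχ : χ ∈ T
      · have h3 := congrFun ha ⟨χ, hχ⟩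
        have h4 : evA (χ : G → ℂ) (a : MonoidAlgebra ℂ G) = 0 := h3
        rw [h4, zero_div]
      · rw [h1.2 χ hχ, zero_div]
    have h3 := congrArg toA h2
    rw [toA_mkZ, map_zero] at h3
    exact h3
  have := LinearMap.finrank_le_finrank_of_injective hinj
  rwa [finrank_fintype_fun_eq_card, ← Nat.card_eq_fintype_card] at this

theorem finrank_ZS_le (S : Set (IrrCharacter G)) : finrank ℂ (ZS (toA (eB S))) ≤ Nat.card S := by
  classical
  apply finrank_le_card
  intro a ha
  rw [mem_ZS] at ha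
  refine ⟨ha.1, fun χ hχ => ?_⟩
  rw [← ha.2, evA_eB_mul, if_neg hχ]

theorem finrank_ZS0_le (S : Set (IrrCharacter G)) : finrank ℂ (ZS0 (toA (eB S))) ≤ Nat.card (Sᶜ : Set (IrrCharacter G)) := by
  classical
  apply finrank_le_card
  intro a ha
  rw [mem_ZS0] at ha
  refine ⟨ha.1, fun χ hχ => ?_⟩
  rw [Set.mem_compl_iff, not_not] at hχ
  have := evA_eB_mul S χ a
  rw [if_pos hχ, ha.2, map_zero] at this
  exact this.symm

end cc

section fin

variable {M : Ideal AlgInt} [M.IsMaximal] {G : Type u} [Group G] [Finite G] {p : ℕ}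

/-- the dimension of the center of a block algebra is the number of its characters -/
theorem finrank_ZS {B : Set (IrrCharacter G)} (hB : IsPBlock M B) :
    finrank (ResF M) (ZS (ebar M B)) = Nat.card B := by
  haveI : M.IsPrime := inferInstance
  have hBz : eB B ∈ zr M G := eB_mem hB
  have hid : toA (eB B) * toA (eB B) = toA (eB B) := by rw [← map_mul, eB_mul_eB_self]
  have h1 : finrank (ResF M) (ZS (ebar M B)) ≤ finrank ℂ (ZS (toA (eB B))) := by
    apply finrank_le_of_lift
    intro w hw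
    rw [mem_ZS] at hw
    obtain ⟨z, hz, rfl⟩ := redZ_surj hw.1
    refine ⟨zR (eB B * z), ?_, ?_⟩
    · rw [iK_zR (mul_mem hBz hz), redZ_mul hBz hz]
      exact hw.2
    · rw [iC_zR (mul_mem hBz hz), mem_ZS]
      refine ⟨mem_Z_iff.2 (toA_mem _), ?_⟩
      rw [← map_mul, ← mul_assoc, eB_mul_eB_self]
  have h2 : finrank (ResF M) (ZS0 (ebar M B)) ≤ finrank ℂ (ZS0 (toA (eB B))) := by
    apply finrank_le_of_lift
    intro w hw
    rw [mem_ZS0] at hw
    obtain ⟨z, hz, rfl⟩ := redZ_surj hw.1
    have hz' : z - eB B * z ∈ zr M G := sub_mem hz (mul_mem hBz hz)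
    refine ⟨zR (z - eB B * z), ?_, ?_⟩
    · rw [iK_zR hz', redZ_sub hz (mul_mem hBz hz), redZ_mul hBz hz]
      have : redZ (eB B) * redZ z = 0 := hw.2
      rw [this, sub_zero]
    · rw [iC_zR hz', mem_ZS0]
      refine ⟨mem_Z_iff.2 (toA_mem _), ?_⟩
      rw [← map_mul, mul_sub, ← mul_assoc, eB_mul_eB_self, sub_self, map_zero]
  have h3 := finrank_ZS_le B
  have h4 := finrank_ZS0_le B
  have h5 := finrank_ZS_add (isBlk_ebar hB).mem (ebar_isIdem hB)
  rw [finrank_Z, ← card_irr_eq_card_conjClasses] at h5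
  have h6 : Nat.card B + Nat.card (Bᶜ : Set (IrrCharacter G)) = Nat.card (IrrCharacter G) := by
    rw [Nat.card_coe_set_eq, Nat.card_coe_set_eq]
    exact Set.ncard_add_ncard_compl B
  omega

end fin

end H20.BrT
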