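import Mathlib

/-!
# Local symmetric algebras with small center (Külshammer)

A local symmetric algebra `A` over a field `F` (with residue field `F`) whose center has dimension
at most 4 is commutative.
-/

set_option autoImplicit false
set_option linter.unusedSectionVars false
set_option linter.unusedVariables false
set_option linter.style.haveILetI false

open Module

namespace H20.LSA

/-- local symmetric algebras with residue field `F` -/
structure LocSym (F A : Type*) [Field F] [Ring A] [Algebra F A] where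
  ε : A →ₐ[F] F
  nil : ∀ x, ε x = 0 → IsNilpotent x
  lam : A →ₗ[F] F
  symm : ∀ a b, lam (a * b) = lam (b * a)
  nondeg : ∀ a, (∀ b, lam (a * b) = 0) → a = 0

variable {F A : Type*} [Field F] [Ring A] [Algebra F A] (S : LocSym F A)

namespace LocSym

/-- the radical -/
def J : Submodule F A := LinearMap.ker S.ε.toLinearMap

theorem mem_J {x : A} : x ∈ S.J ↔ S.ε x = 0 := Iff.rfl

theorem J_mul_left {x : A} (hx : x ∈ S.J) (a : A) : a * x ∈ S.J := by
  rw [mem_J] at *
  rw [map_mul, hx, mul_zero]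

theorem J_mul_right {x : A} (hx : x ∈ S.J) (a : A) : x * a ∈ S.J := by
  rw [mem_J] at *
  rw [map_mul, hx, zero_mul]

theorem sub_mem_J (x : A) : x - algebraMap F A (S.ε x) ∈ S.J := by
  rw [mem_J, map_sub, AlgHom.commutes]
  exact sub_self _

/-- the radical as a left ideal -/
def I : Ideal A :=
  { carrier := {x | S.ε x = 0}
    add_mem' := fun {a b} ha hb => by
      simp only [Set.mem_ofPred_eq] at *
      rw [map_add, ha, hb, add_zero]
    zero_mem' := by simp
    smul_mem' := fun c x hx => by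
      simp only [Set.mem_ofPred_eq, smul_eq_mul] at *
      rw [map_mul, hx, mul_zero] }

theorem I_le : S.I ≤ Ideal.jacobson ⊥ := by
  intro x hx
  rw [Ideal.mem_jacobson_iff]
  intro y
  have h1 : S.ε (-(y * x)) = 0 := by
    have hx' : S.ε x = 0 := hx
    rw [map_neg, map_mul, hx', mul_zero, neg_zero]
  have h2 : IsUnit (1 - -(y * x)) := (S.nil _ h1).isUnit_one_sub
  obtain ⟨u, hu⟩ := h2
  refine ⟨(↑u⁻¹ : A), ?_⟩
  rw [Ideal.mem_bot]
  have h3 : (↑u⁻¹ : A) * (1 - -(y * x)) = 1 := by rw [← hu, Units.inv_mul]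
  rw [sub_neg_eq_add, mul_add, mul_one] at h3
  rw [mul_assoc, sub_eq_zero, add_comm]
  exact h3

theorem pow_le (n : ℕ) : ∀ x ∈ S.J ^ n, x ∈ S.I ^ n := by
  induction n with
  | zero => intro x _; rw [Submodule.pow_zero, Ideal.one_eq_top]; trivial
  | succ n ih =>
    intro x hx
    rw [pow_succ] at hx
    rw [Submodule.pow_succ]
    refine Submodule.mul_induction_on hx (fun a ha b hb => ?_) (fun a b ha hb => add_mem ha hb)
    exact Ideal.mul_mem_mul (ih a ha) hb

variable [FiniteDimensional F A]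

theorem exists_pow : ∃ N, S.J ^ N = ⊥ := by
  haveI : IsArtinianRing A := IsArtinianRing.of_finite F A
  obtain ⟨N, hN⟩ := IsArtinianRing.isNilpotent_jacobson_bot (R := A)
  refine ⟨N, ?_⟩
  rw [eq_bot_iff]
  intro x hx
  have h1 := Ideal.pow_right_mono S.I_le N (S.pow_le N x hx)
  rw [hN] at h1
  exact h1

/-- Nakayama -/
theorem eq_bot_of_le {W : Submodule F A} (h : W ≤ S.J * W) : W = ⊥ := by
  obtain ⟨N, hN⟩ := S.exists_pow
  have h1 : ∀ n, W ≤ S.J ^ n * W := by
    intro n
    induction n with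
    | zero => rw [pow_zero, one_mul]
    | succ n ih =>
      calc W ≤ S.J ^ n * W := ih
        _ ≤ S.J ^ n * (S.J * W) := mul_le_mul' le_rfl h
        _ = S.J ^ (n + 1) * W := by rw [pow_succ, mul_assoc]
  have h2 := h1 N
  rw [hN, Submodule.bot_mul] at h2
  exact eq_bot_iff.2 h2

/-- the commutator space -/
def K (F A : Type*) [Field F] [Ring A] [Algebra F A] : Submodule F A :=
  Submodule.span F {c | ∃ a b : A, c = a * b - b * a}

theorem comm_mem_K (a b : A) : a * b - b * a ∈ K F A := Submodule.subset_span ⟨a, b, rfl⟩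

theorem comm_eq (a b : A) : a * b - b * a =
    (a - algebraMap F A (S.ε a)) * (b - algebraMap F A (S.ε b)) -
      (b - algebraMap F A (S.ε b)) * (a - algebraMap F A (S.ε a)) := by
  have h1 := Algebra.commutes (S.ε a) b
  have h2 := Algebra.commutes (S.ε b) a
  have h3 := Algebra.commutes (S.ε a) (algebraMap F A (S.ε b))
  simp only [sub_mul, mul_sub]
  rw [h1, h2, h3]
  abel

include S

theorem K_le : K F A ≤ S.J * S.J := by
  unfold K
  rw [Submodule.span_le]
  rintro _ ⟨a, b, rfl⟩
  rw [S.comm_eq]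
  exact sub_mem (Submodule.mul_mem_mul (S.sub_mem_J _) (S.sub_mem_J _))
    (Submodule.mul_mem_mul (S.sub_mem_J _) (S.sub_mem_J _))

theorem lam_K {x : A} (hx : x ∈ K F A) : S.lam x = 0 := by
  have : K F A ≤ LinearMap.ker S.lam := by
    unfold K
    rw [Submodule.span_le]
    rintro _ ⟨a, b, rfl⟩
    rw [SetLike.mem_coe, LinearMap.mem_ker, map_sub, S.symm, sub_self]
  exact this hx

/-- the form -/
noncomputable def form : LinearMap.BilinForm F A := (LinearMap.mul F A).compr₂ S.lam

theorem form_apply (a b : A) : S.form a b = S.lam (a * b) := rfl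

theorem finrank_center : finrank F (Subalgebra.center F A) + finrank F (K F A) = finrank F A := by
  have h1 := LinearMap.BilinForm.finrank_add_finrank_orthogonal' (B := S.form) (K F A)
  have h2 : LinearMap.ker S.form = ⊥ := by
    rw [LinearMap.ker_eq_bot']
    intro a ha
    apply S.nondeg
    intro b
    exact LinearMap.congr_fun ha b
  have h3 : S.form.orthogonal (K F A) = Subalgebra.toSubmodule (Subalgebra.center F A) := by
    ext z
    rw [LinearMap.BilinForm.mem_orthogonal_iff, Subalgebra.mem_toSubmodule, Subalgebra.mem_center_iff]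
    constructor
    · intro h b
      rw [← sub_eq_zero]
      have : z * b - b * z = 0 := by
        apply S.nondeg
        intro a
        have h4 := h _ (comm_mem_K (F := F) b a)
        change S.lam ((b * a - a * b) * z) = 0 at h4
        rw [sub_mul, map_sub] at h4
        rw [sub_mul, map_sub]
        have e1 : S.lam (z * b * a) = S.lam (b * a * z) := by rw [mul_assoc, S.symm]
        have e2 : S.lam (b * z * a) = S.lam (a * b * z) := by
          rw [S.symm, ← mul_assoc]
        rw [e1, e2, h4]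
      rw [← neg_sub, this, neg_zero]
    · intro h x hx
      change S.lam (x * z) = 0
      have : K F A ≤ LinearMap.ker (S.lam.comp (LinearMap.mulRight F z)) := by
        unfold K
        rw [Submodule.span_le]
        rintro _ ⟨a, b, rfl⟩
        rw [SetLike.mem_coe, LinearMap.mem_ker]
        change S.lam ((a * b - b * a) * z) = 0
        rw [sub_mul, map_sub, sub_eq_zero]
        rw [mul_assoc b, h a, ← mul_assoc, S.symm (b * z), ← mul_assoc, mul_assoc a b z]
      exact this hx
  rw [h3, h2, inf_bot_eq, finrank_bot, add_zero] at h1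
  rw [add_comm]
  exact h1

theorem finrank_J : finrank F S.J + 1 = finrank F A := by
  have h1 := LinearMap.finrank_range_add_finrank_ker S.ε.toLinearMap
  have h2 : LinearMap.range S.ε.toLinearMap = ⊤ := by
    rw [LinearMap.range_eq_top]
    intro c
    exact ⟨algebraMap F A c, S.ε.commutes c⟩
  rw [h2, finrank_top, finrank_self] at h1
  unfold J
  omega

/-- a nonzero right ideal contains an element with nonzero form -/
theorem exists_lam {W : Submodule F A} (hW : W ≠ ⊥) (h : ∀ w ∈ W, ∀ a, w * a ∈ W) : ∃ s ∈ W, S.lam s ≠ 0 := by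
  by_contra! hno
  apply hW
  rw [eq_bot_iff]
  intro w hw
  rw [Submodule.mem_bot]
  exact S.nondeg w fun b => hno _ (h w hw b)

theorem mul_J {W : Submodule F A} : ∀ w ∈ W * S.J, ∀ a, w * a ∈ W * S.J := by
  intro w hw a
  refine Submodule.mul_induction_on hw (fun m hm n hn => ?_) (fun x y hx hy => ?_)
  · rw [mul_assoc]
    exact Submodule.mul_mem_mul hm (S.J_mul_right hn a)
  · rw [add_mul]
    exact add_mem hx hy

/-- one generator: commutative -/
theorem comm_of_gen {x : A} (hx : x ∈ S.J) (h : S.J ≤ Submodule.span F {x} ⊔ S.J * S.J) (a b : A) :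
    a * b = b * a := by
  set P := Subalgebra.toSubmodule (Algebra.adjoin F ({x} : Set A)) with hP
  have hxP : x ∈ Algebra.adjoin F ({x} : Set A) := Algebra.subset_adjoin rfl
  have hPx : P * Submodule.span F {x} ≤ P := by
    rw [Submodule.mul_le]
    intro m hm n hn
    have hn' : n ∈ P := (Submodule.span_le.2 (Set.singleton_subset_iff.2 hxP)) hn
    exact (Algebra.adjoin F ({x} : Set A)).mul_mem hm hn'
  have hxJ : Submodule.span F {x} ≤ S.J := Submodule.span_le.2 (Set.singleton_subset_iff.2 hx)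
  have h1 : ∀ m : ℕ, S.J ^ m ≤ P ⊔ S.J ^ (m + 1) := by
    intro m
    induction m with
    | zero =>
      refine le_trans ?_ le_sup_left
      rw [pow_zero, Submodule.one_le]
      exact (Algebra.adjoin F ({x} : Set A)).one_mem
    | succ m ih =>
      calc S.J ^ (m + 1) = S.J ^ m * S.J := pow_succ _ _
        _ ≤ S.J ^ m * (Submodule.span F {x} ⊔ S.J * S.J) := mul_le_mul' le_rfl h
        _ = S.J ^ m * Submodule.span F {x} ⊔ S.J ^ m * (S.J * S.J) := by rw [Submodule.mul_sup]
        _ ≤ (P ⊔ S.J ^ (m + 1)) * Submodule.span F {x} ⊔ S.J ^ (m + 2) := by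
            refine sup_le_sup (mul_le_mul' ih le_rfl) ?_
            rw [← mul_assoc, ← pow_succ, ← pow_succ]
        _ = P * Submodule.span F {x} ⊔ S.J ^ (m + 1) * Submodule.span F {x} ⊔ S.J ^ (m + 2) := by
            rw [Submodule.sup_mul]
        _ ≤ P ⊔ S.J ^ (m + 1 + 1) := by
            refine sup_le (sup_le (hPx.trans le_sup_left) ?_) le_sup_right
            refine le_trans ?_ le_sup_right
            rw [pow_succ _ (m + 1)]
            exact mul_le_mul' le_rfl hxJ
  have h2 : ∀ m : ℕ, (⊤ : Submodule F A) ≤ P ⊔ S.J ^ (m + 1) := by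
    intro m
    induction m with
    | zero =>
      intro y _
      rw [zero_add, pow_one]
      have : y = algebraMap F A (S.ε y) + (y - algebraMap F A (S.ε y)) := by abel
      rw [this]
      exact Submodule.add_mem_sup ((Algebra.adjoin F ({x} : Set A)).algebraMap_mem _) (S.sub_mem_J y)
    | succ m ih =>
      exact ih.trans (sup_le le_sup_left (h1 (m + 1)))
  obtain ⟨N, hN⟩ := S.exists_pow
  have h3 : (⊤ : Submodule F A) ≤ P := by
    have := h2 N
    rwa [pow_succ, hN, Submodule.bot_mul, sup_bot_eq] at this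
  have h4 : ∀ y : A, y ∈ Algebra.adjoin F ({x} : Set A) := fun y => h3 (Submodule.mem_top (x := y))
  have h5 : ∀ y : A, y * x = x * y := by
    intro y
    have h6 : Algebra.adjoin F ({x} : Set A) ≤ Subalgebra.centralizer F {x} := by
      rw [Algebra.adjoin_le_iff]
      rintro _ rfl
      rw [SetLike.mem_coe, Subalgebra.mem_centralizer_iff]
      rintro _ rfl
      rfl
    have h7 := h6 (h4 y)
    rw [Subalgebra.mem_centralizer_iff] at h7
    exact (h7 x rfl).symm
  have h8 : Algebra.adjoin F ({x} : Set A) ≤ Subalgebra.center F A := by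
    rw [Algebra.adjoin_le_iff]
    rintro _ rfl
    rw [SetLike.mem_coe, Subalgebra.mem_center_iff]
    exact h5
  exact (Subalgebra.mem_center_iff.1 (h8 (h4 a)) b).symm

omit S in
theorem exists_one {V W : Submodule F A} (hWV : W ≤ V) (h : finrank F V ≤ finrank F W + 1) :
    ∃ x ∈ V, V ≤ Submodule.span F {x} ⊔ W := by
  by_cases hVW : V ≤ W
  · exact ⟨0, V.zero_mem, hVW.trans le_sup_right⟩
  · obtain ⟨x, hxV, hxW⟩ := SetLike.not_le_iff_exists.1 hVW
    refine ⟨x, hxV, ?_⟩
    have h1 : Submodule.span F {x} ⊔ W ≤ V := sup_le (Submodule.span_le.2 (Set.singleton_subset_iff.2 hxV)) hWV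
    have h2 : W < Submodule.span F {x} ⊔ W := by
      refine lt_of_le_of_ne le_sup_right ?_
      intro he
      apply hxW
      rw [he]
      exact Submodule.mem_sup_left (Submodule.mem_span_singleton_self x)
    have h3 := Submodule.finrank_lt_finrank_of_lt h2
    exact (Submodule.eq_of_le_of_finrank_le h1 (by omega)).ge

omit S in
theorem exists_two {V W : Submodule F A} (hWV : W ≤ V) (h : finrank F V ≤ finrank F W + 2) :
    ∃ x ∈ V, ∃ y ∈ V, V ≤ Submodule.span F {x} ⊔ (Submodule.span F {y} ⊔ W) := by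
  by_cases hVW : V ≤ W
  · exact ⟨0, V.zero_mem, 0, V.zero_mem, hVW.trans (le_sup_of_le_right le_sup_right)⟩
  · obtain ⟨y, hyV, hyW⟩ := SetLike.not_le_iff_exists.1 hVW
    have h1 : Submodule.span F {y} ⊔ W ≤ V := sup_le (Submodule.span_le.2 (Set.singleton_subset_iff.2 hyV)) hWV
    have h2 : W < Submodule.span F {y} ⊔ W := by
      refine lt_of_le_of_ne le_sup_right ?_
      intro he
      apply hyW
      rw [he]
      exact Submodule.mem_sup_left (Submodule.mem_span_singleton_self y)
    have h3 := Submodule.finrank_lt_finrank_of_lt h2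
    obtain ⟨x, hx, hx'⟩ := exists_one h1 (by omega)
    exact ⟨x, hx, y, hyV, hx'⟩

omit S in
theorem elim {V : Type*} [AddCommGroup V] [Module F V] {a11 a12 a21 a22 : F} (h : a12 - a21 = 1)
    {R1 R2 L1 L2 : V}
    (e111 : a11 • R1 = a11 • L1) (e112 : a11 • R2 = a12 • L1) (e121 : a12 • R1 = a21 • L1)
    (e122 : a12 • R2 = a22 • L1) (e211 : a21 • R1 = a11 • L2) (e212 : a21 • R2 = a12 • L2)
    (e221 : a22 • R1 = a21 • L2) (e222 : a22 • R2 = a22 • L2) : L1 = 0 ∧ L2 = 0 := by
  have key : ∀ {c : F} {v w : V}, c ≠ 0 → c • v = c • w → v = w := by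
    intro c v w hc h
    exact smul_right_injective V hc h
  have key0 : ∀ {c : F} {v : V}, c ≠ 0 → c • v = 0 → v = 0 := by
    intro c v hc h
    exact (smul_eq_zero.1 h).resolve_left hc
  have ha : a12 = a21 + 1 := by linear_combination h
  by_cases h11 : a11 = 0
  · by_cases h22 : a22 = 0
    · subst h11
      subst h22
      simp only [zero_smul] at e112 e122 e211 e221
      by_cases h12 : a12 = 0
      · have h21 : a21 ≠ 0 := by
          intro h0
          rw [h12, h0, sub_zero] at h
          exact zero_ne_one h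
        refine ⟨?_, key0 h21 e221.symm⟩
        rw [h12, zero_smul] at e121
        exact key0 h21 e121.symm
      · have hL1 := key0 h12 e112.symm
        have hR2 := key0 h12 e122
        rw [hR2, smul_zero] at e212
        exact ⟨hL1, key0 h12 e212.symm⟩
    · have hR2 := key h22 e222
      have hL2 : L2 = 0 := by
        rw [hR2, ha, add_smul, one_smul] at e212
        exact (left_eq_add.1 e212)
      rw [h11] at *
      rw [hL2] at hR2 e221
      rw [hR2, smul_zero] at e122
      exact ⟨key0 h22 e122.symm, hL2⟩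
  · have hR1 := key h11 e111
    have hL1 : L1 = 0 := by
      rw [hR1, ha, add_smul, one_smul] at e121
      exact (add_eq_left.1 e121)
    rw [hL1] at hR1
    rw [hR1, smul_zero] at e211
    exact ⟨hL1, key0 h11 e211.symm⟩

/-- **Külshammer**: a local symmetric algebra with center of dimension at most four is commutative -/
theorem comm_of_center_le_four (h4 : finrank F (Subalgebra.center F A) ≤ 4) (a b : A) : a * b = b * a := by
  by_contra hab
  have hK : K F A ≠ ⊥ := by
    intro h
    apply hab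
    have h1 := comm_mem_K (F := F) a b
    rw [h, Submodule.mem_bot] at h1
    exact sub_eq_zero.1 h1
  have hJ2 : S.J * S.J ≠ ⊥ := fun h => hK (eq_bot_iff.2 (h ▸ S.K_le))
  have hJ2J : S.J * S.J ≤ S.J := Submodule.mul_le.2 fun m hm n hn => S.J_mul_left hn m
  -- K < J2
  have hlt : ∀ {s : A}, s ∈ S.J * S.J → S.lam s ≠ 0 → finrank F (K F A) + 1 ≤ finrank F (S.J * S.J : Submodule F A) := by
    intro s hs hs0
    apply Submodule.finrank_lt_finrank_of_lt
    refine lt_of_le_of_ne S.K_le ?_
    intro he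
    apply hs0
    apply S.lam_K
    rw [he]
    exact hs
  obtain ⟨s, hs, hs0⟩ := S.exists_lam hJ2 S.mul_J
  have d1 := hlt hs hs0
  have d2 : finrank F (S.J * S.J : Submodule F A) + 2 ≤ finrank F S.J := by
    by_contra! hlt2
    obtain ⟨x, hx, hx'⟩ := exists_one hJ2J (by omega)
    exact hab (S.comm_of_gen hx hx' a b)
  have d3 := S.finrank_center
  have d4 := S.finrank_J
  have d5 : finrank F (S.J * S.J : Submodule F A) = finrank F (K F A) + 1 := by omega
  have d6 : finrank F S.J = finrank F (S.J * S.J : Submodule F A) + 2 := by omega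
  set J := S.J with hJ
  -- the cube is nonzero
  have hJ3 : J * J * J ≠ ⊥ := by
    intro h3
    apply hK
    rw [eq_bot_iff]
    intro x hx
    rw [Submodule.mem_bot]
    apply S.nondeg
    intro y
    have e1 : x * (y - algebraMap F A (S.ε y)) = 0 := by
      have : x * (y - algebraMap F A (S.ε y)) ∈ J * J * J := Submodule.mul_mem_mul (S.K_le hx) (S.sub_mem_J y)
      rw [h3] at this
      exact this
    have e2 : x * y = S.ε y • x := by
      rw [mul_sub, sub_eq_zero] at e1
      rw [e1, ← Algebra.commutes, ← Algebra.smul_def]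
    rw [e2, map_smul, S.lam_K hx, smul_zero]
  have hJ32 : J * J * J ≤ J * J := mul_le_mul' hJ2J le_rfl
  obtain ⟨s3, hs3, hs30⟩ := S.exists_lam hJ3 S.mul_J
  have hJ2K : J * J ≤ K F A ⊔ J * J * J := by
    have h1 : K F A < K F A ⊔ J * J * J := by
      refine lt_of_le_of_ne le_sup_left ?_
      intro he
      apply hs30
      apply S.lam_K
      rw [he]
      exact Submodule.mem_sup_right hs3
    have h2 := Submodule.finrank_lt_finrank_of_lt h1
    exact (Submodule.eq_of_le_of_finrank_le (sup_le (show K F A ≤ J * J from S.K_le) hJ32) (by omega)).ge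
  obtain ⟨x1, hx1, x2, hx2, hx⟩ := exists_two hJ2J (by omega : finrank F J ≤ _)
  have hdec : ∀ y ∈ J, ∃ α β : F, ∃ y2 ∈ J * J, y = α • x1 + β • x2 + y2 := by
    intro y hy
    obtain ⟨u, hu, v, hv, rfl⟩ := Submodule.mem_sup.1 (hx hy)
    obtain ⟨v1, hv1, v2, hv2, rfl⟩ := Submodule.mem_sup.1 hv
    obtain ⟨α, rfl⟩ := Submodule.mem_span_singleton.1 hu
    obtain ⟨β, rfl⟩ := Submodule.mem_span_singleton.1 hv1
    exact ⟨α, β, v2, hv2, by rw [add_assoc]⟩
  set w := x1 * x2 - x2 * x1 with hw
  have hJJ2 : ∀ {u v : A}, u ∈ J → v ∈ J * J → u * v ∈ J * J * J := by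
    intro u v hu hv
    rw [mul_assoc]
    exact Submodule.mul_mem_mul hu hv
  have hJ2J' : ∀ {u v : A}, u ∈ J * J → v ∈ J → u * v ∈ J * J * J := fun hu hv => Submodule.mul_mem_mul hu hv
  have hKw : K F A ≤ Submodule.span F {w} ⊔ J * J * J := by
    unfold K
    rw [Submodule.span_le]
    rintro _ ⟨u, v, rfl⟩
    rw [S.comm_eq]
    obtain ⟨α, β, y, hy, e1⟩ := hdec _ (S.sub_mem_J u)
    obtain ⟨γ, δ, z, hz, e2⟩ := hdec _ (S.sub_mem_J v)
    rw [e1, e2, SetLike.mem_coe]
    have hvJ := S.sub_mem_J v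
    rw [e2] at hvJ
    have e3 : (α • x1 + β • x2 + y) * (γ • x1 + δ • x2 + z) - (γ • x1 + δ • x2 + z) * (α • x1 + β • x2 + y) =
        (α * δ - β * γ) • w + ((α • x1 + β • x2) * z + y * (γ • x1 + δ • x2 + z) -
          (γ • x1 + δ • x2 + z) * y - z * (α • x1 + β • x2)) := by
      rw [hw]
      simp only [add_mul, mul_add, smul_mul_assoc, mul_smul_comm]
      module
    rw [e3]
    have hxx : α • x1 + β • x2 ∈ J := add_mem (J.smul_mem _ hx1) (J.smul_mem _ hx2)
    refine Submodule.add_mem_sup (Submodule.smul_mem _ _ (Submodule.mem_span_singleton_self w)) ?_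
    exact sub_mem (sub_mem (add_mem (hJJ2 hxx hz) (hJ2J' hy hvJ)) (hJJ2 hvJ hy)) (hJ2J' hz hxx)
  have hJ2w : J * J ≤ Submodule.span F {w} ⊔ J * J * J := hJ2K.trans (sup_le hKw le_sup_right)
  have hdec2 : ∀ y ∈ J * J, ∃ α : F, ∃ t ∈ J * J * J, y = α • w + t := by
    intro y hy
    obtain ⟨u, hu, v, hv, rfl⟩ := Submodule.mem_sup.1 (hJ2w hy)
    obtain ⟨α, rfl⟩ := Submodule.mem_span_singleton.1 hu
    exact ⟨α, v, hv, rfl⟩
  have hwJ3 : w ∉ J * J * J := by
    intro h
    apply hJ2
    apply S.eq_bot_of_le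
    rw [← mul_assoc]
    exact hJ2w.trans (sup_le (Submodule.span_le.2 (Set.singleton_subset_iff.2 h)) le_rfl)
  obtain ⟨a11, t11, ht11, q11⟩ := hdec2 _ (Submodule.mul_mem_mul hx1 hx1)
  obtain ⟨a12, t12, ht12, q12⟩ := hdec2 _ (Submodule.mul_mem_mul hx1 hx2)
  obtain ⟨a21, t21, ht21, q21⟩ := hdec2 _ (Submodule.mul_mem_mul hx2 hx1)
  obtain ⟨a22, t22, ht22, q22⟩ := hdec2 _ (Submodule.mul_mem_mul hx2 hx2)
  have ha : a12 - a21 = 1 := by
    by_contra hne
    apply hwJ3
    have e1 : (a12 - a21 - 1) • w = t21 - t12 := by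
      have e2 : w = a12 • w + t12 - (a21 • w + t21) := by
        rw [← q12, ← q21]
      rw [sub_smul, sub_smul, one_smul]
      have e3 : a12 • w - a21 • w - w = a12 • w - a21 • w - (a12 • w + t12 - (a21 • w + t21)) := by
        rw [← e2]
      rw [e3]
      abel
    have h0 : a12 - a21 - 1 ≠ 0 := sub_ne_zero.2 hne
    have e4 : w = (a12 - a21 - 1)⁻¹ • (t21 - t12) := by
      rw [← e1, smul_smul, inv_mul_cancel₀ h0, one_smul]
    rw [e4]
    exact Submodule.smul_mem _ _ (sub_mem ht21 ht12)
  set J4 := J * J * J * J with hJ4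
  have hJ3J : ∀ {u v : A}, u ∈ J * J * J → v ∈ J → u * v ∈ J4 := fun hu hv => Submodule.mul_mem_mul hu hv
  have hJJ3 : ∀ {u v : A}, u ∈ J → v ∈ J * J * J → u * v ∈ J4 := by
    intro u v hu hv
    have : J4 = J * (J * J * J) := by rw [hJ4]; simp only [mul_assoc]
    rw [this]
    exact Submodule.mul_mem_mul hu hv
  have hJ2J2 : ∀ {u v : A}, u ∈ J * J → v ∈ J * J → u * v ∈ J4 := by
    intro u v hu hv
    have : J4 = J * J * (J * J) := by rw [hJ4]; simp only [mul_assoc]
    rw [this]
    exact Submodule.mul_mem_mul hu hv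
  have rel : ∀ {y1 y2 y3 t t' : A} {c c' : F}, y1 ∈ J → y3 ∈ J → t ∈ J * J * J → t' ∈ J * J * J →
      y1 * y2 = c • w + t → y2 * y3 = c' • w + t' →
      c • (Submodule.Quotient.mk (w * y3) : A ⧸ J4) = c' • (Submodule.Quotient.mk (y1 * w) : A ⧸ J4) := by
    intro y1 y2 y3 t t' c c' h1 h3 ht ht' e1 e2
    rw [← Submodule.Quotient.mk_smul, ← Submodule.Quotient.mk_smul, Submodule.Quotient.eq]
    have e3 : c • (w * y3) - c' • (y1 * w) = y1 * t' - t * y3 := by
      have e4 : (c • w + t) * y3 = y1 * (c' • w + t') := by rw [← e1, ← e2, mul_assoc]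
      rw [add_mul, mul_add, smul_mul_assoc, mul_smul_comm] at e4
      rw [sub_eq_sub_iff_add_eq_add, e4]
      abel
    rw [e3]
    exact sub_mem (hJJ3 h1 ht') (hJ3J ht h3)
  obtain ⟨hL1, hL2⟩ := elim (V := A ⧸ J4) ha
    (rel hx1 hx1 ht11 ht11 q11 q11) (rel hx1 hx2 ht11 ht12 q11 q12) (rel hx1 hx1 ht12 ht21 q12 q21)
    (rel hx1 hx2 ht12 ht22 q12 q22) (rel hx2 hx1 ht21 ht11 q21 q11) (rel hx2 hx2 ht21 ht12 q21 q12)
    (rel hx2 hx1 ht22 ht21 q22 q21) (rel hx2 hx2 ht22 ht22 q22 q22)
  rw [Submodule.Quotient.mk_eq_zero] at hL1 hL2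
  apply hJ3
  apply S.eq_bot_of_le
  have hfin : J * J * J ≤ J4 := by
    rw [mul_assoc, Submodule.mul_le]
    intro m hm n hn
    obtain ⟨α, β, y, hy, rfl⟩ := hdec m hm
    have hyn : y * n ∈ J4 := hJ2J2 hy hn
    obtain ⟨γ, t, ht, rfl⟩ := hdec2 n hn
    have e1 : (α • x1 + β • x2 + y) * (γ • w + t) = (α * γ) • (x1 * w) + (β * γ) • (x2 * w) +
        α • (x1 * t) + β • (x2 * t) + y * (γ • w + t) := by
      simp only [add_mul, mul_add, smul_mul_assoc, mul_smul_comm]
      module
    rw [e1]
    exact add_mem (add_mem (add_mem (add_mem (Submodule.smul_mem _ _ hL1) (Submodule.smul_mem _ _ hL2))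
      (Submodule.smul_mem _ _ (hJJ3 hx1 ht))) (Submodule.smul_mem _ _ (hJJ3 hx2 ht))) hyn
  have : J4 = J * (J * J * J) := by rw [hJ4]; simp only [mul_assoc]
  exact hfin.trans this.le

end LocSym

end H20.LSA
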