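import Mathlib
import Cfsg.Agent.Lib.H20.BrT1
import Cfsg.Agent.Lib.H20.LSA
import Cfsg.Agent.Lib.H20.BrT10

/-!
# The corner algebra at a primitive idempotent of a symmetric algebra
-/

set_option autoImplicit false
set_option linter.unusedSectionVars false
set_option linter.unusedVariables false
set_option linter.style.haveILetI false

open Module

namespace H20.Cor

open H20.BrT H20.LSA

section alg

variable {k Λ : Type*} [Field k] [Ring Λ] [Algebra k Λ] {e : Λ}

theorem mem_c (he : IsIdempotentElem e) {x : Λ} : x ∈ Subsemigroup.corner e ↔ e * x = x ∧ x * e = x :=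
  Subsemigroup.mem_corner_iff he

theorem smul_mem_c (c : k) {x : Λ} (hx : x ∈ Subsemigroup.corner e) : c • x ∈ Subsemigroup.corner e := by
  obtain ⟨y, rfl⟩ := hx
  exact ⟨c • y, by simp⟩

noncomputable instance instSMulCorner (he : IsIdempotentElem e) : SMul k he.Corner :=
  ⟨fun c x => ⟨c • x.1, smul_mem_c c x.2⟩⟩

theorem coe_smul (he : IsIdempotentElem e) (c : k) (x : he.Corner) : (c • x).1 = c • x.1 := rfl

noncomputable instance instModuleCorner (he : IsIdempotentElem e) : Module k he.Corner where
  one_smul x := Subtype.ext (one_smul k x.1)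
  mul_smul a b x := Subtype.ext (mul_smul a b x.1)
  smul_zero a := Subtype.ext (smul_zero a)
  smul_add a x y := Subtype.ext (smul_add a x.1 y.1)
  add_smul a b x := Subtype.ext (add_smul a b x.1)
  zero_smul x := Subtype.ext (zero_smul k x.1)

noncomputable instance instAlgebraCorner (he : IsIdempotentElem e) : Algebra k he.Corner :=
  Algebra.ofModule (fun c x y => Subtype.ext (smul_mul_assoc c x.1 y.1))
    (fun c x y => Subtype.ext (mul_smul_comm c x.1 y.1))

theorem coe_mul (he : IsIdempotentElem e) (x y : he.Corner) : (x * y).1 = x.1 * y.1 := rfl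
theorem coe_add (he : IsIdempotentElem e) (x y : he.Corner) : (x + y).1 = x.1 + y.1 := rfl
theorem coe_one (he : IsIdempotentElem e) : (1 : he.Corner).1 = e := rfl
theorem coe_zero (he : IsIdempotentElem e) : (0 : he.Corner).1 = 0 := rfl
theorem coe_sub (he : IsIdempotentElem e) (x y : he.Corner) : (x - y).1 = x.1 - y.1 := by
  have h : (x - y) + y = x := sub_add_cancel x y
  have h2 := congrArg Subtype.val h
  rw [coe_add] at h2
  rw [← h2, add_sub_cancel_right]

theorem coe_pow (he : IsIdempotentElem e) (x : he.Corner) (n : ℕ) : (x ^ (n + 1)).1 = x.1 ^ (n + 1) := by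
  induction n with
  | zero => rw [zero_add, pow_one, pow_one]
  | succ n ih => rw [pow_succ, coe_mul, ih, ← pow_succ]

theorem c_left (he : IsIdempotentElem e) (x : he.Corner) : e * x.1 = x.1 := ((mem_c he).1 x.2).1
theorem c_right (he : IsIdempotentElem e) (x : he.Corner) : x.1 * e = x.1 := ((mem_c he).1 x.2).2

/-- elements of the corner -/
def mk (he : IsIdempotentElem e) (x : Λ) : he.Corner := ⟨e * x * e, ⟨x, rfl⟩⟩

theorem coe_mk (he : IsIdempotentElem e) (x : Λ) : (mk he x).1 = e * x * e := rfl

theorem mk_coe (he : IsIdempotentElem e) (x : he.Corner) : mk he x.1 = x := by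
  apply Subtype.ext
  rw [coe_mk, c_left, c_right]

/-- the corner as a submodule -/
noncomputable def toRange (he : IsIdempotentElem e) : he.Corner ≃ₗ[k] LinearMap.range (cmap k e) where
  toFun x := ⟨x.1, (mem_range_cmap he).2 (by rw [c_left, c_right])⟩
  invFun x := ⟨x.1, ⟨x.1, (mem_range_cmap he).1 x.2⟩⟩
  left_inv x := rfl
  right_inv x := rfl
  map_add' x y := rfl
  map_smul' c x := rfl

instance instFDCorner [FiniteDimensional k Λ] (he : IsIdempotentElem e) : FiniteDimensional k he.Corner :=
  LinearEquiv.finiteDimensional (toRange (k := k) he).symm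

theorem finrank_corner (he : IsIdempotentElem e) :
    finrank k he.Corner = finrank k (LinearMap.range (cmap k e)) := (toRange he).finrank_eq

end alg

section dat

variable {k Λ : Type*} [Field k] [Ring Λ] [Algebra k Λ] (D : Dat k Λ)

theorem vec_eq {m : ℕ} [NeZero m] : Matrix.vecMulVec (Pi.single (0 : Fin m) (1 : k)) (Pi.single (0 : Fin m) (1 : k)) =
    Matrix.single 0 0 1 := by
  ext a b
  rw [Matrix.vecMulVec_apply, Matrix.single_apply, Pi.single_apply, Pi.single_apply]
  by_cases ha : a = 0 <;> by_cases hb : b = 0 <;> simp [ha, hb, eq_comm]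

theorem πE' (i : Fin D.n) : D.π (D.E i) = Pi.single i (haveI := D.hd i; Matrix.single 0 0 1) := by
  haveI := D.hd i
  rw [D.πE, vec_eq]

theorem pi_corner (i : Fin D.n) (x : (D.idem i).Corner) :
    D.π x.1 = Pi.single i (haveI := D.hd i; Matrix.single 0 0 (D.π x.1 i 0 0)) := by
    haveI := D.hd i
    have h1 : D.E i * x.1 * D.E i = x.1 := by rw [c_left, c_right]
    conv_lhs => rw [← h1, map_mul, map_mul, πE']
    funext j
    by_cases hj : j = i
    · subst hj
      simp only [Pi.mul_apply, Pi.single_eq_same]
      rw [Matrix.single_mul_mul_single, one_mul, mul_one]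
    · simp [Pi.single_eq_of_ne hj]

/-- the corner at a primitive idempotent of a symmetric algebra is local symmetric -/
noncomputable def locSym (i : Fin D.n) (lam : Λ →ₗ[k] k) (hs : ∀ a b, lam (a * b) = lam (b * a))
    (hn : ∀ a, (∀ b, lam (a * b) = 0) → a = 0) : LocSym k (D.idem i).Corner :=
  haveI := D.hd i
  have hπ := pi_corner D i
  { ε :=
      { toFun := fun x => D.π x.1 i 0 0
        map_one' := by
          rw [coe_one, πE', Pi.single_eq_same, Matrix.single_apply_same]
        map_mul' := by
          intro x y
          rw [coe_mul, map_mul, Pi.mul_apply]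
          conv_lhs => rw [hπ x, hπ y, Pi.single_eq_same, Pi.single_eq_same]
          rw [Matrix.single_mul_single_same, Matrix.single_apply_same]
        map_zero' := by
          rw [coe_zero, map_zero]
          rfl
        map_add' := by
          intro x y
          rw [coe_add, map_add]
          rfl
        commutes' := by
          intro c
          rw [Algebra.algebraMap_eq_smul_one, coe_smul, coe_one, map_smul, πE', Pi.smul_apply,
            Pi.single_eq_same, Matrix.smul_apply, Matrix.single_apply_same, smul_eq_mul, mul_one]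
          rfl }
    nil := by
      intro x hx
      have hx' : D.π x.1 i 0 0 = 0 := hx
      have h1 : D.π x.1 = 0 := by
        rw [hπ, hx', Matrix.single_zero, Pi.single_zero]
      obtain ⟨n, hn⟩ := D.nil x.1 h1
      refine ⟨n + 1, Subtype.ext ?_⟩
      rw [coe_pow, pow_succ, hn, zero_mul, coe_zero]
    lam :=
      { toFun := fun x => lam x.1
        map_add' := fun x y => by rw [coe_add, map_add]
        map_smul' := fun c x => by rw [coe_smul, map_smul, RingHom.id_apply] }
    symm := fun a b => hs a.1 b.1
    nondeg := by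
      intro a ha
      apply Subtype.ext
      rw [coe_zero]
      apply hn
      intro y
      have h1 := ha (mk _ y)
      change lam (a.1 * (D.E i * y * D.E i)) = 0 at h1
      rw [← mul_assoc, ← mul_assoc, c_right, hs, ← mul_assoc, c_left] at h1
      exact h1 }

theorem locSym_ε (i : Fin D.n) (lam : Λ →ₗ[k] k) (hs : ∀ a b, lam (a * b) = lam (b * a))
    (hn : ∀ a, (∀ b, lam (a * b) = 0) → a = 0) (x : (D.idem i).Corner) :
    (locSym D i lam hs hn).ε x = 0 ↔ D.π x.1 = 0 := by
  haveI := D.hd i
  constructor
  · intro h
    have h1 : D.π x.1 i 0 0 = 0 := h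
    rw [pi_corner D i x, h1, Matrix.single_zero, Pi.single_zero]
  · intro h
    show D.π x.1 i 0 0 = 0
    rw [h]
    rfl

end dat

end H20.Cor
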