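import Mathlib
import Cfsg.Agent.Lib.H20.Cor1

/-!
# Blocks with one simple module: the center and the corner algebra
-/

set_option autoImplicit false
set_option linter.unusedSectionVars false
set_option linter.unusedVariables false
set_option linter.style.haveILetI false

open Module

namespace H20.Cor

open H20.BrT H20.LSA

section ti

variable {Λ : Type*} [Ring Λ] {E : Λ}

/-- elements of the two-sided ideal generated by `E` -/
def IsTI (E t : Λ) : Prop := ∃ (ι : Type) (_ : Fintype ι) (x y : ι → Λ), t = ∑ j, x j * E * y j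

theorem IsTI.add {s t : Λ} (hs : IsTI E s) (ht : IsTI E t) : IsTI E (s + t) := by
  obtain ⟨ι, _, x, y, rfl⟩ := hs
  obtain ⟨κ, _, x', y', rfl⟩ := ht
  refine ⟨ι ⊕ κ, inferInstance, Sum.elim x x', Sum.elim y y', ?_⟩
  rw [Fintype.sum_sum_type]
  rfl

theorem IsTI.mul_left {t : Λ} (ht : IsTI E t) (a : Λ) : IsTI E (a * t) := by
  obtain ⟨κ, _, x', y', rfl⟩ := ht
  refine ⟨κ, inferInstance, fun j => a * x' j, y', ?_⟩
  rw [Finset.mul_sum]
  exact Finset.sum_congr rfl fun j _ => by simp only [mul_assoc]

theorem IsTI.mul_right {t : Λ} (ht : IsTI E t) (a : Λ) : IsTI E (t * a) := by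
  obtain ⟨κ, _, x', y', rfl⟩ := ht
  refine ⟨κ, inferInstance, x', fun j => y' j * a, ?_⟩
  rw [Finset.sum_mul]
  exact Finset.sum_congr rfl fun j _ => by simp only [mul_assoc]

theorem IsTI.neg {t : Λ} (ht : IsTI E t) : IsTI E (-t) := by
  have := ht.mul_left (-1)
  rwa [neg_one_mul] at this

theorem IsTI.zero : IsTI E (0 : Λ) := ⟨Empty, inferInstance, fun _ => 0, fun _ => 0, by simp⟩

theorem IsTI.sub {s t : Λ} (hs : IsTI E s) (ht : IsTI E t) : IsTI E (s - t) := by
  rw [sub_eq_add_neg]
  exact hs.add ht.neg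

theorem IsTI.sum {ι : Type*} (s : Finset ι) {f : ι → Λ} (h : ∀ j ∈ s, IsTI E (f j)) : IsTI E (∑ j ∈ s, f j) := by
  classical
  induction s using Finset.induction_on with
  | empty => rw [Finset.sum_empty]; exact IsTI.zero
  | insert a s ha ih =>
    rw [Finset.sum_insert ha]
    exact (h a (Finset.mem_insert_self a s)).add (ih fun j hj => h j (Finset.mem_insert_of_mem hj))

end ti

variable {k Λ : Type*} [Field k] [Ring Λ] [Algebra k Λ] (D : Dat k Λ) {i : Fin D.n} {f : Λ}

/-- the central idempotent lies in the ideal generated by the primitive idempotent -/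
theorem full (hf : IsIdempotentElem f) (hfc : ∀ a, f * a = a * f) (hπ : D.π f = Pi.single i 1) :
    IsTI (D.E i) f := by
  classical
  haveI := D.hd i
  -- an element of the ideal with the right image
  obtain ⟨t, ht, hπt⟩ : ∃ t, IsTI (D.E i) t ∧ D.π t = Pi.single i 1 := by
    have h1 : ∀ j : Fin (D.d i), ∃ x, D.π x = Pi.single i (Matrix.single j 0 1) := fun j => D.surj _
    have h2 : ∀ j : Fin (D.d i), ∃ y, D.π y = Pi.single i (Matrix.single 0 j 1) := fun j => D.surj _
    choose x hx using h1
    choose y hy using h2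
    refine ⟨∑ j, x j * D.E i * y j, ?_, ?_⟩
    · apply IsTI.sum
      intro j _
      exact ⟨Unit, inferInstance, fun _ => x j, fun _ => y j, by simp⟩
    · rw [map_sum]
      have h3 : ∀ j, D.π (x j * D.E i * y j) = Pi.single i (Matrix.single j j 1) := by
        intro j
        rw [map_mul, map_mul, hx, hy, πE', ← Pi.single_mul, ← Pi.single_mul, Matrix.single_mul_single_same,
          Matrix.single_mul_single_same, one_mul, one_mul]
      rw [Finset.sum_congr rfl fun j _ => h3 j]
      funext l
      rw [Finset.sum_apply]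
      by_cases hl : l = i
      · subst hl
        simp only [Pi.single_eq_same]
        exact (Matrix.sum_single_one)
      · simp only [Pi.single_eq_of_ne hl, Finset.sum_const_zero]
  have ht' : IsTI (D.E i) (f * t) := ht.mul_left f
  set n := f - f * t with hn
  have hπn : D.π n = 0 := by
    rw [hn, map_sub, map_mul, hπ, hπt, ← Pi.single_mul, mul_one, sub_self]
  have hfn : n * f = n := by
    rw [hn, sub_mul, hf.eq, mul_assoc, ← hfc t, ← mul_assoc, hf.eq]
  have hk : ∀ m : ℕ, IsTI (D.E i) (n ^ (m + 1) - f) := by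
    intro m
    induction m with
    | zero =>
      rw [zero_add, pow_one, hn, sub_sub_cancel_left]
      exact ht'.neg
    | succ m ih =>
      have e1 : n ^ (m + 1 + 1) - f = n * (n ^ (m + 1) - f) + (n - f) := by
        rw [mul_sub, hfn, ← pow_succ']
        abel
      rw [e1]
      refine (ih.mul_left n).add ?_
      rw [hn, sub_sub_cancel_left]
      exact ht'.neg
  obtain ⟨N, hN⟩ := D.nil n hπn
  have h5 := hk N
  rw [pow_succ, hN, zero_mul, zero_sub] at h5
  have h6 := h5.neg
  rwa [neg_neg] at h6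

theorem f_mul_E (hf : IsIdempotentElem f) (hfc : ∀ a, f * a = a * f) (hπ : D.π f = Pi.single i 1) :
    f * D.E i = D.E i := by
  classical
  haveI := D.hd i
  have h1 : IsIdempotentElem ((1 - f) * D.E i) := by
    have h2 : IsIdempotentElem (1 - f) := hf.one_sub
    exact h2.mul_of_commute (by
      show (1 - f) * D.E i = D.E i * (1 - f)
      rw [sub_mul, mul_sub, one_mul, mul_one, hfc]) (D.idem i)
  have h3 : D.π ((1 - f) * D.E i) = 0 := by
    rw [sub_mul, one_mul, map_sub, map_mul, hπ, πE', ← Pi.single_mul, one_mul, sub_self]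
  have h4 := H84.TrFun.idem_nilp h1 (D.nil _ h3)
  rw [sub_mul, one_mul, sub_eq_zero] at h4
  exact h4.symm

theorem center_inj (hfull : IsTI (D.E i) f) {z : Λ} (hz : ∀ a, z * a = a * z) (hfz : f * z = z)
    (h0 : z * D.E i = 0) : z = 0 := by
  obtain ⟨ι, _, x, y, hxy⟩ := hfull
  rw [← hfz, ← hz, hxy, Finset.mul_sum]
  apply Finset.sum_eq_zero
  intro j _
  rw [← mul_assoc, ← mul_assoc, hz, mul_assoc (x j), h0, mul_zero, zero_mul]

theorem center_surj (hf : IsIdempotentElem f) (hfc : ∀ a, f * a = a * f) (hπ : D.π f = Pi.single i 1)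
    (z' : (D.idem i).Corner) (hz' : ∀ c, z' * c = c * z') :
    ∃ z : Λ, (∀ a, z * a = a * z) ∧ f * z = z ∧ z * D.E i = z'.1 := by
  classical
  have hE := f_mul_E D hf hfc hπ
  obtain ⟨ι, _, x, y, hxy⟩ := full D hf hfc hπ
  set E := D.E i with hEdef
  have hzl : E * z'.1 = z'.1 := c_left _ z'
  have hzr : z'.1 * E = z'.1 := c_right _ z'
  have hcomm : ∀ w : Λ, z'.1 * (E * w * E) = (E * w * E) * z'.1 := by
    intro w
    exact congrArg Subtype.val (hz' (mk _ w))
  have hzf : f * z'.1 = z'.1 := by rw [← hzl, ← mul_assoc, hE]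
  set z := ∑ j, x j * z'.1 * y j with hz
  have hfz : f * z = z := by
    rw [hz, Finset.mul_sum]
    refine Finset.sum_congr rfl fun j _ => ?_
    rw [← mul_assoc, ← mul_assoc, hfc, mul_assoc (x j), hzf]
  have hzf' : z * f = z := by rw [← hfc, hfz]
  -- key computation
  have key : ∀ w : Λ, z * w * f = f * w * z := by
    intro w
    have h1 : z * w * f = ∑ j, ∑ l, x j * (z'.1 * (E * (y j * w * x l) * E)) * y l := by
      conv_lhs => rw [hxy, hz]
      rw [Finset.sum_mul, Finset.sum_mul]
      refine Finset.sum_congr rfl fun j _ => ?_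
      rw [Finset.mul_sum]
      refine Finset.sum_congr rfl fun l _ => ?_
      calc x j * z'.1 * y j * w * (x l * E * y l) = x j * (z'.1 * E) * y j * w * (x l * E * y l) := by rw [hzr]
        _ = _ := by simp only [mul_assoc]
    have h2 : f * w * z = ∑ l, ∑ j, x j * ((E * (y j * w * x l) * E) * z'.1) * y l := by
      conv_lhs => rw [hxy, hz]
      rw [Finset.mul_sum]
      refine Finset.sum_congr rfl fun l _ => ?_
      rw [Finset.sum_mul, Finset.sum_mul]
      refine Finset.sum_congr rfl fun j _ => ?_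
      conv_rhs => rw [mul_assoc (E * _) E z'.1, hzl]
      simp only [mul_assoc]
    rw [h1, h2, Finset.sum_comm]
    refine Finset.sum_congr rfl fun l _ => Finset.sum_congr rfl fun j _ => ?_
    rw [hcomm]
  refine ⟨z, ?_, hfz, ?_⟩
  · intro w
    have h1 := key w
    rw [mul_assoc, ← hfc, ← mul_assoc, hzf'] at h1
    rw [h1, hfc, mul_assoc, hfz]
  · have h1 : ∀ j, x j * z'.1 * y j * E = x j * E * y j * z'.1 := by
      intro j
      have h2 := hcomm (y j)
      calc x j * z'.1 * y j * E = x j * (z'.1 * E) * y j * E := by rw [hzr]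
        _ = x j * (z'.1 * (E * y j * E)) := by
            rw [← mul_assoc z'.1 (E * y j), ← mul_assoc z'.1 E, hzr]; simp only [mul_assoc]
        _ = x j * ((E * y j * E) * z'.1) := by rw [h2]
        _ = x j * E * y j * (E * z'.1) := by simp only [mul_assoc]
        _ = _ := by rw [hzl]
    rw [hz, Finset.sum_mul, Finset.sum_congr rfl fun j _ => h1 j, ← Finset.sum_mul, ← hxy, hzf]

/-- the annihilator of a nonzero central element lies in the radical -/
theorem ann_rad (hfull : IsTI (D.E i) f) (S : LocSym k (D.idem i).Corner) (hε : ∀ x, S.ε x = 0 ↔ D.π x.1 = 0)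
    {z x : Λ} (hz : ∀ a, z * a = a * z) (hfz : f * z = z) (h0 : z ≠ 0) (hxz : x * z = 0) : D.π x i = 0 := by
  classical
  haveI := D.hd i
  have h1 : ∀ a b : Λ, S.ε (mk (D.idem i) (a * x * b)) = 0 := by
    intro a b
    by_contra hne
    apply h0
    apply center_inj D hfull hz hfz
    set c := mk (D.idem i) (a * x * b) with hc
    have hu : IsUnit c := by
      have h2 : IsNilpotent (c - algebraMap k _ (S.ε c)) := S.nil _ (by
        rw [map_sub, AlgHom.commutes]; exact sub_self _)
      have h3 : IsUnit (algebraMap k (D.idem i).Corner (S.ε c)) := (IsUnit.mk0 _ hne).map _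
      have h4 : c = algebraMap k _ (S.ε c) + (c - algebraMap k _ (S.ε c)) := by abel
      rw [h4]
      exact (IsNilpotent.isUnit_add_left_of_commute h2 h3 (Algebra.commutes _ _).symm)
    obtain ⟨u, hu⟩ := hu
    have h5 : (mk (D.idem i) z : (D.idem i).Corner) * c = 0 := by
      apply Subtype.ext
      rw [coe_mul, coe_zero, coe_mk, hc, coe_mk]
      calc D.E i * z * D.E i * (D.E i * (a * x * b) * D.E i) =
          D.E i * (z * (D.E i * D.E i * a)) * (x * b * D.E i) := by simp only [mul_assoc]
        _ = D.E i * ((D.E i * D.E i * a) * z) * (x * b * D.E i) := by rw [hz]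
        _ = D.E i * (D.E i * D.E i * a) * (z * x) * (b * D.E i) := by simp only [mul_assoc]
        _ = 0 := by rw [hz, hxz, mul_zero, zero_mul]
    have h6 : (mk (D.idem i) z : (D.idem i).Corner) = 0 := by
      have h7 : (mk (D.idem i) z : (D.idem i).Corner) * c * (↑u⁻¹ : (D.idem i).Corner) = 0 := by rw [h5, zero_mul]
      rwa [mul_assoc, ← hu, Units.mul_inv, mul_one] at h7
    have h8 := congrArg Subtype.val h6
    rw [coe_mk, coe_zero, ← hz, mul_assoc, (D.idem i).eq] at h8
    exact h8
  ext p q
  obtain ⟨a, ha⟩ := D.surj (Pi.single i (Matrix.single 0 p 1))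
  obtain ⟨b, hb⟩ := D.surj (Pi.single i (Matrix.single q 0 1))
  have h2 := (hε _).1 (h1 a b)
  rw [coe_mk, map_mul, map_mul, map_mul, map_mul, ha, hb, πE'] at h2
  have h3 := congrFun (congrFun (congrFun h2 i) 0) 0
  simp only [Pi.mul_apply, Pi.single_eq_same, Pi.zero_apply, Matrix.zero_apply] at h3
  rw [Matrix.single_mul_mul_single, Matrix.single_apply_same, one_mul, mul_one,
    Matrix.single_mul_mul_single, Matrix.single_apply_same, one_mul, mul_one] at h3
  exact h3

end H20.Cor
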