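import Mathlib
import Cfsg.Agent.Lib.H20.Cor2

/-!
# Blocks with one simple module: the socle of the center
-/

set_option autoImplicit false
set_option linter.unusedSectionVars false
set_option linter.unusedVariables false
set_option linter.style.haveILetI false

open Module
open Cfsg H20.Loc H20.GA H20.Blk H20.Orth H20.Defect H80.GA H80.GB H80.BR1 H84.RG H84.Star H18.CharBasic H18.CharOrtho
open scoped ComplexConjugate

universe u

namespace H20.Cor

open H20.BrT H20.LSA

variable {M : Ideal AlgInt} [M.IsMaximal] {G : Type u} [Group G] [Finite G] {p : ℕ}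
variable (D : Dat (ResF M) (KG M G))

section lam

variable (M G) in
/-- the symmetrizing form of the group algebra -/
noncomputable def lam1 : KG M G →ₗ[ResF M] ResF M where
  toFun a := a.coeff 1
  map_add' _ _ := rfl
  map_smul' _ _ := rfl

theorem lam1_apply (a : KG M G) : lam1 M G a = a.coeff 1 := rfl

theorem lam1_mul [Fintype G] (a b : KG M G) : lam1 M G (a * b) = ∑ g : G, a.coeff g * b.coeff g⁻¹ := by
  rw [lam1_apply, H80.GA.coeff_mul']
  exact Finset.sum_congr rfl fun g _ => by rw [mul_one]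

theorem lam1_symm (a b : KG M G) : lam1 M G (a * b) = lam1 M G (b * a) := by
  letI := Fintype.ofFinite G
  rw [lam1_mul, lam1_mul]
  refine Fintype.sum_equiv (Equiv.inv G) _ _ fun g => ?_
  rw [Equiv.inv_apply, inv_inv, mul_comm]

theorem lam1_nondeg (a : KG M G) (h : ∀ b, lam1 M G (a * b) = 0) : a = 0 := by
  classical
  letI := Fintype.ofFinite G
  apply H80.GA.ext'
  intro x
  have h1 := h (MonoidAlgebra.single x⁻¹ 1)
  rw [lam1_mul, Finset.sum_eq_single x] at h1
  · rw [MonoidAlgebra.coeff_single, Finsupp.single_eq_same, mul_one] at h1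
    exact h1
  · intro g _ hg
    rw [MonoidAlgebra.coeff_single, Finsupp.single_eq_of_ne (fun h2 => hg (inv_injective h2)), mul_zero]
  · intro h2
    exact absurd (Finset.mem_univ _) h2

/-- the bilinear form -/
noncomputable def form1 (M : Ideal AlgInt) [M.IsMaximal] (G : Type u) [Group G] [Finite G] :
    LinearMap.BilinForm (ResF M) (KG M G) := (LinearMap.mul (ResF M) (KG M G)).compr₂ (lam1 M G)

theorem form1_apply (a b : KG M G) : form1 M G a b = lam1 M G (a * b) := rfl

theorem form1_nondeg : (form1 M G).Nondegenerate := by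
  constructor
  · intro a h
    exact lam1_nondeg a h
  · intro a h
    exact lam1_nondeg a fun b => by rw [lam1_symm]; exact h b

theorem form1_refl : (form1 M G).IsRefl := by
  intro a b h
  rw [form1_apply, lam1_symm]
  exact h

/-- double annihilators -/
theorem mem_right_ideal {z r : KG M G} (hz : ∀ a, z * a = a * z)
    (h : ∀ x, x * z = 0 → lam1 M G (x * r) = 0) : ∃ b, r = z * b := by
  haveI : FiniteDimensional (ResF M) (KG M G) := inferInstance
  have h1 := LinearMap.BilinForm.orthogonal_orthogonal (B := form1 M G) form1_nondeg form1_refl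
    (LinearMap.range (LinearMap.mulLeft (ResF M) z))
  have h2 : r ∈ (form1 M G).orthogonal ((form1 M G).orthogonal (LinearMap.range (LinearMap.mulLeft (ResF M) z))) := by
    rw [LinearMap.BilinForm.mem_orthogonal_iff]
    intro x hx
    rw [LinearMap.BilinForm.mem_orthogonal_iff] at hx
    apply h
    apply lam1_nondeg
    intro y
    have h3 := hx (z * y) ⟨y, rfl⟩
    change lam1 M G (z * y * x) = 0 at h3
    rw [lam1_symm, ← mul_assoc] at h3
    exact h3
  rw [h1] at h2
  obtain ⟨b, hb⟩ := h2
  exact ⟨b, hb.symm⟩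

end lam

section rr

/-- the element of the socle of the center -/
noncomputable def rr (i : Fin D.n) : KG M G :=
  MonoidAlgebra.ofCoeff (Finsupp.equivFunOnFinite.symm fun g => tt D i g⁻¹)

theorem coeff_rr (i : Fin D.n) (g : G) : (rr D i).coeff g = tt D i g⁻¹ := rfl

theorem lam_rr (i : Fin D.n) (a : KG M G) : lam1 M G (a * rr D i) = trL D i a := by
  letI := Fintype.ofFinite G
  rw [lam1_mul, trL_eq_sum]
  exact Finset.sum_congr rfl fun g _ => by rw [coeff_rr, inv_inv]

theorem rr_mem (i : Fin D.n) : rr D i ∈ Z (ResF M) (⊤ : Subgroup G) := by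
  refine ⟨mem_Fx'.2 ?_, Sp_top _⟩
  intro h _ x
  rw [coeff_rr, coeff_rr, ← tt_class D i x⁻¹ h]
  congr 1
  group

theorem rr_mul_eq_zero {i : Fin D.n} {x : KG M G} (hx : D.π x i = 0) : x * rr D i = 0 := by
  apply lam1_nondeg
  intro y
  rw [lam1_symm, ← mul_assoc, lam_rr, trL_apply, D.pi_mul, hx, mul_zero, Matrix.trace_zero]

end rr

section block

variable {B : Set (IrrCharacter G)} (hB : IsPBlock M B) {i : Fin D.n}
include hB

theorem pi_ebar_single (hi : InB D B i) (hu : ∀ j, InB D B j → j = i) : D.π (ebar M B) = Pi.single i 1 := by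
  funext j
  by_cases hj : j = i
  · subst hj
    rw [Pi.single_eq_same]
    exact InB.eq_one hB hi
  · rw [Pi.single_eq_of_ne hj]
    by_contra h
    exact hj (hu j h)

theorem ebar_rr (hi : InB D B i) : ebar M B * rr D i = rr D i := by
  have h1 : (1 - ebar M B) * rr D i = 0 := by
    apply rr_mul_eq_zero
    rw [map_sub, map_one, Pi.sub_apply, Pi.one_apply, InB.eq_one hB hi, sub_self]
  rw [sub_mul, one_mul, sub_eq_zero] at h1
  exact h1.symm

omit hB in
theorem comm_of_Z {z : KG M G} (hz : z ∈ Z (ResF M) (⊤ : Subgroup G)) (a : KG M G) : z * a = a * z :=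
  comm_of_mem hz.1 (Sp_top a)

omit hB in
theorem mem_Z_of_comm {z : KG M G} (hz : ∀ a : KG M G, z * a = a * z) : z ∈ Z (ResF M) (⊤ : Subgroup G) := by
  refine ⟨mem_Fx'.2 ?_, Sp_top _⟩
  intro h _ x
  have h1 := congrArg (fun c : KG M G => c.coeff (x * h⁻¹)) (hz (MonoidAlgebra.single h⁻¹ 1))
  simp only [MonoidAlgebra.coeff_mul_single_apply, MonoidAlgebra.coeff_single_mul_apply, inv_inv, mul_one,
    one_mul] at h1
  rw [inv_mul_cancel_right] at h1
  rw [h1, mul_assoc]

/-- every nonzero central element of the block divides the socle element -/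
theorem rr_dvd (hi : InB D B i) (hu : ∀ j, InB D B j → j = i)
    (hsurj : ∀ c : (D.idem i).Corner, ∃ z ∈ ZS (ebar M B), z * D.E i = c.1)
    {z : KG M G} (hz : z ∈ ZS (ebar M B)) (h0 : z ≠ 0) : ∃ z' ∈ ZS (ebar M B), rr D i = z * z' := by
  have hπ := pi_ebar_single D hB hi hu
  have hid := ebar_isIdem hB
  have hc := ebar_comm hB
  have hfull := full D hid hc hπ
  rw [mem_ZS] at hz
  have hzc := comm_of_Z hz.1
  let S := locSym D i (lam1 M G) lam1_symm lam1_nondeg
  have hε : ∀ x : (D.idem i).Corner, S.ε x = 0 ↔ D.π x.1 = 0 := locSym_ε D i _ _ _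
  obtain ⟨b, hb⟩ : ∃ b, rr D i = z * b := by
    apply mem_right_ideal hzc
    intro x hx
    rw [lam_rr, trL_apply, ann_rad D hfull S hε hzc hz.2 h0 hx, Matrix.trace_zero]
  obtain ⟨t, ht, htE⟩ := hsurj (mk (D.idem i) b)
  refine ⟨t, ht, ?_⟩
  rw [mem_ZS] at ht
  have htc := comm_of_Z ht.1
  rw [← sub_eq_zero]
  have hrc := comm_of_Z (rr_mem D i)
  apply center_inj D hfull (z := rr D i - z * t)
  · intro a
    rw [sub_mul, mul_sub, hrc, mul_assoc z t a, htc, ← mul_assoc, hzc, mul_assoc]
  · rw [mul_sub, ebar_rr D hB hi, ← mul_assoc, hz.2]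
  · have e1 : rr D i * D.E i = D.E i * rr D i * D.E i := by
      rw [← hrc, mul_assoc, (D.idem i).eq]
    rw [sub_mul, mul_assoc z t, htE, coe_mk, e1, hb, sub_eq_zero]
    rw [← mul_assoc (D.E i) z b, ← hzc (D.E i)]
    simp only [mul_assoc]

end block

end H20.Cor
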