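import Mathlib
import Cfsg.Agent.Lib.H20.Cor3
import Cfsg.Agent.Lib.H77.RegGen

/-!
# Blocks with one simple module: dimensions
-/

set_option autoImplicit false
set_option linter.unusedSectionVars false
set_option linter.unusedVariables false
set_option linter.style.haveILetI false

open Module
open Cfsg H20.Loc H20.GA H20.Blk H20.Orth H20.Defect H80.GA H80.GB H80.BR1 H84.RG H84.Star H18.CharBasic H18.CharOrtho
open scoped ComplexConjugate

universe u

namespace H20.Cor

open H20.BrT H20.LSA

variable {M : Ideal AlgInt} [M.IsMaximal] {G : Type u} [Group G] [Finite G] {p : ℕ}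
variable (D : Dat (ResF M) (KG M G))

section center

variable {B : Set (IrrCharacter G)} (hB : IsPBlock M B) {i : Fin D.n}
include hB

/-- the dimension of the center of the corner algebra is the number of characters -/
theorem finrank_center (hi : InB D B i) (hu : ∀ j, InB D B j → j = i) :
    finrank (ResF M) (Subalgebra.center (ResF M) (D.idem i).Corner) = Nat.card B := by
  have hπ := pi_ebar_single D hB hi hu
  have hid := ebar_isIdem hB
  have hc := ebar_comm hB
  have hfull := full D hid hc hπ
  have hcor : ∀ z : ZS (ebar M B), z.1 * D.E i ∈ Subsemigroup.corner (D.E i) := by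
    intro z
    refine ⟨z.1, ?_⟩
    show D.E i * z.1 * D.E i = z.1 * D.E i
    rw [← comm_of_Z (mem_ZS.1 z.2).1 (D.E i), mul_assoc, (D.idem i).eq]
  let T : ZS (ebar M B) →ₗ[ResF M] (D.idem i).Corner :=
    { toFun := fun z => ⟨z.1 * D.E i, hcor z⟩
      map_add' := fun x y => Subtype.ext (add_mul _ _ _)
      map_smul' := fun c x => Subtype.ext (smul_mul_assoc _ _ _) }
  have hinj : Function.Injective T := by
    rw [← LinearMap.ker_eq_bot, LinearMap.ker_eq_bot']
    intro z hz
    apply Subtype.ext
    have hz1 := mem_ZS.1 z.2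
    exact center_inj D hfull (comm_of_Z hz1.1) hz1.2 (congrArg Subtype.val hz)
  have hrange : LinearMap.range T = Subalgebra.toSubmodule (Subalgebra.center (ResF M) (D.idem i).Corner) := by
    ext c
    rw [Subalgebra.mem_toSubmodule, Subalgebra.mem_center_iff]
    constructor
    · rintro ⟨z, rfl⟩ b
      apply Subtype.ext
      have hz := comm_of_Z (mem_ZS.1 z.2).1
      rw [coe_mul, coe_mul]
      show b.1 * (z.1 * D.E i) = z.1 * D.E i * b.1
      rw [← mul_assoc, ← hz, mul_assoc, mul_assoc, c_left, c_right]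
    · intro h
      obtain ⟨z, hz1, hz2, hz3⟩ := center_surj D hid hc hπ c fun b => (h b).symm
      exact ⟨⟨z, mem_ZS.2 ⟨mem_Z_of_comm hz1, hz2⟩⟩, Subtype.ext hz3⟩
  have h1 := LinearMap.finrank_range_of_inj hinj
  rw [hrange, finrank_ZS hB] at h1
  exact h1

/-- if the corner has the dimension of its center then central elements of the block cover it -/
theorem surj_of_finrank (hi : InB D B i) (hu : ∀ j, InB D B j → j = i)
    (hd : finrank (ResF M) (D.idem i).Corner = Nat.card B) (c : (D.idem i).Corner) :
    ∃ z ∈ ZS (ebar M B), z * D.E i = c.1 := by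
  have h1 := finrank_center D hB hi hu
  have h2 : Subalgebra.toSubmodule (Subalgebra.center (ResF M) (D.idem i).Corner) = ⊤ := by
    apply Submodule.eq_top_of_finrank_eq
    exact h1.trans hd.symm
  have h3 : ∀ b : (D.idem i).Corner, c * b = b * c := by
    intro b
    have h4 : c ∈ Subalgebra.toSubmodule (Subalgebra.center (ResF M) (D.idem i).Corner) := by
      rw [h2]; trivial
    rw [Subalgebra.mem_toSubmodule, Subalgebra.mem_center_iff] at h4
    exact (h4 b).symm
  obtain ⟨z, hz1, hz2, hz3⟩ := center_surj D (ebar_isIdem hB) (ebar_comm hB) (pi_ebar_single D hB hi hu) c h3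
  exact ⟨z, mem_ZS.2 ⟨mem_Z_of_comm hz1, hz2⟩, hz3⟩

end center

section one

variable (hM : IsPModular p M) {B : Set (IrrCharacter G)} (hB : IsPBlock M B) {i : Fin D.n}
include hM hB

theorem exists_unique_of_rank_one (hl : blockRank p B = 1) : ∃ i, InB D B i ∧ ∀ j, InB D B j → j = i := by
  classical
  rw [blockRank_eq D hM hB, Fintype.card_eq_one_iff] at hl
  obtain ⟨⟨i, hi⟩, h⟩ := hl
  exact ⟨i, hi, fun j hj => congrArg Subtype.val (h ⟨j, hj⟩)⟩

/-- degrees in a block with one Brauer character -/
theorem deg_one (hu : ∀ j, InB D B j → j = i) {χ : IrrCharacter G} (hχ : χ ∈ B) :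
    charDegree (χ : G → ℂ) = dec D hM χ i * D.d i := by
  classical
  rw [deg_eq D hM χ, Finset.sum_eq_single i]
  · intro j _ hj
    rw [dec_of_not D hM hB hχ (fun h => hj (hu j h)), zero_mul]
  · intro h
    exact absurd (Finset.mem_univ _) h

theorem reg_eq_one (hu : ∀ j, InB D B j → j = i) {χ : IrrCharacter G} (hχ : χ ∈ B) {g : G} (hg : IsPRegular p g) :
    (χ : G → ℂ) g = dec D hM χ i * th D hM i g := by
  classical
  rw [irr_reg D hM χ hg, Finset.sum_eq_single i]
  · intro j _ hj
    rw [dec_of_not D hM hB hχ (fun h => hj (hu j h)), Nat.cast_zero, zero_mul]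
  · intro h
    exact absurd (Finset.mem_univ _) h

/-- the sum of the squares of the decomposition numbers is the order of the defect group -/
theorem sum_dec_sq [Fintype (IrrCharacter G)] (hi : InB D B i) (hu : ∀ j, InB D B j → j = i) :
    ∑ χ : IrrCharacter G, dec D hM χ i ^ 2 = p ^ blockDefect p B := by
  classical
  letI := Fintype.ofFinite G
  haveI : M.IsPrime := pm_isPrime hM
  set c := ∑ χ : IrrCharacter G, dec D hM χ i ^ 2 with hc
  -- the part outside the block vanishes
  have hout : ∀ χ, χ ∉ B → dec D hM χ i = 0 := fun χ hχ => dec_of_notMem D hM hB hχ hi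
  obtain ⟨n, hn0, hn⟩ := exists_int_block D hM hB hi
  obtain ⟨hn1, hn2⟩ := hn inferInstance
  have hn3 := hn2 i
  rw [if_pos rfl] at hn3
  -- `d` is the gcd
  have hg1 : ∀ χ ∈ B, D.d i ∣ charDegree (χ : G → ℂ) := fun χ hχ => by
    rw [deg_one D hM hB hu hχ]; exact dvd_mul_left _ _
  have hg2 : ∀ g' : ℕ, (∀ χ ∈ B, g' ∣ charDegree (χ : G → ℂ)) → g' ∣ D.d i := fun g' h => dvd_d D hM hB h hi
  set a := (Nat.card G).factorization p with ha
  set d := blockDefect p B with hd
  have hda : d ≤ a := by
    obtain ⟨P, hP⟩ := H20.DefGrp.exists_isDefectGroup hM hB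
    have h1 := card_defectGroup hM hB hP
    have h2 : p ^ d ∣ Nat.card G := by rw [← h1]; exact Subgroup.card_subgroup_dvd_card P
    exact (hM.1.pow_dvd_iff_le_factorization Nat.card_pos.ne').1 h2
  obtain ⟨hgf, v, hv0, hvp, hvl, hsum⟩ := sumsq hM hB ha.symm hd.symm hda hg1 hg2
  have hd0 : D.d i ≠ 0 := (d_pos D i).ne'
  set u := D.d i / p ^ (a - d) with hu'
  have hgu : p ^ (a - d) * u = D.d i := by rw [hu', ← hgf]; exact Nat.ordProj_mul_ordCompl_eq_self _ p
  have hu0 : u ≠ 0 := by
    intro h
    rw [h, mul_zero] at hgu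
    exact hd0 hgu.symm
  have hcv : c = p ^ d * v := by
    have h1 : ∑ᶠ χ ∈ B, charDegree (χ : G → ℂ) ^ 2 = D.d i ^ 2 * c := by
      rw [finsum_mem_eq_finite_toFinset_sum _ (Set.toFinite B), hc, Finset.mul_sum,
        ← Finset.sum_subset (Finset.subset_univ (Set.toFinite B).toFinset)]
      · refine Finset.sum_congr rfl fun χ hχ => ?_
        rw [deg_one D hM hB hu ((Set.Finite.mem_toFinset _).1 hχ)]
        ring
      · intro χ _ hχ
        rw [hout χ (fun h => hχ ((Set.Finite.mem_toFinset _).2 h))]
        ring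
    rw [h1] at hsum
    have h2 : p ^ (2 * a - d) = p ^ (a - d) * p ^ (a - d) * p ^ d := by
      rw [← pow_add, ← pow_add]
      congr 1
      omega
    rw [h2] at hsum
    have h3 : D.d i ^ 2 * c = D.d i ^ 2 * (p ^ d * v) := by
      rw [hsum, ← hgu]
      ring
    exact Nat.eq_of_mul_eq_mul_left (pow_pos (Nat.pos_of_ne_zero hd0) 2) h3
  have hc0 : c ≠ 0 := by
    rw [hcv]
    exact Nat.mul_ne_zero (pow_pos hM.1.pos _).ne' hv0.ne'
  -- `c` divides `p ^ a`
  have hcdvd : (c : ℤ) ∣ (p : ℤ) ^ a := by
    -- the character `Φ`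
    have hΘ := isGen_th D hM i
    have hβ := isGen_mul hΘ (H77.RegGen.isGen_reg_one (G := G) hM.1)
    have hint : ∀ χ : IrrCharacter G, ∃ m : ℤ, (p : ℂ) ^ a * dec D hM χ i = c * m := by
      intro χ
      obtain ⟨m, hm⟩ := inner_gen_intCast hβ (isGen_of_isIrr χ.2)
      refine ⟨m, ?_⟩
      rw [← hm]
      -- `c * β = p ^ a * Φ`
      have e1 : (c : ℂ) • ((fun g => th D hM i (pr p g)) * fun g => (p : ℂ) ^ a * reg p (fun _ => (1 : ℂ)) g) =
          (p : ℂ) ^ a • ∑ ψ : IrrCharacter G, (dec D hM ψ i : ℂ) • (ψ : G → ℂ) := by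
        funext g
        simp only [Pi.smul_apply, Pi.mul_apply, Finset.sum_apply, smul_eq_mul]
        have hd0' : (D.d i : ℂ) ≠ 0 := by exact_mod_cast hd0
        by_cases hg : p ∣ orderOf g
        · rw [reg_not hg, mul_zero, mul_zero, mul_zero]
          have e2 := block_sing hM hB hg
          have e3 : (D.d i : ℂ) * ∑ ψ : IrrCharacter G, (dec D hM ψ i : ℂ) * (ψ : G → ℂ) g = 0 := by
            rw [← e2, Finset.mul_sum, Finset.sum_filter]
            refine Finset.sum_congr rfl fun ψ _ => ?_
            split_ifs with hψ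
            · rw [deg_one D hM hB hu hψ]
              push_cast
              ring
            · rw [hout ψ hψ]
              push_cast
              ring
          rw [(mul_eq_zero.1 e3).resolve_left hd0', mul_zero]
        · rw [reg_of hg, mul_one, pr_of_reg hM.1 hg]
          have e4 : ∑ ψ : IrrCharacter G, (dec D hM ψ i : ℂ) * (ψ : G → ℂ) g = c * th D hM i g := by
            rw [hc]
            push_cast
            rw [Finset.sum_mul]
            refine Finset.sum_congr rfl fun ψ _ => ?_
            by_cases hψ : ψ ∈ B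
            · rw [reg_eq_one D hM hB hu hψ hg]
              ring
            · rw [hout ψ hψ]
              push_cast
              ring
          rw [e4]
          ring
      have e5 := congrArg (fun f => classInner f (χ : G → ℂ)) e1
      simp only [H18.CharOrtho.inner_smul_left, inner_sum_left] at e5
      rw [e5, Finset.sum_eq_single χ]
      · rw [inner_irr_self χ.2, mul_one]
      · intro ψ _ hψ
        rw [inner_irr_ne ψ.2 χ.2 (fun h => hψ (Subtype.ext h)), mul_zero]
      · intro h
        exact absurd (Finset.mem_univ _) h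
    choose m hm using hint
    refine ⟨∑ χ : IrrCharacter G, n χ * m χ, ?_⟩
    have e1 : ((p : ℤ) ^ a : ℂ) = ((c * ∑ χ : IrrCharacter G, n χ * m χ : ℤ) : ℂ) := by
      have e2 : ((∑ χ : IrrCharacter G, n χ * (dec D hM χ i : ℤ) : ℤ) : ℂ) = 1 := by rw [hn3]; norm_num
      push_cast at e2 ⊢
      calc (p : ℂ) ^ a = (p : ℂ) ^ a * ∑ χ : IrrCharacter G, (n χ : ℂ) * (dec D hM χ i : ℂ) := by rw [e2, mul_one]
        _ = ∑ χ : IrrCharacter G, (n χ : ℂ) * ((p : ℂ) ^ a * (dec D hM χ i : ℂ)) := by
            rw [Finset.mul_sum]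
            exact Finset.sum_congr rfl fun χ _ => by ring
        _ = ∑ χ : IrrCharacter G, (n χ : ℂ) * (c * m χ) := Finset.sum_congr rfl fun χ _ => by rw [hm]
        _ = _ := by
            rw [Finset.mul_sum]
            exact Finset.sum_congr rfl fun χ _ => by ring
    exact_mod_cast e1
  have hvdvd : v ∣ p ^ a := by
    have h1 : c ∣ p ^ a := by exact_mod_cast hcdvd
    exact (Dvd.intro_left _ hcv.symm).trans h1
  obtain ⟨k, -, hk⟩ := (Nat.dvd_prime_pow hM.1).1 hvdvd
  have hk0 : k = 0 := by
    by_contra hk0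
    exact hvp (hk ▸ dvd_pow_self p hk0)
  rw [hcv, hk, hk0, pow_zero, mul_one]

/-- **The basic algebra of a block with one simple module**: a local symmetric algebra of dimension
the order of the defect group, whose center has dimension the number of characters. -/
theorem exists_basic (hl : blockRank p B = 1) :
    ∃ (A : Type u) (_ : Ring A) (_ : Algebra (ResF M) A) (_ : FiniteDimensional (ResF M) A)
      (_ : LocSym (ResF M) A), finrank (ResF M) A = p ^ blockDefect p B ∧
        finrank (ResF M) (Subalgebra.center (ResF M) A) = Nat.card B := by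
  classical
  letI := Fintype.ofFinite (IrrCharacter G)
  obtain ⟨D⟩ := exists_dat' (G := G) hM
  obtain ⟨i, hi, hu⟩ := exists_unique_of_rank_one D hM hB hl
  haveI : FiniteDimensional (ResF M) (KG M G) := inferInstance
  refine ⟨(D.idem i).Corner, inferInstance, inferInstance, inferInstance,
    locSym D i (lam1 M G) lam1_symm lam1_nondeg, ?_, finrank_center D hB hi hu⟩
  rw [finrank_corner, finrank_cornerF D hM i, sum_dec_sq D hM hB hi hu]

end one

end H20.Cor
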