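import Mathlib
import Cfsg.Agent.Lib.H20.Cor4
import Cfsg.Agent.Lib.H20.PPart
import Cfsg.Agent.Lib.H84.Star15
import Cfsg.Agent.Lib.H80.GV
import Cfsg.Agent.Lib.H20.Homo

/-!
# Blocks with one simple module and commutative basic algebra are nilpotent
-/

set_option autoImplicit false
set_option linter.unusedSectionVars false
set_option linter.unusedVariables false
set_option linter.style.haveILetI false

open Module
open Cfsg H20.Loc H20.GA H20.Blk H20.Orth H20.Defect H80.GA H80.GB H80.BR1 H84.RG H84.Star H18.CharBasic H18.CharOrtho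
open H80.GC H80.GD H80.GE H80.GF H80.GJ H80.BR2
open scoped ComplexConjugate

universe u

namespace H20.Cor

open H20.BrT H20.LSA

section ZSK

variable {k : Type*} [Field k] {G : Type u} [Group G] [Finite G]

/-- block part of the center of the group algebra of a subgroup -/
noncomputable def ZSK (K : Subgroup G) (e : MonoidAlgebra k G) : Submodule k (MonoidAlgebra k G) :=
  Subalgebra.toSubmodule (Z k K) ⊓ LinearMap.ker (LinearMap.mulLeft k e - LinearMap.id)

theorem mem_ZSK {K : Subgroup G} {e a : MonoidAlgebra k G} : a ∈ ZSK K e ↔ a ∈ Z k K ∧ e * a = a := by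
  unfold ZSK
  rw [Submodule.mem_inf, Subalgebra.mem_toSubmodule, LinearMap.mem_ker]
  simp [sub_eq_zero]

end ZSK

variable {M : Ideal AlgInt} [M.IsMaximal] {G : Type u} [Group G] [Finite G] {p : ℕ}

theorem finrank_ZSK {K : Subgroup G} {S : Set (IrrCharacter K)} (hS : IsPBlock M S) :
    finrank (ResF M) (ZSK K (bl M K S)) = Nat.card S := by
  rw [← finrank_ZS hS]
  have hφ := K.subtype_injective
  have h1 : ZSK K (bl M K S) = (ZS (ebar M S)).map (inc (ResF M) K.subtype).toLinearMap := by
    ext a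
    rw [mem_ZSK, Submodule.mem_map]
    constructor
    · rintro ⟨h1, h2⟩
      obtain ⟨b, rfl⟩ := exists_inc hφ (b := a) (by
        rw [Subgroup.range_subtype]; exact h1.2)
      refine ⟨b, mem_ZS.2 ⟨?_, ?_⟩, rfl⟩
      · rw [← inc_mem_Z hφ, map_subtype_top]
        exact h1
      · apply inc_injective (k := ResF M) hφ
        rw [map_mul]
        exact h2
    · rintro ⟨b, hb, rfl⟩
      rw [mem_ZS] at hb
      refine ⟨?_, ?_⟩
      · have := (inc_mem_Z (k := ResF M) hφ (L := ⊤)).2 hb.1
        rwa [map_subtype_top] at this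
      · show inc (ResF M) K.subtype (ebar M S) * inc (ResF M) K.subtype b = inc (ResF M) K.subtype b
        rw [← map_mul, hb.2]
  rw [h1]
  exact LinearEquiv.finrank_eq (Submodule.equivMapOfInjective _ (inc_injective (k := ResF M) hφ) _).symm

variable [Fact p.Prime] [CharP (ResF M) p] [Algebra (ZMod p) (ResF M)] [Algebra.IsAlgebraic (ZMod p) (ResF M)]

/-- the number of characters of the root block of an abelian defect group -/
theorem card_root [IsAlgClosed (ResF M)] (hM : IsPModular p M) {b e : MonoidAlgebra (ResF M) G} {P : Subgroup G}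
    (hmax : IsMax p ⊤ b P e) (hPab : ∀ x ∈ P, ∀ y ∈ P, x * y = y * x)
    {C : Subgroup G} (hC : C = Subgroup.centralizer (P : Set G)) {S : Set (IrrCharacter C)} (hS : IsPBlock M S)
    (hSe : bl M C S = e) : Nat.card S = Nat.card P := by
  classical
  have hPC : P ≤ C := by
    intro x hx
    rw [hC, Subgroup.mem_centralizer_iff]
    intro y hy
    exact hPab y hy x hx
  have hm := H80.GV.cent_max hmax hPab (Relation.ReflTransGen.refl : SLE p ⊤ P e P e)
  rw [H80.BR3.CH_top, ← hC] at hm
  have hnil : H80.FS3.Nilp p C e := by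
    rw [H80.GV.nilp_abelian hm hPab]
    intro x hx
    rw [← hC]
    exact H80.GH.ST_le hx
  have hnilS : H80.FS3.Nilp p ⊤ (ebar M S) := by
    rw [← H80.FS4.nilp_iff_top hS, H80.FS4.nilp_iff_sub hS, hSe]
    exact hnil
  have hmap : (P.subgroupOf C).map C.subtype = P := by
    rw [Subgroup.subgroupOf_map_subtype]
    exact inf_eq_left.2 hPC
  have hdef : IsDefectGroup p M S (P.subgroupOf C) := by
    rw [isDefectGroup_iff_isDef' hM hS, hmap, hSe]
    exact (maxPair hm).1
  obtain ⟨e', hmax'⟩ := H84.Star.exists_isMax_of_isDefectGroup hM hS hdef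
  obtain ⟨χ, hχ, h0⟩ := exists_height_zero hM hS
  have e1 := H84.Star.nilEquiv hM hmax' hS hnilS hχ h0
  rw [← Nat.card_congr e1, card_irr_eq_card_conjClasses]
  have hcomm : ∀ x y : P.subgroupOf C, x * y = y * x := by
    intro x y
    apply Subtype.ext
    apply Subtype.ext
    exact hPab _ x.2 _ y.2
  have e2 : Nat.card (ConjClasses (P.subgroupOf C)) = Nat.card (P.subgroupOf C) := by
    symm
    apply Nat.card_congr
    refine Equiv.ofBijective ConjClasses.mk ⟨?_, ConjClasses.mk_surjective⟩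
    intro x y hxy
    rw [ConjClasses.mk_eq_mk_iff_isConj, isConj_iff] at hxy
    obtain ⟨c, hc⟩ := hxy
    rw [← hc, hcomm c x, mul_inv_cancel_right]
  rw [e2]
  exact Nat.card_congr (Subgroup.subgroupOfEquivOfLe hPC).toEquiv

section main

variable (D : Dat (ResF M) (KG M G))
variable {B : Set (IrrCharacter G)} {i : Fin D.n}

/-- the socle element survives the Brauer homomorphism at the defect group -/
theorem br_rr_ne (hM : IsPModular p M) (hB : IsPBlock M B) (hi : InB D B i) (hu : ∀ j, InB D B j → j = i)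
    {P : Subgroup G} (hP : IsDefectGroup p M B P) : br (ResF M) P (rr D i) ≠ 0 := by
  classical
  haveI : M.IsPrime := pm_isPrime hM
  obtain ⟨g, hg, Q, rfl⟩ := hP
  obtain ⟨χ, hχ, h0⟩ := exists_height_zero hM hB
  have h1 := PPart.unit_at_defectClass hM hB hχ h0 ⟨χ, hχ, hg.2.2 χ hχ⟩ (blockDefect_eq hM hB hg).symm
  have hreg := regular_of_isDefectClass hM hB hg
  have htt : tt D i g ≠ 0 := by
    intro h
    apply h1
    rw [reg_eq_one D hM hB hu hχ hreg]
    have h2 : MemLocalIdeal M (th D hM i g) := by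
      rw [← redFun_eq_zero_iff (th_mem D hM i g), th_red, h]
    exact locI_mul_left (locR_natCast _) h2
  intro h
  apply htt
  have h2 : (br (ResF M) _ (rr D i)).coeff g⁻¹ = (0 : KG M G).coeff g⁻¹ := congrArg (fun a : KG M G => a.coeff g⁻¹) h
  rw [coeff_br, if_pos, coeff_rr, inv_inv] at h2
  · exact h2
  · apply inv_mem
    rw [Subgroup.mem_centralizer_iff]
    rintro _ ⟨y, hy, rfl⟩
    exact (Subgroup.mem_centralizer_singleton_iff.1 y.2)

theorem br_inj (hM : IsPModular p M) (hB : IsPBlock M B) (hi : InB D B i) (hu : ∀ j, InB D B j → j = i)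
    (hsurj : ∀ c : (D.idem i).Corner, ∃ z ∈ ZS (ebar M B), z * D.E i = c.1)
    {P : Subgroup G} (hP : IsDefectGroup p M B P) {z : KG M G} (hz : z ∈ ZS (ebar M B))
    (h : br (ResF M) P z = 0) : z = 0 := by
  by_contra h0
  obtain ⟨z', hz', hr⟩ := rr_dvd D hB hi hu hsurj hz h0
  apply br_rr_ne D hM hB hi hu hP
  have hPp := H20.DefGrp.isPGroup_of_isDefectGroup hP
  rw [hr, br_mul hPp (Fx_mono le_top (mem_ZS.1 hz).1.1) (Fx_mono le_top (mem_ZS.1 hz').1.1), h, zero_mul]

theorem br_e_inj (hM : IsPModular p M) (hB : IsPBlock M B) (hi : InB D B i) (hu : ∀ j, InB D B j → j = i)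
    (hsurj : ∀ c : (D.idem i).Corner, ∃ z ∈ ZS (ebar M B), z * D.E i = c.1)
    {P : Subgroup G} {e : KG M G} (hP : IsDefectGroup p M B P) (hmax : IsMax p ⊤ (ebar M B) P e)
    {z : KG M G} (hz : z ∈ ZS (ebar M B)) (h : br (ResF M) P z * e = 0) : z = 0 := by
  apply br_inj D hM hB hi hu hsurj hP hz
  have hPp := H20.DefGrp.isPGroup_of_isDefectGroup hP
  have hz1 := mem_ZS.1 hz
  have hbz : br (ResF M) P z = br (ResF M) P z * br (ResF M) P (ebar M B) := by
    rw [← br_mul hPp (Fx_mono le_top hz1.1.1) (Fx_mono le_top (isBlk_ebar hB).mem.1),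
      comm_of_Z hz1.1, hz1.2]
  have h1 := sum_blk_one (k := ResF M) (CH ⊤ P)
  rw [← mul_one (br (ResF M) P z), ← h1, Finset.mul_sum]
  apply Finset.sum_eq_zero
  rintro ⟨f, hf⟩ _
  show br (ResF M) P z * f = 0
  have hbr : br (ResF M) P (ebar M B) ∈ Z (ResF M) (CH ⊤ P) := br_mem_Z (isBlk_ebar hB).mem
  rcases hf.cases hbr (br_idem hPp (Fx_mono le_top (isBlk_ebar hB).mem.1) (isBlk_ebar hB).idem) with h2 | h2
  · rw [hbz, mul_assoc, h2, mul_zero]
  · obtain ⟨x, hx, rfl⟩ := (maxPair hmax).2 f hf h2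
    have h3 : cj x (br (ResF M) P z) = br (ResF M) P z := by
      rw [cj_br, hz1.1.1 x (Subgroup.mem_top x)]
      rw [mem_normalizer.1 hx.2]
    rw [← h3, ← map_mul, h, map_zero]

omit [Fact p.Prime] [CharP (ResF M) p] [Algebra (ZMod p) (ResF M)] [Algebra.IsAlgebraic (ZMod p) (ResF M)] in
theorem supp_bl (hM : IsPModular p M) {C : Subgroup G} {S : Set (IrrCharacter C)} (hS : IsPBlock M S) {g : G}
    (hg : (bl M C S).coeff g ≠ 0) : g ∈ C ∧ IsPRegular p g := by
  haveI : M.IsPrime := pm_isPrime hM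
  have h1 : g ∈ C := (isBlk_bl hS).mem.2 g hg
  refine ⟨h1, ?_⟩
  intro h
  apply hg
  have h2 := coeff_inc (k := ResF M) C.subtype_injective (ebar M S) ⟨g, h1⟩
  have h3 : (bl M C S).coeff g = (ebar M S).coeff ⟨g, h1⟩ := h2
  rw [h3, coeff_ebar, blockCoeff_eq_zero hM (isUnion_of_isPBlock hS), redFun_zero]
  rwa [← Subgroup.orderOf_coe]

omit [Finite G] in
theorem eq_one_of_reg (hp : p.Prime) {v g : G} (hc : v * g = g * v) (hv : ∃ n : ℕ, v ^ p ^ n = 1)
    (hg : IsPRegular p g) (hvg : IsPRegular p (v * g)) (hg0 : orderOf g ≠ 0) (hvg0 : orderOf (v * g) ≠ 0) : v = 1 := by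
  obtain ⟨n, hn⟩ := hv
  set N := orderOf g * orderOf (v * g) with hN
  have h1 : v ^ N = 1 := by
    have h2 : (v * g) ^ N = 1 := by rw [hN, mul_comm, pow_mul, pow_orderOf_eq_one, one_pow]
    have h3 : g ^ N = 1 := by rw [hN, pow_mul, pow_orderOf_eq_one, one_pow]
    rw [(show Commute v g from hc).mul_pow, h3, mul_one] at h2
    exact h2
  have hcop : Nat.Coprime N (p ^ n) := by
    apply Nat.Coprime.pow_right
    rw [hN]
    exact Nat.Coprime.mul_left ((hp.coprime_iff_not_dvd.2 hg).symm) ((hp.coprime_iff_not_dvd.2 hvg).symm)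
  have h4 : orderOf v ∣ Nat.gcd N (p ^ n) := Nat.dvd_gcd (orderOf_dvd_of_pow_eq_one h1) (orderOf_dvd_of_pow_eq_one hn)
  rw [hcop.gcd_eq_one, Nat.dvd_one, orderOf_eq_one_iff] at h4
  exact h4

/-- **Main theorem**: a block with one simple module, abelian defect group of order `k(B)` and commutative
basic algebra is nilpotent. -/
theorem nilpotent_of_surj [IsAlgClosed (ResF M)] (hM : IsPModular p M) (hB : IsPBlock M B) (hi : InB D B i)
    (hu : ∀ j, InB D B j → j = i)
    (hsurj : ∀ c : (D.idem i).Corner, ∃ z ∈ ZS (ebar M B), z * D.E i = c.1)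
    {P : Subgroup G} (hP : IsDefectGroup p M B P) (hPab : ∀ x ∈ P, ∀ y ∈ P, x * y = y * x)
    (hk : Nat.card B = Nat.card P) : IsNilpotentBlock p M B := by
  classical
  obtain ⟨e, hmax⟩ := H84.Star.exists_isMax_of_isDefectGroup hM hB hP
  rw [H80.FS4.nilp_iff_top hB, H80.GV.nilp_abelian hmax hPab]
  intro x hx
  have hPp := H20.DefGrp.isPGroup_of_isDefectGroup hP
  obtain ⟨C, hC⟩ : ∃ C : Subgroup G, C = Subgroup.centralizer (P : Set G) := ⟨_, rfl⟩
  have hCH : CH ⊤ P = C := by rw [H80.BR3.CH_top, hC]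
  have hblk : IsBlk C e := by rw [← hCH]; exact hmax.of.pair.blk
  obtain ⟨S, hS, hSe⟩ := exists_bl hblk
  have hbrZ : ∀ z ∈ ZS (ebar M B), br (ResF M) P z * e ∈ ZSK C e := by
    intro z hz
    have h1 : br (ResF M) P z ∈ Z (ResF M) C := by rw [← hCH]; exact br_mem_Z (mem_ZS.1 hz).1
    rw [mem_ZSK]
    refine ⟨mul_mem h1 hblk.mem, ?_⟩
    rw [Z_comm h1 hblk.mem, ← mul_assoc, hblk.idem]
  let T : ZS (ebar M B) →ₗ[ResF M] ZSK C e :=
    { toFun := fun z => ⟨br (ResF M) P z.1 * e, hbrZ z.1 z.2⟩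
      map_add' := fun a b => Subtype.ext (by
        show br (ResF M) P (a.1 + b.1) * e = br (ResF M) P a.1 * e + br (ResF M) P b.1 * e
        rw [map_add, add_mul])
      map_smul' := fun c a => Subtype.ext (by
        show br (ResF M) P (c • a.1) * e = c • (br (ResF M) P a.1 * e)
        rw [map_smul, smul_mul_assoc]) }
  have hinj : Function.Injective T := by
    rw [← LinearMap.ker_eq_bot, LinearMap.ker_eq_bot']
    intro z hz
    apply Subtype.ext
    exact br_e_inj D hM hB hi hu hsurj hP hmax z.2 (congrArg Subtype.val hz)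
  have hfin : finrank (ResF M) (ZS (ebar M B)) = finrank (ResF M) (ZSK C e) := by
    rw [finrank_ZS hB, ← hSe, finrank_ZSK hS, hk]
    exact (card_root hM hmax hPab hC hS hSe).symm
  haveI : FiniteDimensional (ResF M) (KG M G) := inferInstance
  have hsur : Function.Surjective T := (LinearMap.injective_iff_surjective_of_finrank_eq_finrank hfin).1 hinj
  -- conjugation by `x` fixes the elements `u * e`
  have hfix : ∀ u ∈ P, x * u * x⁻¹ = u := by
    intro u hu'
    have hxN := hx.2.1
    have hxe := hx.2.2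
    have huC : MonoidAlgebra.single u (1 : ResF M) ∈ Z (ResF M) C := by
      refine ⟨mem_Fx'.2 ?_, ?_⟩
      · intro h hh y
        have hcu : h * u = u * h := by
          rw [hC] at hh
          exact (Subgroup.mem_centralizer_iff.1 hh u hu').symm
        rw [MonoidAlgebra.coeff_single, Finsupp.single_apply, Finsupp.single_apply]
        congr 1
        apply propext
        constructor
        · intro h1
          rw [eq_mul_inv_iff_mul_eq, ← hcu] at h1
          exact mul_left_cancel h1
        · intro h1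
          rw [← h1, hcu, mul_inv_cancel_right]
      · intro y hy
        rw [MonoidAlgebra.coeff_single, Finsupp.single_apply] at hy
        have : u = y := by
          by_contra h
          exact hy (if_neg h)
        rw [← this, hC, Subgroup.mem_centralizer_iff]
        intro w hw
        exact hPab w hw u hu'
    obtain ⟨z, hz⟩ := hsur ⟨MonoidAlgebra.single u 1 * e, by
      rw [mem_ZSK]
      refine ⟨mul_mem huC hblk.mem, ?_⟩
      rw [Z_comm huC hblk.mem, ← mul_assoc, hblk.idem]⟩
    have hz' : br (ResF M) P z.1 * e = MonoidAlgebra.single u 1 * e := congrArg Subtype.val hz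
    have h1 : cj x (br (ResF M) P z.1 * e) = br (ResF M) P z.1 * e := by
      rw [map_mul, hxe, cj_br, (mem_ZS.1 z.2).1.1 x (Subgroup.mem_top x), mem_normalizer.1 hxN]
    have h2 : cj x (MonoidAlgebra.single u (1 : ResF M) * e) = MonoidAlgebra.single (x * u * x⁻¹) 1 * e := by
      rw [map_mul, hxe]
      congr 1
      apply H80.GA.ext'
      intro y
      rw [coeff_cj, MonoidAlgebra.coeff_single, MonoidAlgebra.coeff_single, Finsupp.single_apply, Finsupp.single_apply]
      congr 1
      apply propext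
      constructor
      · intro h; rw [h]; group
      · intro h; rw [← h]; group
    have h3 : MonoidAlgebra.single (x * u * x⁻¹) 1 * e = MonoidAlgebra.single u 1 * e := by
      rw [← h2, ← hz', h1]
    obtain ⟨g, hg⟩ : ∃ g, e.coeff g ≠ 0 := by
      by_contra! hno
      exact hblk.ne (H80.GA.ext' fun y => by rw [hno y]; rfl)
    have hgr := supp_bl hM hS (g := g) (by rw [hSe]; exact hg)
    have h4 : e.coeff ((x * u * x⁻¹)⁻¹ * (u * g)) = e.coeff g := by
      have h5 := congrArg (fun a : KG M G => a.coeff (u * g)) h3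
      simp only [MonoidAlgebra.coeff_single_mul_apply, one_mul] at h5
      rwa [inv_mul_cancel_left] at h5
    have hgr' := supp_bl hM hS (g := (x * u * x⁻¹)⁻¹ * (u * g)) (by rw [hSe, h4]; exact hg)
    set v := (x * u * x⁻¹)⁻¹ * u with hv
    have hvP : v ∈ P := mul_mem (inv_mem ((mem_normalizer_iff'.1 hxN u).1 hu')) hu'
    have hvg : (x * u * x⁻¹)⁻¹ * (u * g) = v * g := (mul_assoc _ _ _).symm
    rw [hvg] at hgr'
    have hcomm : v * g = g * v := by
      have := hgr.1
      rw [hC] at this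
      exact Subgroup.mem_centralizer_iff.1 this v hvP
    have hv1 : v = 1 := by
      refine eq_one_of_reg hM.1 hcomm ?_ hgr.2 hgr'.2 (orderOf_pos g).ne' (orderOf_pos _).ne'
      obtain ⟨m, hm⟩ := hPp ⟨v, hvP⟩
      exact ⟨m, congrArg Subtype.val hm⟩
    rw [hv, inv_mul_eq_one] at hv1
    exact hv1
  rw [Subgroup.mem_centralizer_iff]
  intro u hu'
  have := hfix u hu'
  rw [mul_inv_eq_iff_eq_mul] at this
  exact this.symm

end main

end H20.Cor
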