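import Mathlib
import Cfsg.Agent.Lib.H20.Cor5

/-!
# Blocks with one simple module and few characters; blocks with equal degrees
-/

set_option autoImplicit false
set_option linter.unusedSectionVars false
set_option linter.unusedVariables false
set_option linter.style.haveILetI false

open Module
open Cfsg H20.Loc H20.GA H20.Blk H20.Orth H20.Defect H80.GA H80.GB H80.BR1 H84.RG H84.Star H18.CharBasic H18.CharOrtho
open H80.GC H80.GD H80.GE H80.GF H80.GJ H80.BR2
open scoped ComplexConjugate

universe u

namespace H20.Cor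

open H20.BrT H20.LSA

variable {M : Ideal AlgInt} [M.IsMaximal] {G : Type u} [Group G] [Finite G] {p : ℕ}

theorem comm_of_card_pow_le {P : Type*} [Group P] [Finite P] [hp : Fact p.Prime] {d : ℕ} (h : Nat.card P = p ^ d)
    (h4 : Nat.card P ≤ 4) (x y : P) : x * y = y * x := by
  have hp2 := hp.out.two_le
  have hd : d ≤ 2 := by
    by_contra! hd
    have h1 : 2 ^ 3 ≤ p ^ d := (Nat.pow_le_pow_left hp2 3).trans (Nat.pow_le_pow_right (by omega) hd)
    omega
  interval_cases d
  · rw [pow_zero] at h
    have := (Nat.card_eq_one_iff_unique.1 h).1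
    exact Subsingleton.elim _ _
  · rw [pow_one] at h
    haveI := isCyclic_of_prime_card h
    letI := IsCyclic.commGroup (α := P)
    exact mul_comm x y
  · exact IsPGroup.commutative_of_card_eq_prime_sq h x y

/-- the corner of a block with at most four characters -/
theorem finrank_corner_of_le_four (D : Dat (ResF M) (KG M G)) (hM : IsPModular p M) {B : Set (IrrCharacter G)}
    (hB : IsPBlock M B) {i : Fin D.n} (hi : InB D B i) (hu : ∀ j, InB D B j → j = i) (h4 : Nat.card B ≤ 4) :
    finrank (ResF M) (D.idem i).Corner = Nat.card B := by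
  haveI : FiniteDimensional (ResF M) (KG M G) := inferInstance
  have h1 := finrank_center D hB hi hu
  have h2 := (locSym D i (lam1 M G) lam1_symm lam1_nondeg).comm_of_center_le_four (by rw [h1]; exact h4)
  rw [← h1]
  have h3 : Subalgebra.toSubmodule (Subalgebra.center (ResF M) (D.idem i).Corner) = ⊤ := by
    rw [eq_top_iff]
    intro x _
    rw [Subalgebra.mem_toSubmodule, Subalgebra.mem_center_iff]
    exact fun b => h2 b x
  have h4 : finrank (ResF M) (Subalgebra.toSubmodule (Subalgebra.center (ResF M) (D.idem i).Corner)) =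
      finrank (ResF M) (D.idem i).Corner := by rw [h3, finrank_top]
  exact h4.symm

theorem finrank_corner_eq (D : Dat (ResF M) (KG M G)) (hM : IsPModular p M) {B : Set (IrrCharacter G)}
    (hB : IsPBlock M B) {i : Fin D.n} (hi : InB D B i) (hu : ∀ j, InB D B j → j = i)
    {P : Subgroup G} (hP : IsDefectGroup p M B P) : finrank (ResF M) (D.idem i).Corner = Nat.card P := by
  classical
  letI := Fintype.ofFinite (IrrCharacter G)
  rw [finrank_corner, finrank_cornerF D hM i, sum_dec_sq D hM hB hi hu, card_defectGroup hM hB hP]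

/-- nilpotency from the dimension of the corner -/
theorem nilpotent_of_card (D : Dat (ResF M) (KG M G)) (hM : IsPModular p M) {B : Set (IrrCharacter G)}
    (hB : IsPBlock M B) {i : Fin D.n} (hi : InB D B i) (hu : ∀ j, InB D B j → j = i)
    {P : Subgroup G} (hP : IsDefectGroup p M B P) (hPab : ∀ x ∈ P, ∀ y ∈ P, x * y = y * x)
    (hk : Nat.card B = Nat.card P) : IsNilpotentBlock p M B := by
  haveI : Fact p.Prime := ⟨hM.1⟩
  haveI : CharP (ResF M) p := charP_resF hM
  letI : Algebra (ZMod p) (ResF M) := ZMod.algebra (ResF M) p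
  haveI : Algebra.IsAlgebraic (ZMod p) (ResF M) := H80.BR1.isAlgebraic_resF hM
  haveI : IsAlgClosed (ResF M) := isAlgClosed_resF
  refine nilpotent_of_surj D hM hB hi hu ?_ hP hPab hk
  apply surj_of_finrank D hB hi hu
  rw [finrank_corner_eq D hM hB hi hu hP, hk]

/-- blocks with one Brauer character and at most four characters -/
theorem small (hM : IsPModular p M) {B : Set (IrrCharacter G)} (hB : IsPBlock M B) (hl : blockRank p B = 1)
    (h4 : Nat.card B ≤ 4) {P : Subgroup G} (hP : IsDefectGroup p M B P) :
    IsNilpotentBlock p M B ∧ Nat.card P = Nat.card B := by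
  haveI : Fact p.Prime := ⟨hM.1⟩
  obtain ⟨D⟩ := exists_dat' (G := G) hM
  obtain ⟨i, hi, hu⟩ := exists_unique_of_rank_one D hM hB hl
  have h1 := finrank_corner_of_le_four D hM hB hi hu h4
  have h2 := finrank_corner_eq D hM hB hi hu hP
  have h3 : Nat.card P = Nat.card B := h2.symm.trans h1
  refine ⟨nilpotent_of_card D hM hB hi hu hP ?_ h3.symm, h3⟩
  intro x hx y hy
  have h5 := comm_of_card_pow_le (card_defectGroup hM hB hP) (by rw [h3]; exact h4) (⟨x, hx⟩ : P) ⟨y, hy⟩
  exact congrArg Subtype.val h5

end H20.Cor
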