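import Cfsg.Agent.Lib.H96.FrDef
import Cfsg.Agent.Lib.H24.FrFam
import Cfsg.Agent.Lib.H41.FrP1a
import Cfsg.Agent.Lib.H83.FrNorm

set_option autoImplicit false
set_option linter.unusedSectionVars false

open Matrix H96.Fr H24.FrFam

namespace H20.FrC

variable {ι F : Type*} [Fintype ι] [DecidableEq ι] [Field F]
  {K : Subgroup ((ι → F) ≃ₗ[F] (ι → F))}

lemma e_apply (i k : ι) : (e i : ι → F) k = if k = i then 1 else 0 := by
  simp [e, Pi.single_apply]

lemma dot_e (x : ι → F) (a : ι) : x ⬝ᵥ (e a : ι → F) = x a := by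
  simp [e]

lemma neg_eq_self {x : F} (h2 : (2 : F) ≠ 0) (h : x = - x) : x = 0 := by
  have : (2 : F) * x = 0 := by rw [two_mul]; nth_rw 1 [h]; ring
  exact (mul_eq_zero.mp this).resolve_left h2

lemma ki (k : (ι → F) ≃ₗ[F] (ι → F)) (x : ι → F) : k (k⁻¹ x) = x := H41.FrP1a.inv_app k x

lemma ik (k : (ι → F) ≃ₗ[F] (ι → F)) (x : ι → F) : k⁻¹ (k x) = x := H41.FrP1a.inv_app' k x

/-- moving a coordinate through a monomial isometry -/
lemma coord {x : (ι → F) ≃ₗ[F] (ι → F)} (hx : Iso x) {g : ι → F} {η : F} (hg : x g = η • g)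
    {p q : ι} {δ : F} (hp : x (e p) = δ • e q) : η * δ * g q = g p := by
  have h := hx g (e p)
  rw [hg, hp, dot_e, smul_dotProduct, dotProduct_smul, dot_e, smul_eq_mul, smul_eq_mul] at h
  rw [← h]; ring

/-- a permutation fact -/
lemma klein {π0 π1 : Equiv.Perm ι} {i j : ι} (hij : i ≠ j) (hN : Fintype.card ι = 7)
    (h0i : π0 i = i) (h0j : π0 j = j) (h1i : π1 i = i) (h1j : π1 j = j)
    (h00 : π0 * π0 = 1) (h11 : π1 * π1 = 1) (hcomm : π0 * π1 = π1 * π0)
    (hne : π0 ≠ 1) (hs1 : π1.support.card = π0.support.card)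
    (hs2 : (π0 * π1).support.card = π0.support.card) :
    ∃ l, l ≠ i ∧ l ≠ j ∧ π0 l = l ∧ π1 l = l ∧
      ∀ p p', p ≠ i → p ≠ j → p ≠ l → p' ≠ i → p' ≠ j → p' ≠ l →
        p' = p ∨ p' = π0 p ∨ p' = π1 p ∨ p' = (π0 * π1) p := by
  classical
  let L : Finset ι := Finset.univ \ {i, j}
  have hLcard : L.card = 5 := by
    rw [Finset.card_sdiff_of_subset (Finset.subset_univ _), Finset.card_univ, hN, Finset.card_pair hij]
  have hL : ∀ p, p ∈ L ↔ p ≠ i ∧ p ≠ j := by intro p; simp [L]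
  have hsub : ∀ π : Equiv.Perm ι, π i = i → π j = j → π.support ⊆ L := by
    intro π hi hj p hp
    rw [Equiv.Perm.mem_support] at hp
    rw [hL]
    exact ⟨fun h => hp (by rw [h, hi]), fun h => hp (by rw [h, hj])⟩
  have hle0 := Finset.card_le_card (hsub π0 h0i h0j)
  have hdvd : 2 ∣ π0.support.card := Equiv.Perm.two_dvd_card_support (by rw [pow_two, h00])
  have hpos : π0.support.card ≠ 0 := by
    intro h; exact hne (Equiv.Perm.card_support_eq_zero.1 h)
  have hcard4 : π0.support.card = 4 := by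
    rw [hLcard] at hle0
    have h24 : π0.support.card = 2 ∨ π0.support.card = 4 := by omega
    rcases h24 with h | h
    · exfalso
      have a0 := (Equiv.Perm.card_support_eq_two.1 h).sign_eq
      have a1 := (Equiv.Perm.card_support_eq_two.1 (hs1.trans h)).sign_eq
      have a2 := (Equiv.Perm.card_support_eq_two.1 (hs2.trans h)).sign_eq
      rw [Equiv.Perm.sign_mul, a0, a1] at a2
      exact absurd a2 (by decide)
    · exact h
  have hfixl : ∀ π : Equiv.Perm ι, π i = i → π j = j → π.support.card = 4 →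
      ∃ l, l ≠ i ∧ l ≠ j ∧ π l = l ∧ ∀ p, p ≠ i → p ≠ j → π p = p → p = l := by
    intro π hi hj hc
    have h1 : (L \ π.support).card = 1 := by
      rw [Finset.card_sdiff_of_subset (hsub π hi hj), hLcard, hc]
    obtain ⟨l, hl⟩ := Finset.card_eq_one.1 h1
    have hmem : ∀ p, p ∈ L \ π.support ↔ p = l := by intro p; rw [hl, Finset.mem_singleton]
    have hll := (hmem l).2 rfl
    rw [Finset.mem_sdiff, hL, Equiv.Perm.notMem_support] at hll
    refine ⟨l, hll.1.1, hll.1.2, hll.2, fun p h3 h4 h5 => ?_⟩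
    apply (hmem p).1
    rw [Finset.mem_sdiff, hL, Equiv.Perm.notMem_support]
    exact ⟨⟨h3, h4⟩, h5⟩
  obtain ⟨l, hli, hlj, hl0, hu0⟩ := hfixl π0 h0i h0j hcard4
  obtain ⟨l1, hl1i, hl1j, hl11, hu1⟩ := hfixl π1 h1i h1j (hs1.trans hcard4)
  have h2i : (π0 * π1) i = i := by rw [Equiv.Perm.mul_apply, h1i, h0i]
  have h2j : (π0 * π1) j = j := by rw [Equiv.Perm.mul_apply, h1j, h0j]
  obtain ⟨l2, hl2i, hl2j, hl22, hu2⟩ := hfixl (π0 * π1) h2i h2j (hs2.trans hcard4)
  have hl1 : π1 l = l := by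
    apply hu0
    · intro h; exact hli (π1.injective (h.trans h1i.symm))
    · intro h; exact hlj (π1.injective (h.trans h1j.symm))
    · have := congrArg (fun f : Equiv.Perm ι => f l) hcomm
      simp only [Equiv.Perm.mul_apply] at this
      rw [this, hl0]
  have hl2 : (π0 * π1) l = l := by rw [Equiv.Perm.mul_apply, hl1, hl0]
  refine ⟨l, hli, hlj, hl0, hl1, ?_⟩
  intro p p' hpi hpj hpl hpi' hpj' hpl'
  have n0 : π0 p ≠ p := fun h => hpl (hu0 p hpi hpj h)
  have n1 : π1 p ≠ p := fun h => hpl ((hu1 p hpi hpj h).trans (hu1 l hli hlj hl1).symm)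
  have n2 : (π0 * π1) p ≠ p := fun h => hpl ((hu2 p hpi hpj h).trans (hu2 l hli hlj hl2).symm)
  have n01 : π0 p ≠ π1 p := by
    intro h
    apply n2
    rw [hcomm, Equiv.Perm.mul_apply, h, ← Equiv.Perm.mul_apply, h11]; rfl
  have n02 : π0 p ≠ (π0 * π1) p := by
    intro h
    rw [Equiv.Perm.mul_apply] at h
    exact n1 (π0.injective h).symm
  have n12 : π1 p ≠ (π0 * π1) p := by
    intro h
    rw [hcomm, Equiv.Perm.mul_apply] at h
    exact n0 (π1.injective h).symm
  let M : Finset ι := L \ {l}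
  have hM : ∀ q, q ∈ M ↔ (q ≠ i ∧ q ≠ j) ∧ q ≠ l := by
    intro q; simp only [M, Finset.mem_sdiff, hL, Finset.mem_singleton]
  have hMcard : M.card = 4 := by
    rw [Finset.card_sdiff_of_subset, hLcard, Finset.card_singleton]
    intro q hq
    rw [Finset.mem_singleton] at hq
    rw [hq, hL]; exact ⟨hli, hlj⟩
  have hin : ∀ π : Equiv.Perm ι, π i = i → π j = j → π l = l → π p ∈ M := by
    intro π h3 h4 h5
    rw [hM]
    refine ⟨⟨fun h => hpi (π.injective (h.trans h3.symm)),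
      fun h => hpj (π.injective (h.trans h4.symm))⟩,
      fun h => hpl (π.injective (h.trans h5.symm))⟩
  have hQsub : ({p, π0 p, π1 p, (π0 * π1) p} : Finset ι) ⊆ M := by
    intro q hq
    simp only [Finset.mem_insert, Finset.mem_singleton] at hq
    rcases hq with rfl | rfl | rfl | rfl
    · exact (hM _).2 ⟨⟨hpi, hpj⟩, hpl⟩
    · exact hin π0 h0i h0j hl0
    · exact hin π1 h1i h1j hl1
    · exact hin (π0 * π1) h2i h2j hl2
  have hQcard : ({p, π0 p, π1 p, (π0 * π1) p} : Finset ι).card = 4 := by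
    rw [Finset.card_insert_of_notMem, Finset.card_insert_of_notMem, Finset.card_pair n12]
    · simp only [Finset.mem_insert, Finset.mem_singleton]
      rintro (h | h)
      · exact n01 h
      · exact n02 h
    · simp only [Finset.mem_insert, Finset.mem_singleton]
      rintro (h | h | h)
      · exact n0 h.symm
      · exact n1 h.symm
      · exact n2 h.symm
  have heq := Finset.eq_of_subset_of_card_le hQsub (by rw [hQcard, hMcard])
  have hp' : p' ∈ M := (hM _).2 ⟨⟨hpi', hpj'⟩, hpl'⟩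
  rw [← heq] at hp'
  simpa only [Finset.mem_insert, Finset.mem_singleton] using hp'


/-- sign patterns: `D n` is trivial on `e (r n)` and `-1` on the other two `e (r m)` -/
structure Tri (r : Fin 3 → ι) (D : Fin 3 → ((ι → F) ≃ₗ[F] (ι → F))) : Prop where
  inj : Function.Injective r
  same : ∀ n, D n (e (r n)) = e (r n)
  diff : ∀ n m, m ≠ n → D n (e (r m)) = - e (r m)
  out : ∀ n p, (∀ m, p ≠ r m) → D n (e p) = e p

/-- a vector with the sign pattern of `e (r m)` is a multiple of `e (r m)` -/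
lemma Tri.eig {r : Fin 3 → ι} {D : Fin 3 → ((ι → F) ≃ₗ[F] (ι → F))} (T : Tri r D)
    (h2 : (2 : F) ≠ 0) (hiso : ∀ n, Iso (D n)) {v : ι → F} {m : Fin 3}
    (hs : D m v = v) (hd : ∀ n, n ≠ m → D n v = - v) : ∀ q, q ≠ r m → v q = 0 := by
  intro q hq
  by_cases hex : ∃ m', q = r m'
  · obtain ⟨m', rfl⟩ := hex
    have hmm : m' ≠ m := fun h => hq (by rw [h])
    have h3 := hiso m v (e (r m'))
    rw [hs, T.diff m m' hmm, dotProduct_neg, dot_e] at h3
    exact neg_eq_self h2 h3.symm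
  · push Not at hex
    have hn : ∃ n : Fin 3, n ≠ m := by
      by_cases h : m = 0
      · exact ⟨1, by rw [h]; decide⟩
      · exact ⟨0, fun h3 => h h3.symm⟩
    obtain ⟨n, hn⟩ := hn
    have h3 := hiso n v (e q)
    rw [hd n hn, T.out n q hex, neg_dotProduct, dot_e] at h3
    exact neg_eq_self h2 h3.symm

lemma iso_mul {g h : (ι → F) ≃ₗ[F] (ι → F)} (hg : Iso g) (hh : Iso h) : Iso (g * h) := by
  intro x y
  show g (h x) ⬝ᵥ g (h y) = _
  rw [hg, hh]

theorem core (D : Dat K) (h2 : (2:F) ≠ 0) (hN : Fintype.card ι = 7)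
    {k : (ι → F) ≃ₗ[F] (ι → F)} (hk : k ∈ K) {i j : ι} (hij : i ≠ j)
    {r : Fin 3 → ι} {E : Fin 3 → ((ι → F) ≃ₗ[F] (ι → F))} (T : Tri r E)
    (hE : ∀ n, E n ∈ K) (hE0 : ∀ n, E n * E n = 1) (hE1 : E 0 * E 1 = E 2) (hE2 : E 1 * E 0 = E 2)
    (hM : ∀ n, Mon (k⁻¹ * E n * k))
    (hki : ∀ m, k (e i) (r m) = 0) (hkj : ∀ m, k (e j) (r m) = 0)
    {c : (ι → F) ≃ₗ[F] (ι → F)} (hc1 : ∀ n, c (e (r n)) = e (r (n + 1)))
    (hcE : ∀ n, c * E n * c⁻¹ = E (n + 1)) (hcM : Mon (k⁻¹ * c * k))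
    {y z : (ι → F) ≃ₗ[F] (ι → F)} (hy : y ∈ K) (hz : z ∈ K)
    (hyr : ∀ n, y (e (r n)) = e (r n)) (hzr : ∀ n, z (e (r n)) = e (r n))
    (hyM : Mon (k⁻¹ * y * k)) (hzM : Mon (k⁻¹ * z * k))
    {w w' : ι → F} (hyw : y w = - w) (hzw : z w' = - w')
    (hwi : (k⁻¹ w) i = 0) (hwj : (k⁻¹ w) j = 0) (hwi' : (k⁻¹ w') i = 0) (hwj' : (k⁻¹ w') j = 0)
    {a : ι} (hwa : w a ≠ 0) (hwa' : w' a = 0) (hw'0 : w' ≠ 0) :
    ∀ m, ∃ p, k⁻¹ (e (r m)) = e p ∨ k⁻¹ (e (r m)) = - e p := by
  classical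
  have hkI := D.iso k hk
  have hkI' : Iso k⁻¹ := D.iso _ (K.inv_mem hk)
  set x : Fin 3 → ((ι → F) ≃ₗ[F] (ι → F)) := fun n => k⁻¹ * E n * k with hx
  have hxapp : ∀ n v, x n v = k⁻¹ (E n (k v)) := fun n v => rfl
  have hxI : ∀ n, Iso (x n) := fun n => iso_mul (iso_mul hkI' (D.iso _ (hE n))) hkI
  set g : Fin 3 → (ι → F) := fun m => k⁻¹ (e (r m)) with hg
  have hxs : ∀ n, x n (g n) = g n := by
    intro n; rw [hxapp, hg]; simp only [ki, T.same]
  have hxd : ∀ n m, m ≠ n → x n (g m) = - g m := by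
    intro n m h; rw [hxapp, hg]; simp only [ki, T.diff n m h, map_neg]
  -- if a coordinate vector `e p` is an eigenvector of all x n with pattern m, then g m = ± e p
  have hpat : ∀ m p, x m (e p) = e p → (∀ n, n ≠ m → x n (e p) = - e p) →
      g m = e p ∨ g m = - e p := by
    intro m p h3 h4
    have h5 := T.eig h2 (fun n => D.iso _ (hE n)) (v := k (e p)) (m := m)
      (by
        have := congrArg (fun v => k v) h3
        simpa only [hxapp, ki] using this)
      (by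
        intro n hn
        have := congrArg (fun v => k v) (h4 n hn)
        simpa only [hxapp, ki, map_neg] using this)
    have h6 : k (e p) = (k (e p)) (r m) • (e (r m) : ι → F) := by
      funext q
      by_cases hq : q = r m
      · rw [hq]; simp [e_apply]
      · rw [h5 q hq]; simp [e_apply, hq]
    set μ := (k (e p)) (r m) with hμ
    have h7 : (e p : ι → F) = μ • g m := by
      have := congrArg (fun v => k⁻¹ v) h6
      simpa only [ik, map_smul] using this
    have h8 : μ * μ = 1 := by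
      have h9 := hkI (e p) (e p)
      rw [dot_e (e p) p, h6, smul_dotProduct, dotProduct_smul, dot_e] at h9
      simpa [e_apply] using h9
    rcases mul_self_eq_one_iff.1 h8 with h | h
    · left; rw [h7, h, one_smul]
    · right; rw [h7, h, neg_one_smul, neg_neg]
  -- if (g m) p ≠ 0 and x n (e p) = ± e p for all n then g m = ± e p
  have hcoordp : ∀ m p, g m p ≠ 0 → (∀ n, x n (e p) = e p ∨ x n (e p) = - e p) →
      g m = e p ∨ g m = - e p := by
    intro m p h3 h4
    apply hpat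
    · rcases h4 m with h | h
      · exact h
      · exfalso
        have := coord (hxI m) (g := g m) (η := 1) (by rw [one_smul]; exact hxs m) (p := p) (q := p)
          (δ := -1) (by rw [neg_one_smul]; exact h)
        apply h3
        apply neg_eq_self h2
        linear_combination (-1 : F) * this
    · intro n hn
      rcases h4 n with h | h
      · exfalso
        have := coord (hxI n) (g := g m) (η := -1) (by rw [neg_one_smul]; exact hxd n m hn.symm)
          (p := p) (q := p) (δ := 1) (by rw [one_smul]; exact h)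
        apply h3
        apply neg_eq_self h2
        linear_combination (-1 : F) * this
      · exact h
  -- one implies all
  have hall : ∀ m, (∃ p, g m = e p ∨ g m = - e p) → ∃ p, g (m + 1) = e p ∨ g (m + 1) = - e p := by
    rintro m ⟨p, hp⟩
    have h3 : (k⁻¹ * c * k) (g m) = g (m + 1) := by
      show k⁻¹ (c (k (k⁻¹ (e (r m))))) = k⁻¹ (e (r (m + 1)))
      rw [ki, hc1]
    obtain ⟨q, hq⟩ := hcM p
    refine ⟨q, ?_⟩
    rw [← h3]
    rcases hp with hp | hp <;> rcases hq with hq | hq <;> rw [hp]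
    · left; exact hq
    · right; exact hq
    · right; rw [map_neg, hq]
    · left; rw [map_neg, hq, neg_neg]
  have hone : (∃ m, ∃ p, g m = e p ∨ g m = - e p) → ∀ m, ∃ p, g m = e p ∨ g m = - e p := by
    rintro ⟨m, hm⟩ m'
    have h3 := hall m hm
    have h4 := hall (m + 1) h3
    have : ∀ a b : Fin 3, b = a ∨ b = a + 1 ∨ b = a + 1 + 1 := by decide
    rcases this m m' with rfl | rfl | rfl
    · exact hm
    · exact h3
    · exact h4
  apply hone
  by_contra hno
  have hno' : ∀ m p, g m p ≠ 0 → ¬ ∀ n, x n (e p) = e p ∨ x n (e p) = - e p := by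
    intro m p h3 h4
    exact hno ⟨m, p, hcoordp m p h3 h4⟩
  -- permutations
  obtain ⟨π0, hπ0⟩ := exists_mp (hM 0)
  obtain ⟨π1, hπ1⟩ := exists_mp (hM 1)
  obtain ⟨γ, hγ⟩ := exists_mp hcM
  have hx01 : x 0 * x 1 = x 2 := by
    show k⁻¹ * E 0 * k * (k⁻¹ * E 1 * k) = k⁻¹ * E 2 * k
    rw [← hE1]; group
  have hx10 : x 1 * x 0 = x 2 := by
    show k⁻¹ * E 1 * k * (k⁻¹ * E 0 * k) = k⁻¹ * E 2 * k
    rw [← hE2]; group
  have hxsq : ∀ n, x n * x n = 1 := by
    intro n
    show k⁻¹ * E n * k * (k⁻¹ * E n * k) = 1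
    have : k⁻¹ * E n * k * (k⁻¹ * E n * k) = k⁻¹ * (E n * E n) * k := by group
    rw [this, hE0]; group
  have hπ2 : MP (x 2) (π0 * π1) := by rw [← hx01]; exact hπ0.mul hπ1
  have hcomm : π0 * π1 = π1 * π0 := by
    apply hπ2.unique
    rw [← hx10]; exact hπ1.mul hπ0
  have h00 : π0 * π0 = 1 := (hπ0.mul hπ0).unique (by
    have := hxsq 0
    show MP (x 0 * x 0) 1
    rw [this]; exact mp_one)
  have h11 : π1 * π1 = 1 := (hπ1.mul hπ1).unique (by
    have := hxsq 1
    show MP (x 1 * x 1) 1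
    rw [this]; exact mp_one)
  have hxc : ∀ n, (k⁻¹ * c * k) * x n * (k⁻¹ * c * k)⁻¹ = x (n + 1) := by
    intro n
    show (k⁻¹ * c * k) * (k⁻¹ * E n * k) * (k⁻¹ * c * k)⁻¹ = k⁻¹ * E (n + 1) * k
    rw [← hcE]; group
  have hconj0 : γ * π0 * γ⁻¹ = π1 := by
    have h3 : MP (x 1) (γ * π0 * γ⁻¹) := by
      have := hxc 0
      rw [show (0 : Fin 3) + 1 = 1 by decide] at this
      rw [← this]; exact (hγ.mul hπ0).mul hγ.inv
    exact h3.unique hπ1
  have hconj1 : γ * π1 * γ⁻¹ = π0 * π1 := by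
    have h3 : MP (x 2) (γ * π1 * γ⁻¹) := by
      have := hxc 1
      rw [show (1 : Fin 3) + 1 = 2 by decide] at this
      rw [← this]; exact (hγ.mul hπ1).mul hγ.inv
    exact h3.unique hπ2
  have hs1 : π1.support.card = π0.support.card := by
    rw [← hconj0, Equiv.Perm.card_support_conj]
  have hs2 : (π0 * π1).support.card = π0.support.card := by
    rw [← hconj1, Equiv.Perm.card_support_conj, hs1]
  -- fixed i j
  have hEfix : ∀ n (v : ι → F), (∀ m, v (r m) = 0) → E n v = v := by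
    intro n v hv
    funext q
    have h3 := D.iso _ (hE n) v (e q)
    have h4 : E n (E n v) = v := by
      have := congrArg (fun f : (ι → F) ≃ₗ[F] (ι → F) => f v) (hE0 n)
      exact this
    have h5 := D.iso _ (hE n) (E n v) (e q)
    by_cases hex : ∃ m, q = r m
    · obtain ⟨m, rfl⟩ := hex
      have h6 : E n v (r m) = v (r m) ∨ E n v (r m) = - v (r m) := by
        by_cases hm : m = n
        · subst hm
          rw [T.same, dot_e, dot_e] at h3
          left; exact h3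
        · rw [T.diff n m hm, dotProduct_neg, dot_e, dot_e] at h3
          right; rw [← h3, neg_neg]
      rw [hv m, neg_zero, or_self] at h6
      rw [h6, hv m]
    · push Not at hex
      rw [T.out n q hex, dot_e, dot_e] at h3
      exact h3
  have hxi : ∀ n, x n (e i) = e i := by
    intro n; rw [hxapp, hEfix n _ hki, ik]
  have hxj : ∀ n, x n (e j) = e j := by
    intro n; rw [hxapp, hEfix n _ hkj, ik]
  have hpi : ∀ {X : (ι → F) ≃ₗ[F] (ι → F)} {π : Equiv.Perm ι} {p : ι}, MP X π → X (e p) = e p →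
      π p = p := by
    intro X π p h3 h4
    apply H24.FrFam.e_inj (F := F)
    rcases h3 p with h | h
    · left; rw [← h, h4]
    · right; rw [← h4, h, neg_neg]
  have hmpe : ∀ {X : (ι → F) ≃ₗ[F] (ι → F)} {π : Equiv.Perm ι} {p : ι}, MP X π → π p = p →
      X (e p) = e p ∨ X (e p) = - e p := by
    intro X π p h3 h4
    have := h3 p
    rwa [h4] at this
  have hMP : ∀ n : Fin 3, ∃ π, MP (x n) π ∧ (π = π0 ∨ π = π1 ∨ π = π0 * π1) := by
    intro n
    fin_cases n
    · exact ⟨π0, hπ0, Or.inl rfl⟩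
    · exact ⟨π1, hπ1, Or.inr (Or.inl rfl)⟩
    · exact ⟨π0 * π1, hπ2, Or.inr (Or.inr rfl)⟩
  have hgne : ∀ m, ∃ p, g m p ≠ 0 := by
    intro m
    by_contra hcon
    push Not at hcon
    have h3 : g m = 0 := funext hcon
    have h4 : (e (r m) : ι → F) = 0 := by
      have := congrArg (fun v => k v) h3
      simpa only [hg, ki, map_zero] using this
    exact e_ne_zero _ h4
  have hne : π0 ≠ 1 := by
    intro h0
    obtain ⟨p, hp⟩ := hgne 0
    apply hno' 0 p hp
    intro n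
    have h1' : π1 = 1 := by rw [← hconj0, h0]; group
    obtain ⟨π, h3, h4⟩ := hMP n
    apply hmpe h3
    rcases h4 with rfl | rfl | rfl
    · rw [h0]; rfl
    · rw [h1']; rfl
    · rw [h0, h1']; rfl
  obtain ⟨l, hli, hlj, hl0, hl1, hreg⟩ := klein hij hN (hpi hπ0 (hxi 0)) (hpi hπ0 (hxj 0))
    (hpi hπ1 (hxi 1)) (hpi hπ1 (hxj 1)) h00 h11 hcomm hne hs1 hs2
  have hgl : ∀ m, g m l = 0 := by
    intro m
    by_contra hcon
    apply hno' m l hcon
    intro n
    obtain ⟨π, h3, h4⟩ := hMP n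
    apply hmpe h3
    rcases h4 with rfl | rfl | rfl
    · exact hl0
    · exact hl1
    · rw [Equiv.Perm.mul_apply, hl1, hl0]
  have hgi : ∀ m, g m i = 0 := by
    intro m
    have h3 := hkI (g m) (e i)
    rw [dot_e] at h3
    rw [← h3]
    show k (k⁻¹ (e (r m))) ⬝ᵥ k (e i) = 0
    rw [ki, dotProduct_comm, dot_e, hki]
  have hgj : ∀ m, g m j = 0 := by
    intro m
    have h3 := hkI (g m) (e j)
    rw [dot_e] at h3
    rw [← h3]
    show k (k⁻¹ (e (r m))) ⬝ᵥ k (e j) = 0
    rw [ki, dotProduct_comm, dot_e, hkj]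
  -- nonzero transfers
  have hmove : ∀ {X : (ι → F) ≃ₗ[F] (ι → F)} {π : Equiv.Perm ι} {v : ι → F} (p : ι), Iso X → MP X π →
      (X v = v ∨ X v = - v) → v p ≠ 0 → v (π p) ≠ 0 := by
    intro X π v p hX hπ hv hp h0
    apply hp
    have hη : ∃ η : F, X v = η • v := by
      rcases hv with h | h
      · exact ⟨1, by rw [one_smul, h]⟩
      · exact ⟨-1, by rw [neg_one_smul, h]⟩
    have hδ : ∃ δ : F, X (e p) = δ • e (π p) := by
      rcases hπ p with h | h
      · exact ⟨1, by rw [one_smul, h]⟩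
      · exact ⟨-1, by rw [neg_one_smul, h]⟩
    obtain ⟨η, hη⟩ := hη
    obtain ⟨δ, hδ⟩ := hδ
    rw [← coord hX hη hδ, h0, mul_zero]
  have hxg : ∀ n m, x n (g m) = g m ∨ x n (g m) = - g m := by
    intro n m
    by_cases h : m = n
    · subst h; left; exact hxs m
    · right; exact hxd n m h
  have hgM : ∀ m p, p ≠ i → p ≠ j → p ≠ l → g m p ≠ 0 := by
    intro m p h3 h4 h5
    obtain ⟨q, hq⟩ := hgne m
    have hqi : q ≠ i := fun h => hq (by rw [h, hgi])
    have hqj : q ≠ j := fun h => hq (by rw [h, hgj])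
    have hql : q ≠ l := fun h => hq (by rw [h, hgl])
    rcases hreg q p hqi hqj hql h3 h4 h5 with h | h | h | h
    · rw [h]; exact hq
    · rw [h]; exact hmove q (hxI 0) hπ0 (hxg 0 m) hq
    · rw [h]; exact hmove q (hxI 1) hπ1 (hxg 1 m) hq
    · rw [h]; exact hmove q (hxI 2) hπ2 (hxg 2 m) hq
  -- y', z' are trivial on M
  have htriv : ∀ Y : (ι → F) ≃ₗ[F] (ι → F), Iso Y → Mon Y → (∀ m, Y (g m) = g m) →
      ∀ p, p ≠ i → p ≠ j → p ≠ l → Y (e p) = e p := by
    intro Y hYI hYM hYg p h3 h4 h5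
    obtain ⟨q, hq⟩ := hYM p
    have hδ : ∃ δ : F, δ * δ = 1 ∧ Y (e p) = δ • e q ∧ (q = p → δ = 1 → Y (e p) = e p) := by
      rcases hq with h | h
      · exact ⟨1, by ring, by rw [one_smul, h], fun h7 _ => by rw [h, h7]⟩
      · refine ⟨-1, by ring, by rw [neg_one_smul, h], fun _ h8 => ?_⟩
        exfalso
        apply h2
        have : (1 : F) + 1 = 0 := by nth_rw 1 [← h8]; ring
        rw [← this]; norm_num
    obtain ⟨δ, hδ1, hδ2, hδ3⟩ := hδ
    have hc : ∀ m, δ * g m q = g m p := by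
      intro m
      have := coord hYI (g := g m) (η := 1) (by rw [one_smul]; exact hYg m) hδ2
      rwa [one_mul] at this
    have hq0 : ∀ m, g m q ≠ 0 := by
      intro m h
      apply hgM m p h3 h4 h5
      rw [← hc m, h, mul_zero]
    by_cases hqp : q = p
    · apply hδ3 hqp
      have h6 := hc 0
      rw [hqp] at h6
      exact mul_right_cancel₀ (hgM 0 p h3 h4 h5) (by rw [h6, one_mul])
    · exfalso
      have hqi : q ≠ i := fun h => hq0 0 (by rw [h, hgi])
      have hqj : q ≠ j := fun h => hq0 0 (by rw [h, hgj])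
      have hql : q ≠ l := fun h => hq0 0 (by rw [h, hgl])
      have key : ∀ n π, MP (x n) π → q = π p → False := by
        intro n π hπ hqπ
        have hδ' : ∃ δ' : F, δ' * δ' = 1 ∧ x n (e p) = δ' • e q := by
          rcases hπ p with h | h
          · exact ⟨1, by ring, by rw [one_smul, h, hqπ]⟩
          · exact ⟨-1, by ring, by rw [neg_one_smul, h, hqπ]⟩
        obtain ⟨δ', hd1, hd2⟩ := hδ'
        have e1 := coord (hxI n) (g := g n) (η := 1) (by rw [one_smul]; exact hxs n) hd2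
        obtain ⟨m, hm⟩ : ∃ m : Fin 3, m ≠ n := by
          by_cases h : n = 0
          · exact ⟨1, by rw [h]; decide⟩
          · exact ⟨0, fun h3 => h h3.symm⟩
        have e2 := coord (hxI n) (g := g m) (η := -1) (by rw [neg_one_smul]; exact hxd n m hm) hd2
        rw [← hc n, one_mul] at e1
        rw [← hc m] at e2
        have f1 : δ' = δ := mul_right_cancel₀ (hq0 n) e1
        have f2 : -1 * δ' = δ := mul_right_cancel₀ (hq0 m) e2
        have f3 : δ = - δ := by linear_combination (-1 : F) * f1 - f2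
        have f4 := neg_eq_self h2 f3
        rw [f4, mul_zero] at hδ1
        exact zero_ne_one hδ1
      rcases hreg p q h3 h4 h5 hqi hqj hql with h | h | h | h
      · exact hqp h
      · exact key 0 π0 hπ0 h
      · exact key 1 π1 hπ1 h
      · exact key 2 _ hπ2 h
  have hYfin : ∀ (Y : (ι → F) ≃ₗ[F] (ι → F)) (u : ι → F), Y ∈ K → (∀ n, Y (e (r n)) = e (r n)) →
      Mon (k⁻¹ * Y * k) → Y u = - u → (k⁻¹ u) i = 0 → (k⁻¹ u) j = 0 →
      k⁻¹ u = (k⁻¹ u) l • (e l : ι → F) := by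
    intro Y u hY hYr hYM hYu hui huj
    have hI : Iso (k⁻¹ * Y * k) := iso_mul (iso_mul hkI' (D.iso _ hY)) hkI
    have h3 := htriv (k⁻¹ * Y * k) hI hYM (by
      intro m
      show k⁻¹ (Y (k (k⁻¹ (e (r m))))) = k⁻¹ (e (r m))
      rw [ki, hYr])
    have h4 : (k⁻¹ * Y * k) (k⁻¹ u) = - k⁻¹ u := by
      show k⁻¹ (Y (k (k⁻¹ u))) = - k⁻¹ u
      rw [ki, hYu, map_neg]
    funext q
    by_cases hql : q = l
    · rw [hql]; simp [e_apply]
    · have : (k⁻¹ u) q = 0 := by
        by_cases hqi : q = i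
        · rw [hqi]; exact hui
        by_cases hqj : q = j
        · rw [hqj]; exact huj
        have h5 := coord hI (g := k⁻¹ u) (η := -1) (by rw [neg_one_smul]; exact h4) (p := q) (q := q)
          (δ := 1) (by rw [one_smul]; exact h3 q hqi hqj hql)
        apply neg_eq_self h2
        linear_combination (-1 : F) * h5
      rw [this]; simp [e_apply, hql]
  have hw1 := hYfin y w hy hyr hyM hyw hwi hwj
  have hw2 := hYfin z w' hz hzr hzM hzw hwi' hwj'
  set α := (k⁻¹ w) l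
  set β := (k⁻¹ w') l
  have hw1' : w = α • k (e l) := by
    have := congrArg (fun v => k v) hw1
    simpa only [ki, map_smul] using this
  have hw2' : w' = β • k (e l) := by
    have := congrArg (fun v => k v) hw2
    simpa only [ki, map_smul] using this
  have h5 : α * k (e l) a ≠ 0 := by
    have := hwa
    rw [hw1'] at this
    exact this
  have h6 : β * k (e l) a = 0 := by
    have := hwa'
    rw [hw2'] at this
    exact this
  have h7 : β = 0 := by
    rcases mul_eq_zero.1 h6 with h | h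
    · exact h
    · exact absurd (by rw [h, mul_zero]) h5
  apply hw'0
  rw [hw2', h7, zero_smul]


lemma comm_of {g t : (ι → F) ≃ₗ[F] (ι → F)} (h : ∀ p, g (t (e p)) = t (g (e p))) : g * t = t * g :=
  ext_e h

theorem caseC (D : Dat K) (h2 : (2:F) ≠ 0) (hr : MonLe K 5) (hc : C2 K) (hN : Fintype.card ι = 7)
    {k : (ι → F) ≃ₗ[F] (ι → F)} (hk : k ∈ K) {i j a1 a2 b1 b2 : ι} (hij : i ≠ j)
    (hnd : [a1, a2, b1, b2].Nodup) {s s' : F} (hs : s * s = 1) (hs' : s' * s' = 1)
    (h1 : (k * sg i j * k⁻¹ : (ι → F) ≃ₗ[F] (ι → F)) (e a1) = s • e a2)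
    (h3 : (k * sg i j * k⁻¹ : (ι → F) ≃ₗ[F] (ι → F)) (e b1) = s' • e b2)
    (hfix : ∀ p, p ≠ a1 → p ≠ a2 → p ≠ b1 → p ≠ b2 →
      (k * sg i j * k⁻¹ : (ι → F) ≃ₗ[F] (ι → F)) (e p) = e p) : Mon k := by
  classical
  simp only [List.nodup_cons, List.mem_cons, List.not_mem_nil, or_false, not_or,
    List.nodup_nil, and_true, not_false_eq_true] at hnd
  obtain ⟨⟨n12, n1b, n1c⟩, ⟨n2b, n2c⟩, nbc⟩ := hnd
  set t := k * sg i j * k⁻¹ with htd
  have hkinvK := K.inv_mem hk
  have hkI := D.iso k hk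
  have htt : t * t = 1 := by
    have : t * t = k * (sg i j * sg i j) * k⁻¹ := by rw [htd]; group
    rw [this, sg_sq]; group
  have htt' : ∀ v, t (t v) = v := fun v =>
    congrArg (fun f : (ι → F) ≃ₗ[F] (ι → F) => f v) htt
  have h1' : t (e a2) = s • e a1 := by
    have := htt' (e a1)
    rw [h1, map_smul] at this
    have h5 := congrArg (fun v => s • v) this
    simpa only [smul_smul, hs, one_smul] using h5
  have h3' : t (e b2) = s' • e b1 := by
    have := htt' (e b1)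
    rw [h3, map_smul] at this
    have h5 := congrArg (fun v => s' • v) this
    simpa only [smul_smul, hs', one_smul] using h5
  have htk : ∀ v, t (k v) = k (sg i j v) := by
    intro v
    have : t * k = k * sg i j := by rw [htd]; group
    exact congrArg (fun f : (ι → F) ≃ₗ[F] (ι → F) => f v) this
  have hktinv : ∀ v, t v = v → sg i j (k⁻¹ v) = k⁻¹ v := by
    intro v hv
    have := htk (k⁻¹ v)
    rw [ki, hv] at this
    rw [← ik k (sg i j (k⁻¹ v)), ← this]
  have htK : t ∈ K := K.mul_mem (K.mul_mem hk (D.sg i j hij)) hkinvK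
  have htI := D.iso t htK
  -- the complement
  let Rs : Finset ι := Finset.univ \ {a1, a2, b1, b2}
  have h4card : ({a1, a2, b1, b2} : Finset ι).card = 4 := by
    rw [Finset.card_insert_of_notMem, Finset.card_insert_of_notMem, Finset.card_pair nbc]
    · simp [n2b, n2c]
    · simp [n12, n1b, n1c]
  have hRcard : Rs.card = 3 := by
    rw [Finset.card_sdiff_of_subset (Finset.subset_univ _), Finset.card_univ, hN, h4card]
  obtain ⟨r0, r1, r2, n01, n02, n12', hRs⟩ := Finset.card_eq_three.1 hRcard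
  have hmem : ∀ p, p ∈ Rs ↔ p ≠ a1 ∧ p ≠ a2 ∧ p ≠ b1 ∧ p ≠ b2 := by
    intro p; simp [Rs]
  have hmem' : ∀ p, p ∈ Rs ↔ p = r0 ∨ p = r1 ∨ p = r2 := by
    intro p; rw [hRs]; simp
  let r : Fin 3 → ι := ![r0, r1, r2]
  have hrR : ∀ n, r n ∈ Rs := by
    intro n; rw [hmem']
    fin_cases n
    · exact Or.inl rfl
    · exact Or.inr (Or.inl rfl)
    · exact Or.inr (Or.inr rfl)
  have hrinj : Function.Injective r := by
    intro m n hmn
    fin_cases m <;> fin_cases n <;> first | rfl | (exfalso; revert hmn; simp [r, n01, n02, n12', Ne.symm n01, Ne.symm n02, Ne.symm n12'])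
  have hout : ∀ p, (∀ m, p ≠ r m) → p ∉ Rs := by
    intro p hp hmemp
    rw [hmem'] at hmemp
    rcases hmemp with h | h | h
    · exact hp 0 h
    · exact hp 1 h
    · exact hp 2 h
  have htr : ∀ n, t (e (r n)) = e (r n) := by
    intro n
    have := (hmem _).1 (hrR n)
    exact hfix _ this.1 this.2.1 this.2.2.1 this.2.2.2
  have hne : ∀ n, r n ≠ a1 ∧ r n ≠ a2 ∧ r n ≠ b1 ∧ r n ≠ b2 := fun n => (hmem _).1 (hrR n)
  -- elements commuting with t: those trivial outside Rs and permuting the e (r n) up to sign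
  have hbasis : ∀ p, p = a1 ∨ p = a2 ∨ p = b1 ∨ p = b2 ∨ ∃ n, p = r n := by
    intro p
    by_cases hp : p ∈ Rs
    · rw [hmem'] at hp
      rcases hp with h | h | h
      · exact Or.inr (Or.inr (Or.inr (Or.inr ⟨0, h⟩)))
      · exact Or.inr (Or.inr (Or.inr (Or.inr ⟨1, h⟩)))
      · exact Or.inr (Or.inr (Or.inr (Or.inr ⟨2, h⟩)))
    · rw [hmem] at hp
      by_contra hcon
      push Not at hcon
      exact hp ⟨hcon.1, hcon.2.1, hcon.2.2.1, hcon.2.2.2.1⟩
  have hcommR : ∀ g : (ι → F) ≃ₗ[F] (ι → F), g (e a1) = e a1 → g (e a2) = e a2 → g (e b1) = e b1 →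
      g (e b2) = e b2 → (∀ n, ∃ m, g (e (r n)) = e (r m) ∨ g (e (r n)) = - e (r m)) →
      g * t = t * g := by
    intro g g1 g2 g3 g4 g5
    apply comm_of
    intro p
    rcases hbasis p with rfl | rfl | rfl | rfl | ⟨n, rfl⟩
    · rw [h1, map_smul, g2, g1, h1]
    · rw [h1', map_smul, g1, g2, h1']
    · rw [h3, map_smul, g4, g3, h3]
    · rw [h3', map_smul, g3, g4, h3']
    · obtain ⟨m, hm⟩ := g5 n
      rw [htr n]
      rcases hm with hm | hm
      · rw [hm, htr m]
      · rw [hm, map_neg, htr m]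
  -- conjugates are monomial
  have hconjM : ∀ g ∈ K, g * t = t * g → Mon (k⁻¹ * g * k) := by
    intro g hg hgt
    apply hc _ (K.mul_mem (K.mul_mem hkinvK hg) hk) i j hij
    have h5 : sg i j = k⁻¹ * t * k := by rw [htd]; group
    rw [h5]
    calc k⁻¹ * g * k * (k⁻¹ * t * k) = k⁻¹ * (g * t) * k := by group
      _ = k⁻¹ * (t * g) * k := by rw [hgt]
      _ = k⁻¹ * t * k * (k⁻¹ * g * k) := by group
  let E : Fin 3 → ((ι → F) ≃ₗ[F] (ι → F)) := ![sg r1 r2, sg r2 r0, sg r0 r1]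
  have hsgin : ∀ (u v q : ι), (q = u ∨ q = v) → sg u v (e q : ι → F) = - e q := by
    intro u v q h; rw [H24.FrFam.sg_e, if_pos h]
  have hsgout : ∀ (u v q : ι), q ≠ u → q ≠ v → sg u v (e q : ι → F) = e q := by
    intro u v q h h'; rw [H24.FrFam.sg_e, if_neg (not_or.2 ⟨h, h'⟩)]
  have T : Tri r E := by
    refine ⟨hrinj, ?_, ?_, ?_⟩
    · intro n
      fin_cases n
      · exact hsgout r1 r2 r0 n01 n02
      · exact hsgout r2 r0 r1 n12' (Ne.symm n01)
      · exact hsgout r0 r1 r2 (Ne.symm n02) (Ne.symm n12')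
    · intro n m hmn
      fin_cases n <;> fin_cases m <;> first | exact absurd rfl hmn | skip
      · exact hsgin r1 r2 r1 (Or.inl rfl)
      · exact hsgin r1 r2 r2 (Or.inr rfl)
      · exact hsgin r2 r0 r0 (Or.inr rfl)
      · exact hsgin r2 r0 r2 (Or.inl rfl)
      · exact hsgin r0 r1 r0 (Or.inl rfl)
      · exact hsgin r0 r1 r1 (Or.inr rfl)
    · intro n p hp
      fin_cases n
      · exact hsgout r1 r2 p (hp 1) (hp 2)
      · exact hsgout r2 r0 p (hp 2) (hp 0)
      · exact hsgout r0 r1 p (hp 0) (hp 1)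
  have hEK : ∀ n, E n ∈ K := by
    intro n
    fin_cases n
    · exact D.sg r1 r2 n12'
    · exact D.sg r2 r0 (Ne.symm n02)
    · exact D.sg r0 r1 n01
  have hE0 : ∀ n, E n * E n = 1 := by
    intro n
    fin_cases n <;> exact sg_sq _ _
  have hE1 : E 0 * E 1 = E 2 := by
    apply ext_e
    intro p
    show sg r1 r2 (sg r2 r0 (e p)) = sg r0 r1 (e p)
    by_cases p0 : p = r0
    · subst p0
      rw [hsgin r2 p p (Or.inr rfl), map_neg, hsgout r1 r2 p n01 n02, hsgin p r1 p (Or.inl rfl)]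
    by_cases p1 : p = r1
    · subst p1
      rw [hsgout r2 r0 p n12' p0, hsgin p r2 p (Or.inl rfl), hsgin r0 p p (Or.inr rfl)]
    by_cases p2 : p = r2
    · subst p2
      rw [hsgin p r0 p (Or.inl rfl), map_neg, hsgin r1 p p (Or.inr rfl), neg_neg,
        hsgout r0 r1 p p0 p1]
    · rw [hsgout r2 r0 p p2 p0, hsgout r1 r2 p p1 p2, hsgout r0 r1 p p0 p1]
  have hE2 : E 1 * E 0 = E 2 := by
    rw [← hE1]
    exact H24.FrFam.sg_comm _ _ _ _
  have hsgcomm : ∀ u v, u ≠ v → u ∈ Rs → v ∈ Rs → (sg u v : (ι → F) ≃ₗ[F] (ι → F)) * t = t * sg u v := by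
    intro u v _ hu hv
    rw [hmem] at hu hv
    apply hcommR
    · exact hsgout _ _ _ (Ne.symm hu.1) (Ne.symm hv.1)
    · exact hsgout _ _ _ (Ne.symm hu.2.1) (Ne.symm hv.2.1)
    · exact hsgout _ _ _ (Ne.symm hu.2.2.1) (Ne.symm hv.2.2.1)
    · exact hsgout _ _ _ (Ne.symm hu.2.2.2) (Ne.symm hv.2.2.2)
    · intro n
      refine ⟨n, ?_⟩
      rw [H24.FrFam.sg_e]
      split_ifs
      · right; rfl
      · left; rfl
  have hEM : ∀ n, Mon (k⁻¹ * E n * k) := by
    intro n
    apply hconjM _ (hEK n)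
    fin_cases n
    · exact hsgcomm r1 r2 n12' (hrR 1) (hrR 2)
    · exact hsgcomm r2 r0 (Ne.symm n02) (hrR 2) (hrR 0)
    · exact hsgcomm r0 r1 n01 (hrR 0) (hrR 1)
  have hkneg : ∀ (v : ι → F) (m : Fin 3), t v = - v → v (r m) = 0 := by
    intro v m hv
    have h5 := htI v (e (r m))
    rw [hv, htr, neg_dotProduct, dot_e] at h5
    exact neg_eq_self h2 h5.symm
  have hki' : ∀ m, k (e i) (r m) = 0 := by
    intro m
    apply hkneg
    rw [htk, hsgin i j i (Or.inl rfl), map_neg]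
  have hkj' : ∀ m, k (e j) (r m) = 0 := by
    intro m
    apply hkneg
    rw [htk, hsgin i j j (Or.inr rfl), map_neg]
  -- the 3-cycle
  let σ := H83.FrNorm.cyc r0 r1 r2
  have hσ0 : σ r0 = r1 := H83.FrNorm.cyc_1 n01 n02
  have hσ1 : σ r1 = r2 := H83.FrNorm.cyc_2 n02 n12'
  have hσ2 : σ r2 = r0 := H83.FrNorm.cyc_3 r0 r1 r2
  have hσo : ∀ p, p ≠ r0 → p ≠ r1 → p ≠ r2 → σ p = p := fun p a b c => H83.FrNorm.cyc_4 a b c
  have hσn : ∀ n, σ (r n) = r (n + 1) := by
    intro n
    fin_cases n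
    · exact hσ0
    · exact hσ1
    · exact hσ2
  have hcK : pm σ ∈ K := D.pm σ (H83.FrNorm.cyc_sign n01 n12')
  have hc1 : ∀ n, pm σ (e (r n) : ι → F) = e (r (n + 1)) := by
    intro n; rw [pm_e, hσn]
  have hcfix : ∀ p, p ∉ Rs → pm σ (e p : ι → F) = e p := by
    intro p hp
    rw [hmem'] at hp
    push Not at hp
    rw [pm_e, hσo p hp.1 hp.2.1 hp.2.2]
  have hcM : Mon (k⁻¹ * pm σ * k) := by
    apply hconjM _ hcK
    apply hcommR
    · exact hcfix _ (fun h => ((hmem _).1 h).1 rfl)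
    · exact hcfix _ (fun h => ((hmem _).1 h).2.1 rfl)
    · exact hcfix _ (fun h => ((hmem _).1 h).2.2.1 rfl)
    · exact hcfix _ (fun h => ((hmem _).1 h).2.2.2 rfl)
    · intro n; exact ⟨n + 1, Or.inl (hc1 n)⟩
  have hcMP : MP (pm σ : (ι → F) ≃ₗ[F] (ι → F)) σ := fun p => Or.inl (pm_e σ p)
  have hcE : ∀ n, pm σ * E n * (pm σ)⁻¹ = E (n + 1) := by
    intro n
    fin_cases n
    · show pm σ * sg r1 r2 * (pm σ)⁻¹ = sg r2 r0
      rw [hcMP.conj_sg, hσ1, hσ2]
    · show pm σ * sg r2 r0 * (pm σ)⁻¹ = sg r0 r1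
      rw [hcMP.conj_sg, hσ2, hσ0]
    · show pm σ * sg r0 r1 * (pm σ)⁻¹ = sg r1 r2
      rw [hcMP.conj_sg, hσ0, hσ1]
  -- y and z
  have hyt : (sg a1 a2 : (ι → F) ≃ₗ[F] (ι → F)) * t = t * sg a1 a2 := by
    apply comm_of
    intro p
    rcases hbasis p with rfl | rfl | rfl | rfl | ⟨n, rfl⟩
    · rw [h1, map_smul, hsgin p a2 a2 (Or.inr rfl), hsgin p a2 p (Or.inl rfl), map_neg, h1, smul_neg]
    · rw [h1', map_smul, hsgin a1 p a1 (Or.inl rfl), hsgin a1 p p (Or.inr rfl), map_neg, h1', smul_neg]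
    · rw [h3, map_smul, hsgout a1 a2 b2 (Ne.symm n1c) (Ne.symm n2c),
        hsgout a1 a2 p (Ne.symm n1b) (Ne.symm n2b), h3]
    · rw [h3', map_smul, hsgout a1 a2 b1 (Ne.symm n1b) (Ne.symm n2b),
        hsgout a1 a2 p (Ne.symm n1c) (Ne.symm n2c), h3']
    · rw [htr, hsgout a1 a2 (r n) (hne n).1 (hne n).2.1, htr]
  have hzt : (sg b1 b2 : (ι → F) ≃ₗ[F] (ι → F)) * t = t * sg b1 b2 := by
    apply comm_of
    intro p
    rcases hbasis p with rfl | rfl | rfl | rfl | ⟨n, rfl⟩
    · rw [h1, map_smul, hsgout b1 b2 a2 n2b n2c, hsgout b1 b2 p n1b n1c, h1]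
    · rw [h1', map_smul, hsgout b1 b2 a1 n1b n1c, hsgout b1 b2 p n2b n2c, h1']
    · rw [h3, map_smul, hsgin p b2 b2 (Or.inr rfl), hsgin p b2 p (Or.inl rfl), map_neg, h3, smul_neg]
    · rw [h3', map_smul, hsgin b1 p b1 (Or.inl rfl), hsgin b1 p p (Or.inr rfl), map_neg, h3', smul_neg]
    · rw [htr, hsgout b1 b2 (r n) (hne n).2.2.1 (hne n).2.2.2, htr]
  have hyK : sg a1 a2 ∈ K := D.sg a1 a2 n12
  have hzK : sg b1 b2 ∈ K := D.sg b1 b2 nbc
  let w : ι → F := e a1 + s • e a2
  let w' : ι → F := e b1 + s' • e b2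
  have htw : t w = w := by
    show t (e a1 + s • e a2) = e a1 + s • e a2
    rw [map_add, map_smul, h1, h1', smul_smul, hs, one_smul, add_comm]
  have htw' : t w' = w' := by
    show t (e b1 + s' • e b2) = e b1 + s' • e b2
    rw [map_add, map_smul, h3, h3', smul_smul, hs', one_smul, add_comm]
  have hcoord0 : ∀ v : ι → F, sg i j v = v → v i = 0 ∧ v j = 0 := by
    intro v hv
    constructor
    · have h5 := congrFun hv i
      rw [sg_apply, if_pos (Or.inl rfl)] at h5
      exact neg_eq_self h2 h5.symm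
    · have h5 := congrFun hv j
      rw [sg_apply, if_pos (Or.inr rfl)] at h5
      exact neg_eq_self h2 h5.symm
  have hwc := hcoord0 _ (hktinv w htw)
  have hwc' := hcoord0 _ (hktinv w' htw')
  have hmain := core D h2 hN hk hij T hEK hE0 hE1 hE2 hEM hki' hkj' hc1 hcE hcM
    (y := sg a1 a2) (z := sg b1 b2) hyK hzK
    (fun n => hsgout _ _ _ (hne n).1 (hne n).2.1)
    (fun n => hsgout _ _ _ (hne n).2.2.1 (hne n).2.2.2)
    (hconjM _ hyK hyt) (hconjM _ hzK hzt) (w := w) (w' := w')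
    (by
      show sg a1 a2 (e a1 + s • e a2) = - (e a1 + s • e a2)
      rw [map_add, map_smul, hsgin a1 a2 a1 (Or.inl rfl), hsgin a1 a2 a2 (Or.inr rfl)]
      module)
    (by
      show sg b1 b2 (e b1 + s' • e b2) = - (e b1 + s' • e b2)
      rw [map_add, map_smul, hsgin b1 b2 b1 (Or.inl rfl), hsgin b1 b2 b2 (Or.inr rfl)]
      module)
    hwc.1 hwc.2 hwc'.1 hwc'.2 (a := a1)
    (by
      show (e a1 + s • e a2 : ι → F) a1 ≠ 0
      simp [e_apply, n12])
    (by
      show (e b1 + s' • e b2 : ι → F) a1 = 0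
      simp [e_apply, n1b, n1c])
    (by
      intro h5
      have h6 := congrFun h5 b1
      have h7 : (e b1 + s' • e b2 : ι → F) b1 = 0 := h6
      simp [e_apply, nbc] at h7)
  have hMinv : Mon k⁻¹ := by
    refine H41.FrP1a.step0 D h2 hkinvK (I := {a1, a2, b1, b2}) (by rw [h4card]; norm_num) ?_
      (fun x hx hxs => hr x hx _ (by rw [h4card]; norm_num) hxs)
    intro p hp
    have hpR : p ∈ Rs := by
      rw [hmem]; simpa using hp
    rw [hmem'] at hpR
    rcases hpR with rfl | rfl | rfl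
    · exact hmain 0
    · exact hmain 1
    · exact hmain 2
  have := mon_inv hMinv
  rwa [inv_inv] at this

end H20.FrC
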