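import Cfsg.Agent.Lib.H20.Height

/-!
# `p`-power maps modulo `M` (Külshammer's trick)

For `a ∈ RG` and a class function `θ` with values in `R`:
`θ(a^(p^n)) ≡ ∑ a(g)^(p^n) θ(g^(p^n))`.  For `w ∈ Z(RG)` and `Ω_n = ∑_{x^(p^n)=1} x`:
`((Ω_n w)(g))^(p^n) ≡ (w^(p^n))(g^(p^n))`.
-/

set_option autoImplicit false
set_option linter.unusedSectionVars false
set_option linter.unusedVariables false
set_option linter.style.haveILetI false
open Cfsg H20.Loc H20.GA H20.Blk H20.DefGrp H20.Orth H20.Defect H20.Ind H20.Height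
open scoped ComplexConjugate

namespace H20.PPow

universe u
variable {G : Type u} [Group G] [Finite G]
variable {M : Ideal AlgInt} {p : ℕ}

/-- power sums modulo `M` -/
theorem locI_sum_pow (hM : IsPModular p M) {ι : Type*} (s : Finset ι) (f : ι → ℂ)
    (hf : ∀ i ∈ s, MemLocalRing M (f i)) (n : ℕ) :
    MemLocalIdeal M ((∑ i ∈ s, f i) ^ (p ^ n) - ∑ i ∈ s, f i ^ (p ^ n)) := by
  haveI := pm_isPrime hM
  haveI : M.IsMaximal := hM.2.1
  haveI := charP_resF hM
  haveI : Fact p.Prime := ⟨pm_prime hM⟩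
  have hpow : ∀ (x : ℂ) (hx : MemLocalRing M x) (k : ℕ), redFun M (x ^ k) = redFun M x ^ k := by
    intro x hx k
    induction k with
    | zero => rw [pow_zero, pow_zero, redFun_one]
    | succ k ih => rw [pow_succ, pow_succ, redFun_mul (locR_pow hx k) hx, ih]
  rw [← redFun_eq_iff (locR_pow (locR_sum hf) _) (locR_sum fun i hi => locR_pow (hf i hi) _),
    hpow _ (locR_sum hf), redFun_sum hf, redFun_sum fun i hi => locR_pow (hf i hi) _,
    sum_pow_char_pow]
  exact Finset.sum_congr rfl fun i hi => (hpow _ (hf i hi) _).symm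

/-- The `p^n`-power map on the group algebra modulo `M`. -/
theorem evA_pow_congr [Fintype G] (hM : IsPModular p M) {a : MonoidAlgebra ℂ G}
    (ha : ∀ g, MemLocalRing M (a.coeff g)) {θ : G → ℂ} (hθ : IsClassFunction G θ)
    (hθR : ∀ g, MemLocalRing M (θ g)) (n : ℕ) :
    MemLocalIdeal M (evA θ (a ^ (p ^ n)) - ∑ g : G, a.coeff g ^ (p ^ n) * θ (g ^ (p ^ n))) := by
  classical
  haveI := pm_isPrime hM
  haveI : Fact p.Prime := ⟨pm_prime hM⟩
  set q := p ^ n with hq
  have hq0 : 0 < q := pow_pos (pm_prime hM).pos n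
  let T : Equiv.Perm (Fin q → G) := H19.Rot.shiftPerm (1 : Equiv.Perm G) hq0 1 one_pos (one_pow 1)
  have hTap : ∀ w, T w = H19.Rot.shift (1 : Equiv.Perm G) hq0 w := fun w => rfl
  let F : (Fin q → G) → ℂ := fun w => (∏ i, a.coeff (w i)) * θ ((List.ofFn w).prod)
  have hext : ∀ (w : Fin q → G) (i : ℕ), H19.Rot.ext (1 : Equiv.Perm G) hq0 w i =
      w ⟨i % q, Nat.mod_lt _ hq0⟩ := by
    intro w i
    unfold H19.Rot.ext
    rw [one_pow]
    rfl
  have hFe : ∀ w, F w = (∏ i ∈ Finset.range q, a.coeff (H19.Rot.ext (1 : Equiv.Perm G) hq0 w i)) *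
      θ (H19.Rot.pr (fun i => H19.Rot.ext (1 : Equiv.Perm G) hq0 w i) q) := by
    intro w
    have h1 : ∏ i, a.coeff (w i) =
        ∏ i ∈ Finset.range q, a.coeff (H19.Rot.ext (1 : Equiv.Perm G) hq0 w i) := by
      rw [Finset.prod_range]
      apply Finset.prod_congr rfl
      intro i _
      rw [H19.Rot.ext_fin]
    have h2 : (List.ofFn w).prod =
        H19.Rot.pr (fun i => H19.Rot.ext (1 : Equiv.Perm G) hq0 w i) q := by
      rw [← H19.Rot.pr_ofFn]
      congr 2
      funext i
      rw [H19.Rot.ext_fin]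
    change (∏ i, a.coeff (w i)) * θ ((List.ofFn w).prod) = _
    rw [h1, h2]
  have hadef : a = ∑ g : G, MonoidAlgebra.single g (a.coeff g) := by
    conv_lhs => rw [← MonoidAlgebra.sum_coeff_single a]
    rw [Finsupp.sum_fintype]
    intro i; simp
  have hsum : evA θ (a ^ q) = ∑ w, F w := by
    conv_lhs => rw [hadef]
    rw [H19.Rot.sum_pow_eq, map_sum]
    apply Finset.sum_congr rfl
    intro w _
    rw [H19.Rot.single_list_prod, evA_single]
  -- invariance
  have hinv : ∀ w, F (T w) = F w := by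
    intro w
    have hTw : ∀ i, H19.Rot.ext (1 : Equiv.Perm G) hq0 (T w) i =
        H19.Rot.ext (1 : Equiv.Perm G) hq0 w (i + 1) := fun i => H19.Rot.ext_shift _ hq0 w i
    rw [hFe, hFe]
    simp only [hTw]
    have hper : H19.Rot.ext (1 : Equiv.Perm G) hq0 w q = H19.Rot.ext (1 : Equiv.Perm G) hq0 w 0 := by
      have := H19.Rot.ext_add_q (1 : Equiv.Perm G) hq0 w 0
      rwa [zero_add] at this
    congr 1
    · apply H19.Rot.prod_shift (fun i => a.coeff (H19.Rot.ext (1 : Equiv.Perm G) hq0 w i))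
      change a.coeff (H19.Rot.ext (1 : Equiv.Perm G) hq0 w q) = _
      rw [hper]
    · set b : ℕ → G := fun i => H19.Rot.ext (1 : Equiv.Perm G) hq0 w i with hb
      have h1 := H19.Rot.pr_succ b q
      rw [H19.Rot.pr_succ' b q] at h1
      have h2 : b q = b 0 := hper
      rw [h2] at h1
      have h3 : H19.Rot.pr (fun i => b (i + 1)) q = (b 0)⁻¹ * H19.Rot.pr b q * ((b 0)⁻¹)⁻¹ := by
        rw [mul_assoc, inv_inv, ← h1]; group
      change θ (H19.Rot.pr (fun i => b (i + 1)) q) = θ (H19.Rot.pr b q)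
      rw [h3, hθ]
  -- group action of the cyclic group generated by T
  let C := Subgroup.zpowers T
  have hTq : T ^ q = 1 := by
    ext1 w
    change ((H19.Rot.shiftPerm (1 : Equiv.Perm G) hq0 1 one_pos (one_pow 1)) ^ q) w = _
    rw [H19.Rot.shiftPerm_pow_apply]
    have := H19.Rot.shift_iterate_eq (1 : Equiv.Perm G) hq0 1 (one_pow 1) w
    rw [one_mul] at this
    exact this
  have hCp : IsPGroup p C := by
    rw [IsPGroup.iff_orderOf]
    rintro ⟨c, hc⟩
    obtain ⟨k, rfl⟩ := Subgroup.mem_zpowers_iff.mp hc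
    have h1 : orderOf (T ^ k) ∣ p ^ n := by
      apply orderOf_dvd_of_pow_eq_one
      rw [← hq, ← zpow_natCast, ← zpow_mul, mul_comm, zpow_mul, zpow_natCast, hTq, one_zpow]
    obtain ⟨j, _, hj⟩ := (Nat.dvd_prime_pow (pm_prime hM)).1 h1
    refine ⟨j, ?_⟩
    rw [← hj, ← Subgroup.orderOf_coe]
  have hFC : ∀ (c : C) (w : Fin q → G), F (c • w) = F w := by
    rintro ⟨c, hc⟩ w
    obtain ⟨k, rfl⟩ := Subgroup.mem_zpowers_iff.mp hc
    change F ((T ^ k) w) = F w
    have hnat : ∀ (m : ℕ) (w : Fin q → G), F ((T ^ m) w) = F w := by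
      intro m
      induction m with
      | zero => intro w; simp
      | succ m ih => intro w; rw [pow_succ, Equiv.Perm.mul_apply, ih, hinv]
    obtain ⟨m, rfl | rfl⟩ := k.eq_nat_or_neg
    · simpa using hnat m w
    · have := hnat m ((T ^ (-(m:ℤ))) w)
      rw [← this]
      congr 1
      rw [← Equiv.Perm.mul_apply]
      simp
  have hFR : ∀ w, MemLocalRing M (F w) := fun w => locR_mul (locR_prod fun i _ => ha _) (hθR _)
  have h1 := sum_fixed_congr hM hCp F hFR hFC
  rw [hsum]
  have h2 : ∑ w : Fin q → G, (if ∀ c : C, c • w = w then F w else 0) =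
      ∑ g : G, a.coeff g ^ q * θ (g ^ q) := by
    rw [← Finset.sum_filter]
    symm
    apply Finset.sum_bij' (fun (g : G) _ => (fun _ : Fin q => g)) (fun w _ => w ⟨0, hq0⟩)
    · intro g _
      rw [Finset.mem_filter]
      refine ⟨Finset.mem_univ _, ?_⟩
      have hTg : T (fun _ : Fin q => g) = fun _ => g := by
        rw [hTap]
        funext i
        unfold H19.Rot.shift
        rw [hext]
      rintro ⟨c, hc⟩
      obtain ⟨k, rfl⟩ := Subgroup.mem_zpowers_iff.mp hc
      change (T ^ k) (fun _ => g) = fun _ => g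
      exact Function.IsFixedPt.perm_zpow hTg k
    · intro w _; exact Finset.mem_univ _
    · intro g _; rfl
    · intro w hw
      rw [Finset.mem_filter] at hw
      have hTw : T w = w := hw.2 ⟨T, Subgroup.mem_zpowers T⟩
      have h3 : ∀ i, H19.Rot.ext (1 : Equiv.Perm G) hq0 w (i + 1) =
          H19.Rot.ext (1 : Equiv.Perm G) hq0 w i := by
        intro i
        have := H19.Rot.ext_shift (1 : Equiv.Perm G) hq0 w i
        rw [← this]
        rw [← hTap, hTw]
      have h4 : ∀ i, H19.Rot.ext (1 : Equiv.Perm G) hq0 w i =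
          H19.Rot.ext (1 : Equiv.Perm G) hq0 w 0 := by
        intro i
        induction i with
        | zero => rfl
        | succ i ih => rw [h3, ih]
      funext i
      have h5 := h4 i
      rw [H19.Rot.ext_fin, H19.Rot.ext_lt _ hq0 w 0 hq0] at h5
      exact h5.symm
    · intro g _
      change _ = (∏ i : Fin q, a.coeff g) * θ ((List.ofFn fun _ : Fin q => g).prod)
      rw [Finset.prod_const, Finset.card_univ, Fintype.card_fin, List.ofFn_const, List.prod_replicate]
  rw [h2] at h1
  exact h1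

open Classical in
/-- the sum of the elements `x` with `x^(p^n) = 1`. -/
noncomputable def Om (G : Type u) [Group G] [Finite G] (p n : ℕ) : ZG G :=
  zof (fun g => if g ^ (p ^ n) = 1 then 1 else 0) (by
    intro g h
    have : (h * g * h⁻¹) ^ (p ^ n) = 1 ↔ g ^ (p ^ n) = 1 := by
      rw [conj_pow]
      constructor
      · intro h1
        have h2 := congrArg (fun x => h⁻¹ * x * h) h1
        simpa [mul_assoc] using h2
      · intro h1
        rw [h1]; simp
    simp only [this])

theorem zc_Om_of {n : ℕ} {g : G} (h : g ^ (p ^ n) = 1) : zc (Om G p n) g = 1 := if_pos h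
theorem zc_Om_not {n : ℕ} {g : G} (h : ¬ g ^ (p ^ n) = 1) : zc (Om G p n) g = 0 := if_neg h

theorem Om_mem [M.IsPrime] (n : ℕ) : Om G p n ∈ zr M G := by
  intro g
  by_cases h : g ^ (p ^ n) = 1
  · rw [zc_Om_of h]; exact locR_one
  · rw [zc_Om_not h]; exact locR_zero

theorem zc_pow_mem [M.IsPrime] {w : ZG G} (hw : w ∈ zr M G) (k : ℕ) (g : G) :
    MemLocalRing M (zc (w ^ k) g) := (Subring.pow_mem _ hw k) g

theorem coeff_mul_single_inv (w : MonoidAlgebra ℂ G) (g h : G) :
    (w * MonoidAlgebra.single g⁻¹ 1).coeff h = w.coeff (h * g) := by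
  rw [MonoidAlgebra.coeff_mul_single_apply]
  simp

/-- Külshammer's identity. -/
theorem Om_mul_pow (hM : IsPModular p M) [M.IsPrime] {w : ZG G} (hw : w ∈ zr M G) (n : ℕ) (g : G) :
    MemLocalIdeal M ((zc (Om G p n * w) g) ^ (p ^ n) - zc (w ^ (p ^ n)) (g ^ (p ^ n))) := by
  classical
  letI := Fintype.ofFinite G
  set q := p ^ n with hq
  let δ : G → ℂ := fun x => if x = 1 then 1 else 0
  have hδ : IsClassFunction G δ := by
    intro x h
    have : h * x * h⁻¹ = 1 ↔ x = 1 := by
      constructor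
      · intro h1
        have h2 := congrArg (fun y => h⁻¹ * y * h) h1
        simpa [mul_assoc] using h2
      · rintro rfl; simp
    simp only [δ, this]
  have hδR : ∀ x, MemLocalRing M (δ x) := by
    intro x
    simp only [δ]
    split_ifs
    · exact locR_one
    · exact locR_zero
  let a : MonoidAlgebra ℂ G := toA w * MonoidAlgebra.single g⁻¹ 1
  have hac : ∀ h, a.coeff h = zc w (h * g) := fun h => coeff_mul_single_inv (toA w) g h
  have haR : ∀ h, MemLocalRing M (a.coeff h) := fun h => by rw [hac]; exact hw _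
  have h1 := evA_pow_congr hM haR hδ hδR n
  rw [← hq] at h1
  -- left side
  have h2 : evA δ (a ^ q) = zc (w ^ q) (g ^ q) := by
    have hcomm : Commute (toA w) (MonoidAlgebra.single g⁻¹ 1) := toA_comm w _
    have h3 : a ^ q = toA (w ^ q) * MonoidAlgebra.single (g ^ q)⁻¹ 1 := by
      change (toA w * MonoidAlgebra.single g⁻¹ 1) ^ q = _
      rw [hcomm.mul_pow, map_pow, MonoidAlgebra.single_pow, one_pow, inv_pow]
    rw [h3, evA_eq_sum, Finset.sum_eq_single (1 : G)]
    · simp only [δ, if_true, mul_one]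
      rw [coeff_mul_single_inv, one_mul]
      rfl
    · intro x _ hx
      simp only [δ, if_neg hx, mul_zero]
    · intro h; exact absurd (Finset.mem_univ _) h
  rw [h2] at h1
  -- right side
  have h4 : ∑ h : G, a.coeff h ^ q * δ (h ^ q) =
      ∑ h ∈ Finset.univ.filter (fun h : G => h ^ q = 1), (zc w (h * g)) ^ q := by
    rw [Finset.sum_filter]
    refine Finset.sum_congr rfl fun h _ => ?_
    rw [hac]
    simp only [δ]
    by_cases hh : h ^ q = 1
    · rw [if_pos hh, if_pos hh, mul_one]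
    · rw [if_neg hh, if_neg hh, mul_zero]
  have h5 : zc (Om G p n * w) g =
      ∑ h ∈ Finset.univ.filter (fun h : G => h ^ q = 1), zc w (h * g) := by
    rw [zc_mul, Finset.sum_filter]
    rw [← Equiv.sum_comp (Equiv.inv G)]
    refine Finset.sum_congr rfl fun h _ => ?_
    simp only [Equiv.inv_apply, inv_inv]
    by_cases hh : h ^ q = 1
    · rw [if_pos hh, zc_Om_of (by rw [← hq, inv_pow, hh, inv_one]), one_mul]
    · rw [if_neg hh, zc_Om_not (by rwa [← hq, inv_pow, inv_eq_one]), zero_mul]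
  rw [h4] at h1
  rw [h5]
  exact locI_trans (locI_sum_pow hM _ _ (fun h _ => hw _) n) (locI_sub_comm.1 h1)

/-- S0928 (Knörr): a character vanishing on elements of order `p` has `p`-defect zero. -/
theorem knorr (hM : IsPModular p M) (χ : IrrCharacter G)
    (hvan : ∀ g : G, orderOf g = p → (χ : G → ℂ) g = 0) :
    (charDegree (χ : G → ℂ)).factorization p = (Nat.card G).factorization p := by
  classical
  haveI := pm_isPrime hM
  haveI : Fact p.Prime := ⟨pm_prime hM⟩
  letI := Fintype.ofFinite G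
  set B := blockOf M (χ : G → ℂ) with hBdef
  have hB : IsPBlock M B := isPBlock_blockOf χ
  have hχ : χ ∈ B := mem_blockOf_self χ
  have h1 : omega χ (Om G p 1) = 1 := by
    rw [omega_eq_sum, Finset.sum_eq_single (1 : G)]
    · rw [zc_Om_of (by simp), one_mul, div_self (H18.CharBasic.irr_one_ne_zero χ.2)]
    · intro g _ hg
      by_cases hp : g ^ (p ^ 1) = 1
      · rw [hvan g (by rw [pow_one] at hp; exact orderOf_eq_prime hp hg), mul_zero]
      · rw [zc_Om_not hp, zero_mul]
    · intro h; exact absurd (Finset.mem_univ _) h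
  obtain ⟨w, hw, hew⟩ := exists_mul_eq_eB_block hB (Om_mem (p := p) 1)
    ⟨χ, hχ, by rw [h1]; exact not_locI_one⟩
  obtain ⟨y, hy⟩ := exists_isDefectClass hB
  have hyreg := regular_of_isDefectClass hM hB hy
  -- p does not divide |C(y)|
  have hC : ¬ p ∣ Nat.card (Subgroup.centralizer ({y} : Set G)) := by
    intro hd
    obtain ⟨z, hz⟩ := exists_prime_orderOf_dvd_card' p hd
    have hzy : Commute (z : G) y := Subgroup.mem_centralizer_singleton_iff.1 z.2
    have hzo : orderOf (z : G) = p := by rw [Subgroup.orderOf_coe]; exact hz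
    have h2 : ((z : G) * y) ^ p = y ^ p := by
      rw [hzy.mul_pow, ← hzo, pow_orderOf_eq_one, one_mul]
    have h3 := Om_mul_pow hM hw 1 y
    have h4 := Om_mul_pow hM hw 1 ((z : G) * y)
    rw [← hew, zc_eB, pow_one] at h3 h4
    rw [h2] at h4
    have h5 : blockCoeff B ((z : G) * y) = 0 := by
      apply blockCoeff_eq_zero hM (isUnion_of_isPBlock hB)
      have hcop : Nat.Coprime (orderOf (z : G)) (orderOf y) := by
        rw [hzo]; exact (Nat.Prime.coprime_iff_not_dvd (pm_prime hM)).2 hyreg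
      rw [hzy.orderOf_mul_eq_mul_orderOf_of_coprime hcop, hzo]
      exact Dvd.intro _ rfl
    rw [h5, zero_pow (pm_prime hM).ne_zero] at h4
    have h6 : MemLocalIdeal M (blockCoeff B y ^ p) := by
      have := locI_trans h3 (locI_sub_comm.1 h4)
      rwa [sub_zero] at this
    exact hy.2.1 (locI_of_pow (blockCoeff_memR hB y) h6)
  have hd0 : blockDefect p B = 0 := by
    rw [blockDefect_eq hM hB hy]
    exact Nat.factorization_eq_zero_of_not_dvd hC
  exact (H20.DefZero.blockDefect_eq_zero_iff hM hB hχ).1 hd0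

end H20.PPow
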