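import Mathlib
import Cfsg.Prelude.Def_Blocks
import Cfsg.Agent.Lib.H20.Nil
import Cfsg.Agent.Lib.H20.PPow
import Cfsg.Agent.Lib.H20.Height
import Cfsg.Agent.Lib.H20.NPC

/-! Külshammer's formula for the principal block idempotent (S0940). -/

set_option autoImplicit false
set_option linter.unusedSectionVars false
set_option linter.unusedVariables false
set_option linter.style.haveILetI false
open Cfsg H20.Loc H20.GA H20.Blk H20.DefGrp H20.Defect H20.Orth H20.Height H20.NPC
open scoped ComplexConjugate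

universe u

namespace H20.Kuls

variable {G : Type u} [Group G] [Finite G]
variable {M : Ideal AlgInt} {p : ℕ}

theorem height_one (hM : IsPModular p M) (B : Set (IrrCharacter G)) (hB : IsPBlock M B)
    (h1 : one G ∈ B) : blockHeight p B (one G : G → ℂ) = 0 := by
  have : charDegree (one G : G → ℂ) = 1 := charDegree_one
  rw [blockHeight, this]
  simp

/-- exponents `n` with `g ^ (p ^ n) = g` for `p`-regular `g` and `x ^ (p ^ n) = 1` for `p`-elements -/
theorem exists_exponent [hp : Fact p.Prime] (n0 : ℕ) : ∃ n : ℕ, n0 ≤ n ∧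
    (∀ g : G, ¬ p ∣ orderOf g → g ^ (p ^ n) = g) ∧
    ∀ x : G, (x ^ (p ^ n) = 1 ↔ ∃ k : ℕ, orderOf x = p ^ k) := by
  set a := (Nat.card G).factorization p with ha
  set m := Nat.card G / p ^ a with hm
  have hG : Nat.card G ≠ 0 := Nat.card_pos.ne'
  have hm' : ¬ p ∣ m := Nat.not_dvd_ordCompl hp.out hG
  have hmul : p ^ a * m = Nat.card G := Nat.ordProj_mul_ordCompl_eq_self _ _
  have hm0 : 0 < m := Nat.pos_of_ne_zero fun h => hm' (h ▸ dvd_zero p)
  have hcop : Nat.Coprime p m := (Nat.Prime.coprime_iff_not_dvd hp.out).2 hm'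
  have hphi : 0 < m.totient := Nat.totient_pos.2 hm0
  refine ⟨m.totient * (n0 + a), ?_, ?_, ?_⟩
  · calc n0 ≤ 1 * (n0 + a) := by omega
      _ ≤ m.totient * (n0 + a) := Nat.mul_le_mul_right _ hphi
  · intro g hg
    have h1 : orderOf g ∣ m := by
      have h2 : orderOf g ∣ p ^ a * m := by rw [hmul]; exact orderOf_dvd_natCard g
      exact (Nat.Coprime.pow_right a ((Nat.Prime.coprime_iff_not_dvd hp.out).2 hg).symm).dvd_of_dvd_mul_left h2
    have h2 : p ^ (m.totient * (n0 + a)) ≡ 1 [MOD m] := by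
      rw [pow_mul]
      have := (Nat.ModEq.pow_totient hcop).pow (n0 + a)
      rwa [one_pow] at this
    have h3 := pow_eq_pow_iff_modEq.2 (h2.of_dvd h1)
    rw [h3, pow_one]
  · intro x
    constructor
    · intro h
      obtain ⟨k, _, hk⟩ := (Nat.dvd_prime_pow hp.out).1 (orderOf_dvd_of_pow_eq_one h)
      exact ⟨k, hk⟩
    · rintro ⟨k, hk⟩
      have h1 : k ≤ a := by
        have h2 : p ^ k ∣ Nat.card G := by rw [← hk]; exact orderOf_dvd_natCard x
        exact (hp.out.pow_dvd_iff_le_factorization hG).1 h2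
      have h2 : k ≤ m.totient * (n0 + a) := by
        calc k ≤ 1 * (n0 + a) := by omega
          _ ≤ m.totient * (n0 + a) := Nat.mul_le_mul_right _ hphi
      rw [← orderOf_dvd_iff_pow_eq_one, hk]
      exact pow_dvd_pow p h2

/-- the sum of the `p`-regular elements -/
noncomputable def Y (G : Type u) [Group G] [Finite G] (p : ℕ) : ZG G :=
  zreg p (one G : G → ℂ) (irr_class (one G))

theorem zc_Y_of {g : G} (h : ¬ p ∣ orderOf g) : zc (Y G p) g = 1 := by
  rw [Y, zc_zreg_of _ h]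
  exact map_one _

theorem zc_Y_not {g : G} (h : p ∣ orderOf g) : zc (Y G p) g = 0 := zc_zreg_not _ h

theorem Y_mem [M.IsPrime] : Y G p ∈ zr M G := zreg_mem _ (irr_int (one G))

theorem omega_Y_eq (χ : IrrCharacter G) : omega χ (Y G p) = Q p χ (one G : G → ℂ) (irr_class (one G)) := rfl

theorem omega_Y_one : omega (one G) (Y G p) = (Nat.card {y : G // ¬ p ∣ orderOf y} : ℂ) := by
  classical
  letI := Fintype.ofFinite G
  rw [omega_eq_sum]
  have h1 : ∀ g : G, zc (Y G p) g * (one G : G → ℂ) g = if ¬ p ∣ orderOf g then 1 else 0 := by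
    intro g
    show zc (Y G p) g * 1 = _
    rw [mul_one]
    by_cases h : p ∣ orderOf g
    · rw [zc_Y_not h, if_neg (not_not.2 h)]
    · rw [zc_Y_of h, if_pos h]
  simp_rw [h1]
  show _ / (1 : ℂ) = _
  rw [div_one, Finset.sum_boole, Nat.card_eq_fintype_card, Fintype.card_subtype]

/-- The number of `p`-regular elements is prime to `p`. -/
theorem not_dvd_card_regular (hM : IsPModular p M) : ¬ MemLocalIdeal M
    (Nat.card {y : G // ¬ p ∣ orderOf y} : ℂ) := by
  haveI := pm_isPrime hM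
  rw [← omega_Y_one, omega_Y_eq]
  have hB : IsPBlock M (blockOf M (one G : G → ℂ)) := isPBlock_blockOf _
  exact Q_unit_of_height_zero hM hB (mem_blockOf_self _) (mem_blockOf_self _)
    (height_one hM _ hB (mem_blockOf_self _))

/-- `ω_χ(Y)` is congruent to `|G_{p'}| ω_χ(e_0)`. -/
theorem omega_Y_congr (hM : IsPModular p M) [M.IsPrime] (χ : IrrCharacter G) :
    MemLocalIdeal M (omega χ (Y G p) - omega χ ((Nat.card {y : G // ¬ p ∣ orderOf y} : ℂ) •
      eB (principalBlock M G))) := by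
  rw [map_smul, smul_eq_mul]
  by_cases h : χ ∈ principalBlock M G
  · rw [omega_eB_mem h, mul_one, ← omega_Y_one]
    have h' : SameBlock M (one G : G → ℂ) (χ : G → ℂ) := h
    have h2 := sameBlock_iff.1 h' (Y G p) Y_mem
    exact locI_sub_comm.1 h2
  · rw [omega_eB_notMem h, mul_zero, sub_zero, omega_Y_eq, Q_eq_zero hM (ψ := one G)]
    · exact locI_zero
    · intro h'
      exact h (sameBlock_symm h')

theorem eB_pow (S : Set (IrrCharacter G)) {n : ℕ} (hn : n ≠ 0) : eB S ^ n = eB S := by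
  obtain ⟨k, rfl⟩ := Nat.exists_eq_succ_of_ne_zero hn
  induction k with
  | zero => rw [Nat.succ_eq_add_one, zero_add, pow_one]
  | succ k ih => rw [pow_succ, ih (Nat.succ_ne_zero k), eB_mul_eB_self]

theorem natCast_pow_congr (hM : IsPModular p M) (N n : ℕ) :
    MemLocalIdeal M ((N : ℂ) ^ (p ^ n) - (N : ℂ)) := by
  haveI : Fact p.Prime := ⟨pm_prime hM⟩
  have h1 : ((N ^ (p ^ n) : ℕ) : ℤ) - ((N : ℕ) : ℤ) = ((N : ℤ) ^ (p ^ n) - (N : ℤ)) := by push_cast; ring
  have h2 : (p : ℤ) ∣ (N : ℤ) ^ (p ^ n) - (N : ℤ) := by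
    rw [← (ZMod.intCast_zmod_eq_zero_iff_dvd _ p)]
    push_cast
    rw [ZMod.pow_card_pow, sub_self]
  have h3 := (locI_intCast_iff hM).2 h2
  push_cast at h3
  exact h3

theorem kulshammer (hM : IsPModular p M) {g : G} (hg : ¬ p ∣ orderOf g) :
    MemLocalIdeal M (blockCoeff (principalBlock M G) g -
      (Nat.card {xy : G × G // (∃ k : ℕ, orderOf xy.1 = p ^ k) ∧ ¬ p ∣ orderOf xy.2 ∧
        xy.1 * xy.2 = g} : ℂ) / (Nat.card {y : G // ¬ p ∣ orderOf y} : ℂ)) := by
  classical
  haveI := pm_isPrime hM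
  haveI : Fact p.Prime := ⟨pm_prime hM⟩
  letI := Fintype.ofFinite G
  set R := Nat.card {y : G // ¬ p ∣ orderOf y} with hR
  set N := Nat.card {xy : G × G // (∃ k : ℕ, orderOf xy.1 = p ^ k) ∧ ¬ p ∣ orderOf xy.2 ∧
        xy.1 * xy.2 = g} with hN
  set e := eB (principalBlock M G) with he
  have hB : IsPBlock M (principalBlock M G) := isPBlock_blockOf (one G)
  have heR : (R : ℂ) • e ∈ zr M G := smul_mem (locR_natCast _) (eB_mem hB)
  obtain ⟨n0, hn0⟩ := H20.Nil.pow_congr_of_omega hM (z := Y G p) (w := (R : ℂ) • e) Y_mem heR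
    (fun χ => omega_Y_congr hM χ)
  obtain ⟨n, hn, hreg, hpel⟩ := exists_exponent (G := G) (p := p) n0
  have hq0 : p ^ n ≠ 0 := pow_ne_zero _ (pm_prime hM).ne_zero
  have h1 := hn0 n hn g
  rw [smul_pow, eB_pow _ hq0, zc_sub, zc_smul] at h1
  have h2 := H20.PPow.Om_mul_pow hM (w := Y G p) Y_mem n g
  rw [hreg g hg] at h2
  -- the coefficient is `N`
  have h3 : zc (H20.PPow.Om G p n * Y G p) g = (N : ℂ) := by
    rw [zc_mul, hN]
    have h4 : ∀ x : G, zc (H20.PPow.Om G p n) x * zc (Y G p) (x⁻¹ * g) =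
        if (∃ k : ℕ, orderOf x = p ^ k) ∧ ¬ p ∣ orderOf (x⁻¹ * g) then 1 else 0 := by
      intro x
      by_cases hx : ∃ k : ℕ, orderOf x = p ^ k
      · rw [H20.PPow.zc_Om_of ((hpel x).2 hx), one_mul]
        by_cases hy : p ∣ orderOf (x⁻¹ * g)
        · rw [zc_Y_not hy, if_neg (fun h => h.2 hy)]
        · rw [zc_Y_of hy, if_pos ⟨hx, hy⟩]
      · rw [H20.PPow.zc_Om_not (fun h => hx ((hpel x).1 h)), zero_mul, if_neg (fun h => hx h.1)]
    simp_rw [h4]
    rw [Finset.sum_boole]
    norm_cast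
    rw [Nat.card_eq_fintype_card, Fintype.card_subtype]
    refine Finset.card_bij' (fun x _ => (x, x⁻¹ * g)) (fun xy _ => xy.1) ?_ ?_ ?_ ?_
    · intro x hx
      simp only [Finset.mem_filter, Finset.mem_univ, true_and] at hx ⊢
      exact ⟨hx.1, hx.2, by group⟩
    · intro xy hxy
      simp only [Finset.mem_filter, Finset.mem_univ, true_and] at hxy ⊢
      refine ⟨hxy.1, ?_⟩
      rw [← hxy.2.2, inv_mul_cancel_left]
      exact hxy.2.1
    · intro x _; rfl
    · intro xy hxy
      simp only [Finset.mem_filter, Finset.mem_univ, true_and] at hxy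
      apply Prod.ext
      · rfl
      · show xy.1⁻¹ * g = xy.2
        rw [← hxy.2.2, inv_mul_cancel_left]
  rw [h3] at h2
  -- combine
  have h5 : MemLocalIdeal M ((N : ℂ) - (R : ℂ) * zc e g) := by
    have h6 := locI_sub_comm.1 (natCast_pow_congr hM N n)
    have h7 := locI_trans (locI_trans h6 h2) h1
    have h8 : MemLocalIdeal M (((R : ℂ) ^ (p ^ n)) * zc e g - (R : ℂ) * zc e g) := by
      rw [← sub_mul]
      exact locI_mul_right (natCast_pow_congr hM R n) (eB_mem hB g)
    exact locI_trans h7 h8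
  have hRu := not_dvd_card_regular (G := G) hM
  rw [← hR] at hRu
  have hR0 := ne_zero_of_not_locI hRu
  have h9 := locI_mul_left (locR_inv (locR_natCast R) hRu) h5
  have h10 : (R : ℂ)⁻¹ * ((N : ℂ) - (R : ℂ) * zc e g) =
      -(blockCoeff (principalBlock M G) g - (N : ℂ) / (R : ℂ)) := by
    rw [he, zc_eB]
    field_simp
    ring
  rw [h10] at h9
  have := locI_neg h9
  rwa [neg_neg] at this

end H20.Kuls
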